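import Groth.Agent.Lib.Helper5.SV.FixedOrder

/-! Orders of differentials read through expansions (helper5). -/

set_option autoImplicit false

namespace FunFld
namespace SV

open WithZero LocRes

variable {k K : Type*} [Field k] [Field K] [Algebra k K]

section chain

variable [PerfectField k] (hK : IsFunctionField k K)
variable {t : K} {Ht : K →ₐ[k] PowerSeries K} (hHt : IsHasseFamily t Ht)

include hK hHt in
/-- Chain rule: the derivative of the expansion of `y` is the expansion of `dy/dt` times the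
derivative of the expansion of `t`. -/
theorem D_expansion_eq (Φ : K →ₐ[k] LaurentSeries k) (y : K) :
    LocRes.D k (Φ y) = Φ (hasseD Ht 1 y) * LocRes.D k (Φ t) := by
  let _ : Algebra K (LaurentSeries k) := Φ.toRingHom.toAlgebra
  have hsm : ∀ (y : K) (m : LaurentSeries k), y • m = Φ y * m := fun y m => rfl
  have : IsScalarTower k K (LaurentSeries k) := ⟨fun c y m => by
    rw [hsm, hsm, Algebra.smul_def, map_mul, Φ.commutes, LocRes.algebraMap_eq_C, mul_assoc,
      HahnSeries.C_mul_eq_smul]⟩
  let δ₁ : Derivation k K (LaurentSeries k) := (LocRes.D k).compAlgebraMap K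
  let δ₂ : Derivation k K (LaurentSeries k) :=
    (LinearMap.toSpanSingleton K (LaurentSeries k) (LocRes.D k (Φ t))).compDer (hasseDer hHt)
  have h1 : ∀ z, δ₁ z = LocRes.D k (Φ z) := fun z => rfl
  have h2 : ∀ z, δ₂ z = Φ (hasseD Ht 1 z) * LocRes.D k (Φ t) := fun z => rfl
  have h0 : (δ₁ - δ₂) t = 0 := by
    rw [Derivation.sub_apply, h1, h2, hasseD_one_self hHt, map_one, one_mul, sub_self]
  have h3 := derivation_eq_zero_of_isHasseFamily hK hHt (δ₁ - δ₂) h0
  have h4 : (δ₁ - δ₂) y = 0 := by rw [h3]; rfl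
  rw [Derivation.sub_apply, h1, h2, sub_eq_zero] at h4
  exact h4

end chain

section laurent

/-- A Laurent series of order one has derivative of order zero. -/
theorem valued_D_of_valued_eq {g : LaurentSeries k} (hg : Valued.v g = exp (-1 : ℤ)) :
    Valued.v (LocRes.D k g) = 1 := by
  have h1 : ∀ n : ℤ, n < 1 → g.coeff n = 0 :=
    (LaurentSeries.valuation_le_iff_coeff_lt_eq_zero k).1 hg.le
  have h2 : g.coeff 1 ≠ 0 := by
    intro h0
    have : Valued.v g ≤ exp (-2 : ℤ) := by
      rw [LaurentSeries.valuation_le_iff_coeff_lt_eq_zero k]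
      intro n hn
      rcases lt_or_eq_of_le (show n ≤ 1 by omega) with h | h
      · exact h1 n h
      · rw [h]; exact h0
    rw [hg, exp_le_exp] at this
    omega
  have h3 : Valued.v (LocRes.D k g) ≤ 1 := by
    rw [← exp_zero, ← neg_zero, LaurentSeries.valuation_le_iff_coeff_lt_eq_zero k]
    intro n hn
    rw [LocRes.D_coeff, h1 (n + 1) (by omega), smul_zero]
  have h4 : ¬ Valued.v (LocRes.D k g) ≤ exp (-1 : ℤ) := by
    intro h
    have := (LaurentSeries.valuation_le_iff_coeff_lt_eq_zero k).1 h 0 (by norm_num)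
    rw [LocRes.D_coeff] at this
    simp at this
    exact h2 this
  have h5 : Valued.v (LocRes.D k g) ≠ 0 := by
    intro h0
    rw [h0] at h4
    exact h4 zero_le
  rw [← exp_log h5] at h3 h4 ⊢
  rw [← exp_zero, exp_le_exp] at h3
  rw [exp_le_exp, not_le] at h4
  rw [← exp_zero]
  congr 1
  omega

end laurent

section ordDiff

variable [PerfectField k] (hK : IsFunctionField k K)
variable {P : Place k K} {t : K} (ht : P.1 t = exp (-1 : ℤ))
variable {Ht : K →ₐ[k] PowerSeries K} (hHt : IsHasseFamily t Ht)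

include hK ht hHt in
/-- The valuation of `u dv` read through an expansion at `P` is that of `u · dv/dt`. -/
theorem vDiff_eq {Φ : K →ₐ[k] LaurentSeries k} (hΦ : IsExpansionAt P.1 Φ) (u v : K) :
    LocRes.vDiff Φ u v = P.1 (u * hasseD Ht 1 v) := by
  unfold LocRes.vDiff
  rw [D_expansion_eq hK hHt Φ v, ← mul_assoc, ← map_mul, map_mul, hΦ.1,
    valued_D_of_valued_eq (by rw [hΦ.1, ht]), mul_one]

include hK ht hHt in
/-- The order of `u dv` read through an expansion at `P` is that of `u · dv/dt`. -/
theorem ordDiff_eq {Φ : K →ₐ[k] LaurentSeries k} (hΦ : IsExpansionAt P.1 Φ) (u v : K) :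
    LocRes.ordDiff Φ u v = P.ord (u * hasseD Ht 1 v) := by
  unfold LocRes.ordDiff
  rw [vDiff_eq hK ht hHt hΦ]
  rfl

include hK ht hHt in
theorem ordDiff_one_self {Φ : K →ₐ[k] LaurentSeries k} (hΦ : IsExpansionAt P.1 Φ) :
    LocRes.ordDiff Φ 1 t = 0 := by
  rw [ordDiff_eq hK ht hHt hΦ, hasseD_one_self hHt, mul_one]
  simp [Place.ord]

include hK ht hHt in
/-- The divisor of `dt` vanishes at a place where `t` is a local parameter. -/
theorem divDiff_one_self_apply {Φ : Place k K → (K →ₐ[k] LaurentSeries k)}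
    (hΦ : ∀ P : Place k K, IsExpansionAt P.1 (Φ P)) : divDiff Φ 1 t P = 0 := by
  unfold divDiff
  split_ifs with h
  · rw [Finsupp.ofSupportFinite_coe]
    exact ordDiff_one_self hK ht hHt (hΦ P)
  · rfl

end ordDiff

end SV
end FunFld
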