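import Groth.Agent.Lib.Helper5.SV.Classical
import Groth.Agent.Lib.Helper5.FunFld.FiniteSing
import Groth.Agent.Lib.Helper5.LocRes.Integral

/-! The divisor of a differential has finite support (helper5). -/

set_option autoImplicit false

namespace FunFld
namespace SV

open WithZero LocRes

variable {k K : Type*} [Field k] [Field K] [Algebra k K]

section chain1

variable [PerfectField k] (hK : IsFunctionField k K)
variable {s t : K} {Hs Ht : K →ₐ[k] PowerSeries K}

include hK in
/-- Chain rule for first Hasse derivatives. -/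
theorem hasseD_one_chain (hHs : IsHasseFamily s Hs) (hHt : IsHasseFamily t Ht) (y : K) :
    hasseD Ht 1 y = hasseD Hs 1 y * hasseD Ht 1 s := by
  let δ : Derivation k K K := hasseDer hHt - (hasseD Ht 1 s) • hasseDer hHs
  have h0 : δ s = 0 := by
    show hasseD Ht 1 s - hasseD Ht 1 s * hasseD Hs 1 s = 0
    rw [hasseD_one_self hHs, mul_one, sub_self]
  have h1 := derivation_eq_zero_of_isHasseFamily hK hHs δ h0
  have h2 : δ y = 0 := by rw [h1]; rfl
  have h3 : hasseD Ht 1 y - hasseD Ht 1 s * hasseD Hs 1 y = 0 := h2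
  rw [sub_eq_zero] at h3
  rw [h3, mul_comm]

omit [PerfectField k] in
lemma hasseD_one_algebraMap (H : K →ₐ[k] PowerSeries K) (c : k) :
    hasseD H 1 (algebraMap k K c) = 0 := by
  rw [hasseD_apply, H_algebraMap, PowerSeries.coeff_C, if_neg one_ne_zero]

end chain1

section subalgebra

variable {P : Place k K} {t : K}
variable {Ht : K →ₐ[k] PowerSeries K} (hHt : IsHasseFamily t Ht)

/-- The integral elements whose derivative vanishes at `P`, as a subalgebra. -/
def critSubalgebra (P : Place k K) {t : K} {Ht : K →ₐ[k] PowerSeries K}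
    (hHt : IsHasseFamily t Ht) : Subalgebra k K where
  carrier := {z | P.1 z ≤ 1 ∧ P.1 (hasseD Ht 1 z) < 1}
  mul_mem' {a b} ha hb := by
    refine ⟨by rw [map_mul]; exact mul_le_one' ha.1 hb.1, ?_⟩
    rw [hasseD_one_mul hHt]
    refine lt_of_le_of_lt (Valuation.map_add _ _ _) (max_lt ?_ ?_)
    · rw [map_mul]
      exact lt_of_le_of_lt (mul_le_of_le_one_left zero_le ha.1) hb.2
    · rw [map_mul]
      exact lt_of_le_of_lt (mul_le_of_le_one_left zero_le hb.1) ha.2
  add_mem' {a b} ha hb := by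
    refine ⟨(Valuation.map_add _ _ _).trans (max_le ha.1 hb.1), ?_⟩
    rw [hasseD_add]
    exact lt_of_le_of_lt (Valuation.map_add _ _ _) (max_lt ha.2 hb.2)
  algebraMap_mem' c := by
    refine ⟨P.v_algebraMap_le c, ?_⟩
    rw [hasseD_one_algebraMap, map_zero]
    exact zero_lt_one

lemma mem_critSubalgebra {z : K} :
    z ∈ critSubalgebra P hHt ↔ P.1 z ≤ 1 ∧ P.1 (hasseD Ht 1 z) < 1 := Iff.rfl

lemma inv_mem_critSubalgebra {z : K} (hz : z ∈ critSubalgebra P hHt) (hv : P.1 z = 1) :
    z⁻¹ ∈ critSubalgebra P hHt := by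
  refine ⟨by rw [map_inv₀, hv, inv_one], ?_⟩
  have h := (hasseDer hHt).leibniz_inv z
  have h' : hasseD Ht 1 z⁻¹ = -z⁻¹ ^ 2 • hasseD Ht 1 z := h
  rw [h', smul_eq_mul, map_mul, Valuation.map_neg, map_pow, map_inv₀, hv, inv_one, one_pow,
    one_mul]
  exact hz.2

lemma t_notMem_critSubalgebra : t ∉ critSubalgebra P hHt := by
  intro h
  have := h.2
  rw [hasseD_one_self hHt, map_one] at this
  exact lt_irrefl _ this

end subalgebra

section finite

variable [IsAlgClosed k] (hK : IsFunctionField k K)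
variable {s : K} {Hs : K →ₐ[k] PowerSeries K} (hHs : IsHasseFamily s Hs)

include hK hHs in
/-- Away from a finite set of places, `ds` has order zero. -/
theorem exists_finite_bad_places :
    ∃ S : Set (Place k K), S.Finite ∧ ∀ P ∉ S, ∀ (t : K) (Ht : K →ₐ[k] PowerSeries K),
      P.1 t = exp (-1 : ℤ) → IsHasseFamily t Ht → P.1 (hasseD Ht 1 s) = 1 := by
  classical
  have := essFiniteType hK
  obtain ⟨T, hT⟩ := IntermediateField.fg_top k K
  have hs_nc : s ∉ Set.range (algebraMap k K) := by
    rintro ⟨c, rfl⟩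
    have h1 := hasseD_one_self hHs
    rw [hasseD_one_algebraMap] at h1
    exact zero_ne_one h1
  have hs0 : s ≠ 0 := by
    rintro rfl
    exact hs_nc ⟨0, map_zero _⟩
  set S0 : Finset K := insert (1 : K) (insert s (T.erase 0)) with hS0
  have hS0ne : ∀ x ∈ S0, x ≠ 0 := by
    intro x hx
    rw [hS0, Finset.mem_insert, Finset.mem_insert] at hx
    rcases hx with rfl | rfl | hx
    · exact one_ne_zero
    · exact hs0
    · exact (Finset.mem_erase.1 hx).1
  have h1S : (1 : K) ∈ S0 := Finset.mem_insert_self _ _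
  have hsS : s ∈ S0 := Finset.mem_insert_of_mem (Finset.mem_insert_self _ _)
  let ι := {x // x ∈ S0}
  have : Nonempty ι := ⟨⟨1, h1S⟩⟩
  set φ : ι → K := Subtype.val with hφ
  have hφ0 : ∀ i, φ i ≠ 0 := fun i => hS0ne _ i.2
  have hnc : ∀ j, ∃ i, φ i / φ j ∉ Set.range (algebraMap k K) := by
    intro j
    by_cases hj : φ j ∈ Set.range (algebraMap k K)
    · obtain ⟨c, hc⟩ := hj
      refine ⟨⟨s, hsS⟩, ?_⟩
      rintro ⟨d, hd⟩
      apply hs_nc
      refine ⟨d * c, ?_⟩
      rw [map_mul, hd, hc]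
      show s / φ j * φ j = s
      exact div_mul_cancel₀ _ (hφ0 j)
    · refine ⟨⟨1, h1S⟩, ?_⟩
      rintro ⟨d, hd⟩
      apply hj
      have hd' : algebraMap k K d = 1 / φ j := hd
      have hd0 : d ≠ 0 := by
        rintro rfl
        rw [map_zero] at hd'
        exact one_div_ne_zero (hφ0 j) hd'.symm
      refine ⟨d⁻¹, ?_⟩
      rw [map_inv₀, hd', one_div, inv_inv]
  have hbir : IntermediateField.adjoin k (Set.range fun i => φ i / φ ⟨1, h1S⟩) = ⊤ := by
    rw [eq_top_iff, ← hT]
    apply IntermediateField.adjoin_le_iff.2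
    intro x hx
    by_cases hx0 : x = 0
    · rw [hx0]; exact zero_mem _
    · apply IntermediateField.subset_adjoin
      have hxS : x ∈ S0 := Finset.mem_insert_of_mem (Finset.mem_insert_of_mem
        (Finset.mem_erase.2 ⟨hx0, hx⟩))
      refine ⟨⟨x, hxS⟩, ?_⟩
      show x / 1 = x
      rw [_root_.div_one]
  have hfin1 := finite_singular hK hφ0 hnc ⟨1, h1S⟩ hbir
  have hfin2 : (⋃ i : ι, {P : Place k K | ¬ P.1 (φ i) ≤ 1}).Finite :=
    Set.finite_iUnion fun i => finite_not_le_one hK (φ i)
  have hfin3 : (⋃ i : ι, {P : Place k K | ¬ P.1 (hasseD Hs 1 (φ i)) ≤ 1}).Finite :=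
    Set.finite_iUnion fun i => finite_not_le_one hK _
  refine ⟨_, (hfin1.union hfin2).union hfin3, ?_⟩
  intro P hPS t Ht ht hHt
  simp only [Set.mem_union, Set.mem_iUnion, Set.mem_ofPred_eq, not_or, not_exists, not_not]
    at hPS
  obtain ⟨⟨hns, hint⟩, hDint⟩ := hPS
  have hP := Place.deg_eq_one_of_isAlgClosed hK P
  have hle : P.1 (hasseD Ht 1 s) ≤ 1 := v_hasseD_le_one hK hP ht hHt (hint ⟨s, hsS⟩) 1
  refine le_antisymm hle ?_
  by_contra hlt
  push Not at hlt
  -- all the `φ i` lie in the critical subalgebra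
  have hmem : ∀ i, φ i ∈ critSubalgebra P hHt := by
    intro i
    refine ⟨hint i, ?_⟩
    rw [hasseD_one_chain hK hHs hHt, map_mul]
    exact lt_of_le_of_lt (mul_le_of_le_one_left zero_le (hDint i)) hlt
  obtain ⟨j, hj0, hjmax, u, hu, w, hw, hvw, htw⟩ := hns t (v_t_le_one ht)
  have hvj : P.1 (φ j) = 1 := by
    refine le_antisymm (hint j) ?_
    have := hjmax ⟨1, h1S⟩
    simpa [hφ] using this
  have hratio : Algebra.adjoin k (Set.range fun i => φ i / φ j) ≤ critSubalgebra P hHt := by
    apply Algebra.adjoin_le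
    rintro _ ⟨i, rfl⟩
    show φ i / φ j ∈ critSubalgebra P hHt
    rw [div_eq_mul_inv]
    exact (critSubalgebra P hHt).mul_mem (hmem i) (inv_mem_critSubalgebra hHt (hmem j) hvj)
  have hw0 : w ≠ 0 := by
    rintro rfl
    rw [map_zero] at hvw
    exact zero_ne_one hvw
  have : t ∈ critSubalgebra P hHt := by
    have ht' : u * w⁻¹ = t := by rw [← htw, mul_assoc, mul_inv_cancel₀ hw0, mul_one]
    have hmem' := (critSubalgebra P hHt).mul_mem (hratio hu)
      (inv_mem_critSubalgebra hHt (hratio hw) hvw)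
    exact ht' ▸ hmem'
  exact t_notMem_critSubalgebra hHt this

end finite

section divDiff

variable [IsAlgClosed k] (hK : IsFunctionField k K)
variable {s : K} {Hs : K →ₐ[k] PowerSeries K} (hHs : IsHasseFamily s Hs)

omit [IsAlgClosed k] in
include hHs in
/-- Every place has a local parameter with a total Hasse derivative. -/
theorem exists_param_hasseFamily (P : Place k K) :
    ∃ (t : K) (Ht : K →ₐ[k] PowerSeries K), P.1 t = exp (-1 : ℤ) ∧ IsHasseFamily t Ht := by
  obtain ⟨t, ht, hDt⟩ := exists_uniformizer_hasseD_ne_zero P hHs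
  obtain ⟨Ht, -, hHt, -, -⟩ := exists_isHasseFamily_of_hasseD_ne_zero hHs hDt
  exact ⟨t, Ht, ht, hHt⟩

include hK hHs in
/-- The order of a differential read through expansions has finite support. -/
theorem finite_support_ordDiff {Φ : Place k K → (K →ₐ[k] LaurentSeries k)}
    (hΦ : ∀ P : Place k K, IsExpansionAt P.1 (Φ P)) (u v : K) :
    (Function.support fun P : Place k K => LocRes.ordDiff (Φ P) u v).Finite := by
  obtain ⟨S, hS, hbad⟩ := exists_finite_bad_places hK hHs
  refine (hS.union (finite_support_ord hK (u * hasseD Hs 1 v))).subset ?_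
  intro P hP
  rw [Function.mem_support] at hP
  by_contra hnot
  rw [Set.mem_union, not_or, Function.mem_support, not_not] at hnot
  obtain ⟨hPS, hord⟩ := hnot
  obtain ⟨t, Ht, ht, hHt⟩ := exists_param_hasseFamily hHs P
  apply hP
  rw [ordDiff_eq hK ht hHt (hΦ P), hasseD_one_chain hK hHs hHt, ← mul_assoc]
  have h1 := hbad P hPS t Ht ht hHt
  by_cases h0 : u * hasseD Hs 1 v = 0
  · rw [h0, zero_mul]; simp
  · have hne : hasseD Ht 1 s ≠ 0 := by
      intro h
      rw [h, map_zero] at h1
      exact zero_ne_one h1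
    rw [P.ord_mul h0 hne, hord, zero_add, Place.ord, h1]
    simp

include hK hHs in
/-- The coefficients of the divisor of a differential. -/
theorem divDiff_apply {Φ : Place k K → (K →ₐ[k] LaurentSeries k)}
    (hΦ : ∀ P : Place k K, IsExpansionAt P.1 (Φ P)) (u v : K) (P : Place k K) :
    divDiff Φ u v P = LocRes.ordDiff (Φ P) u v := by
  unfold divDiff
  rw [dif_pos (finite_support_ordDiff hK hHs hΦ u v)]
  rfl

include hK hHs in
/-- The coefficient of the divisor of a differential, in terms of a local parameter. -/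
theorem divDiff_apply_eq_ord {Φ : Place k K → (K →ₐ[k] LaurentSeries k)}
    (hΦ : ∀ P : Place k K, IsExpansionAt P.1 (Φ P)) (u v : K) {P : Place k K} {t : K}
    (ht : P.1 t = exp (-1 : ℤ)) {Ht : K →ₐ[k] PowerSeries K} (hHt : IsHasseFamily t Ht) :
    divDiff Φ u v P = P.ord (u * hasseD Ht 1 v) := by
  rw [divDiff_apply hK hHs hΦ, ordDiff_eq hK ht hHt (hΦ P)]

end divDiff

end SV
end FunFld
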