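import Groth.Agent.Lib.Helper5.Tate.WeilDiff3
import Groth.Agent.Lib.Helper5.SV.DivDiff
import Groth.Agent.Lib.Helper5.SV.DiffOrd

/-! The divisor of `ds` is canonical (helper5). -/

set_option autoImplicit false

namespace FunFld
namespace SV

open WithZero LocRes

universe u v

variable {k : Type u} {K : Type v} [Field k] [Field K] [Algebra k K]
variable [IsAlgClosed k] (hK : IsFunctionField k K)
variable {s : K} {Hs : K →ₐ[k] PowerSeries K} (hHs : IsHasseFamily s Hs)
variable {Φ : Place k K → (K →ₐ[k] LaurentSeries k)}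
  (hΦ : ∀ P : Place k K, IsExpansionAt P.1 (Φ P))

include hK hHs hΦ in
lemma D_expansion_ne_zero (P : Place k K) : LocRes.D k (Φ P s) ≠ 0 := by
  obtain ⟨t, Ht, ht, hHt⟩ := exists_param_hasseFamily hHs P
  have h1 := vDiff_eq hK ht hHt (hΦ P) 1 s
  have h2 : P.1 (1 * hasseD Ht 1 s) ≠ 0 := by
    rw [one_mul]
    exact P.v_ne_zero (hasseD_one_ne_zero hK hHs hHt)
  intro h0
  apply h2
  rw [← h1, LocRes.vDiff, h0, mul_zero, map_zero]

include hK hHs hΦ in
/-- The divisor of `u ds` is canonical, for `u ≠ 0`. -/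
theorem isCanonical_divDiff (u : K) (hu : u ≠ 0) : IsCanonical k K (divDiff Φ u s) := by
  have hnd : ∀ (P : Place k K) (l : k), l ≠ 0 → ∃ c : k, Algebra.trace k k (c * l) ≠ 0 := by
    intro P l hl
    refine ⟨1, ?_⟩
    rw [one_mul, Algebra.trace_self_apply]
    exact hl
  obtain ⟨hne, -, hdiv⟩ := omegaDiff_isDivOf hK (fun _ => k) Φ hΦ u s hnd hu
    (D_expansion_ne_zero hK hHs hΦ)
  exact ⟨_, hne, hdiv _ (fun P => divDiff_apply hK hHs hΦ u s P)⟩

include hK hHs hΦ in
/-- The divisor of `ds` has degree `2g - 2`. -/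
theorem deg_divDiff : (divDiff Φ 1 s).deg = 2 * (genus k K : ℤ) - 2 :=
  deg_canonical hK (isCanonical_divDiff hK hHs hΦ 1 one_ne_zero)

end SV
end FunFld
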