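import Groth.Agent.Lib.Helper5.SV.DivDiff

/-! Invariance of the Weierstrass divisor (helper5, S12614). -/

set_option autoImplicit false

namespace FunFld
namespace SV

open WithZero LocRes

variable {k K : Type*} [Field k] [Field K] [Algebra k K]

section mapdiv

variable (hK : IsFunctionField k K)

omit hK in
/-- The least order of the entries bounds the order of every nonzero element of the span. -/
lemma minOrd_le_ord_of_mem_span {ι : Type*} [Fintype ι] [Nonempty ι] {φ : ι → K}
    (hφ0 : ∀ i, φ i ≠ 0) (P : Place k K) {f : K}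
    (hf : f ∈ Submodule.span k (Set.range φ)) (hf0 : f ≠ 0) : minOrd φ P ≤ P.ord f := by
  obtain ⟨a, rfl⟩ := (Submodule.mem_span_range_iff_exists_fun k).1 hf
  have h1 : P.1 (∑ i, a i • φ i) ≤ exp (-(minOrd φ P)) := by
    refine Valuation.map_sum_le _ fun i _ => ?_
    rw [Algebra.smul_def, map_mul]
    refine (mul_le_of_le_one_left zero_le (P.v_algebraMap_le _)).trans ?_
    rw [P.v_le_exp_iff (hφ0 i), neg_neg]
    exact minOrd_le φ P i
  rw [P.v_le_exp_iff hf0, neg_neg] at h1
  exact h1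

include hK in
/-- Tuples without zero entries spanning the same space have the same divisor. -/
theorem mapDiv_eq_of_span_eq {ι ι' : Type*} [Fintype ι] [Nonempty ι] [Fintype ι'] [Nonempty ι']
    {φ : ι → K} {ψ : ι' → K} (hφ0 : ∀ i, φ i ≠ 0) (hψ0 : ∀ i, ψ i ≠ 0)
    (h : Submodule.span k (Set.range φ) = Submodule.span k (Set.range ψ)) :
    mapDiv k φ = mapDiv k ψ := by
  ext P
  rw [mapDiv_apply hK, mapDiv_apply hK, neg_inj]
  apply le_antisymm
  · rw [le_minOrd_iff]
    intro i
    exact minOrd_le_ord_of_mem_span hφ0 P (h ▸ Submodule.subset_span ⟨i, rfl⟩) (hψ0 i)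
  · rw [le_minOrd_iff]
    intro i
    exact minOrd_le_ord_of_mem_span hψ0 P (h.symm ▸ Submodule.subset_span ⟨i, rfl⟩) (hφ0 i)

end mapdiv

section linear

/-- An invertible change of basis preserves the span. -/
theorem span_linear_change {n : ℕ} {φ ψ : Fin n → K} (A : Matrix (Fin n) (Fin n) k)
    (hA : A.det ≠ 0) (hψ : ∀ i, ψ i = ∑ j, A i j • φ j) :
    Submodule.span k (Set.range ψ) = Submodule.span k (Set.range φ) := by
  classical
  apply le_antisymm
  · rw [Submodule.span_le]
    rintro _ ⟨i, rfl⟩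
    rw [hψ i]
    exact Submodule.sum_mem _ fun j _ => Submodule.smul_mem _ _ (Submodule.subset_span ⟨j, rfl⟩)
  · rw [Submodule.span_le]
    rintro _ ⟨l, rfl⟩
    have hunit : IsUnit A.det := hA.isUnit
    have hBA : A⁻¹ * A = 1 := Matrix.nonsing_inv_mul A hunit
    have : φ l = ∑ i, A⁻¹ l i • ψ i := by
      have h1 : ∑ i, A⁻¹ l i • ψ i = ∑ j, (A⁻¹ * A) l j • φ j := by
        simp only [hψ, Finset.smul_sum, Matrix.mul_apply, Finset.sum_smul, mul_smul]
        rw [Finset.sum_comm]
      rw [h1, hBA]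
      simp [Matrix.one_apply, ite_smul]
    rw [SetLike.mem_coe, this]
    exact Submodule.sum_mem _ fun j _ => Submodule.smul_mem _ _ (Submodule.subset_span ⟨j, rfl⟩)

/-- A linearly independent family stays independent under an invertible change. -/
theorem linearIndependent_linear_change {n : ℕ} {φ ψ : Fin n → K} (hφ : LinearIndependent k φ)
    (A : Matrix (Fin n) (Fin n) k) (hA : A.det ≠ 0) (hψ : ∀ i, ψ i = ∑ j, A i j • φ j) :
    LinearIndependent k ψ := by
  classical
  have hspan := span_linear_change A hA hψ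
  have hfin : FiniteDimensional k (Submodule.span k (Set.range φ)) :=
    FiniteDimensional.span_of_finite k (Set.finite_range φ)
  rw [linearIndependent_iff_card_eq_finrank_span]
  have h1 := linearIndependent_iff_card_eq_finrank_span.1 hφ
  rw [h1]
  show Module.finrank k (Submodule.span k (Set.range φ)) =
    Module.finrank k (Submodule.span k (Set.range ψ))
  rw [hspan]

end linear

section invariance

variable [IsAlgClosed k] (hK : IsFunctionField k K)

include hK in
/-- Change of the separating variable in the divisor of `ds`. -/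
theorem divDiff_one_change {s t : K} {Hs Ht : K →ₐ[k] PowerSeries K}
    (hHs : IsHasseFamily s Hs) (hHt : IsHasseFamily t Ht)
    {Φ : Place k K → (K →ₐ[k] LaurentSeries k)}
    (hΦ : ∀ P : Place k K, IsExpansionAt P.1 (Φ P)) :
    divDiff Φ 1 s = divDiff Φ 1 t + div k (hasseD Ht 1 s) := by
  ext P
  obtain ⟨tP, HtP, htP, hHtP⟩ := exists_param_hasseFamily hHs P
  rw [Finsupp.add_apply, divDiff_apply_eq_ord hK hHs hΦ 1 s htP hHtP,
    divDiff_apply_eq_ord hK hHt hΦ 1 t htP hHtP, div_apply hK, one_mul, one_mul,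
    hasseD_one_chain hK hHt hHtP s,
    P.ord_mul (hasseD_one_ne_zero hK hHs hHt) (hasseD_one_ne_zero hK hHt hHtP)]
  ring

include hK in
/-- **S12614**: the Weierstrass divisor does not depend on the separating variable nor on the
representative of the class of the map. -/
theorem wDiv_invariant {n : ℕ} (φ : Fin (n + 1) → K) (hφ : LinearIndependent k φ)
    (τ : K →ₐ[k] K) (s : K) (Hs : K →ₐ[k] PowerSeries K) (hHs : IsHasseFamily s Hs)
    (t : K) (Ht : K →ₐ[k] PowerSeries K) (hHt : IsHasseFamily t Ht)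
    (J : Fin n → ℕ) (hJ : IsOrders K (hcol τ Hs φ) J)
    (A : Matrix (Fin (n + 1)) (Fin (n + 1)) k) (hA : A.det ≠ 0) (y : K) (hy : y ≠ 0)
    (φ' : Fin (n + 1) → K) (hφ' : ∀ i, φ' i = y * ∑ j, A i j • φ j)
    (Φ : Place k K → (K →ₐ[k] LaurentSeries k))
    (hΦ : ∀ P : Place k K, IsExpansionAt P.1 (Φ P)) :
    wDiv τ Ht Φ t φ' J = wDiv τ Hs Φ s φ J := by
  classical
  set ψ : Fin (n + 1) → K := fun i => ∑ j, A i j • φ j with hψ
  have hφ'ψ : φ' = y • ψ := funext fun i => hφ' i
  have hψli : LinearIndependent k ψ := linearIndependent_linear_change hφ A hA (fun i => rfl)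
  have hφ0 : ∀ i, φ i ≠ 0 := fun i => hφ.ne_zero i
  have hψ0 : ∀ i, ψ i ≠ 0 := fun i => hψli.ne_zero i
  have hspan : Submodule.span k (Set.range ψ) = Submodule.span k (Set.range φ) :=
    span_linear_change A hA (fun i => rfl)
  -- the orders are the same for all the data
  have hJt : IsOrders K (hcol τ Ht φ) J := (isOrders_chain_iff hK τ hHs hHt φ J).2 hJ
  have hJψ : IsOrders K (hcol τ Ht ψ) J :=
    (isOrders_linear_change τ Ht φ ψ A hA (fun i => rfl) J).2 hJt
  -- the determinants
  have hd1 : (wrMat τ Ht φ' J).det = τ y * y ^ n * (wrMat τ Ht ψ J).det := by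
    rw [hφ'ψ]; exact det_wrMat_smul τ hHt ψ y hJψ
  have hd2 : (wrMat τ Ht ψ J).det = algebraMap k K A.det * (wrMat τ Ht φ J).det := by
    rw [wrMat_linear_change τ Ht φ ψ A (fun i => rfl) J, Matrix.det_mul]
    congr 1
    rw [RingHom.map_det]; rfl
  have hd3 := det_wrMat_chain hK τ hHs hHt φ hJ
  have hdet0 : (wrMat τ Hs φ J).det ≠ 0 := det_wrMat_ne_zero_of_isOrders hφ τ Hs hJ
  have hDs0 : hasseD Ht 1 s ≠ 0 := hasseD_one_ne_zero hK hHs hHt
  have hτy : τ y ≠ 0 := (map_ne_zero τ).2 hy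
  have hA0 : algebraMap k K A.det ≠ 0 := (map_ne_zero _).2 hA
  have hdiv : div k (wrMat τ Ht φ' J).det = div k (τ y) + n • div k y +
      (∑ l, J l) • div k (hasseD Ht 1 s) + div k (wrMat τ Hs φ J).det := by
    rw [hd1, hd2, hd3,
      div_mul hK (mul_ne_zero hτy (pow_ne_zero _ hy))
        (mul_ne_zero hA0 (mul_ne_zero (pow_ne_zero _ hDs0) hdet0)),
      div_mul hK hτy (pow_ne_zero _ hy), div_pow hK,
      div_mul hK hA0 (mul_ne_zero (pow_ne_zero _ hDs0) hdet0), div_algebraMap hK, zero_add,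
      div_mul hK (pow_ne_zero _ hDs0) hdet0, div_pow hK]
    abel
  -- the divisors of the maps
  have hm1 : mapDiv k φ' = mapDiv k φ - div k y := by
    rw [hφ'ψ, mapDiv_smul hK hψ0 hy, mapDiv_eq_of_span_eq hK hψ0 hφ0 hspan]
  have hm2 : mapDiv k (τ ∘ φ') = mapDiv k (τ ∘ φ) - div k (τ y) := by
    have h1 : τ ∘ φ' = (τ y) • (τ ∘ ψ) := by
      funext i
      show τ (φ' i) = τ y * τ (ψ i)
      rw [hφ'ψ]
      show τ (y * ψ i) = _
      rw [map_mul]
    have hτψ0 : ∀ i, (τ ∘ ψ) i ≠ 0 := fun i => (map_ne_zero τ).2 (hψ0 i)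
    have hτφ0 : ∀ i, (τ ∘ φ) i ≠ 0 := fun i => (map_ne_zero τ).2 (hφ0 i)
    have hspan' : Submodule.span k (Set.range (τ ∘ ψ)) = Submodule.span k (Set.range (τ ∘ φ)) := by
      rw [Set.range_comp, Set.range_comp]
      have e : ∀ S : Set K, Submodule.span k (τ '' S) =
          (Submodule.span k S).map τ.toLinearMap := fun S => by
        rw [Submodule.map_span]; rfl
      rw [e, e, hspan]
    rw [h1, mapDiv_smul hK hτψ0 hτy, mapDiv_eq_of_span_eq hK hτψ0 hτφ0 hspan']
  have hdd := divDiff_one_change hK hHs hHt hΦ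
  unfold wDiv
  rw [hdiv, hm1, hm2, hdd]
  simp only [smul_sub, smul_add, natCast_zsmul]
  have e : ∀ (m : ℕ) (D : Divisor k K), (m : ℤ) • D = m • D := fun m D => natCast_zsmul D m
  have e2 : (∑ l, (J l : ℤ)) = ((∑ l, J l : ℕ) : ℤ) := by push_cast; rfl
  rw [e2, e, e]
  abel

end invariance

end SV
end FunFld
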