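import Groth.Agent.Lib.Helper5.SV.Local

/-! The expansion in a local parameter at a rational place is an expansion datum (helper5). -/

set_option autoImplicit false

namespace FunFld
namespace SV

open WithZero LocRes

variable {k K : Type*} [Field k] [Field K] [Algebra k K]
variable {P : Place k K} (hP : P.deg = 1) {t : K} (ht : P.1 t = exp (-1 : ℤ))

lemma valued_expandK_le_one {y : K} (hy : P.1 y ≤ 1) :
    Valued.v (expandK hP ht y) ≤ (1 : ℤᵐ⁰) := by
  rw [expandK_of_le hP ht hy]
  exact (LaurentSeries.val_le_one_iff_eq_coe k _).2 ⟨_, rfl⟩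

lemma valued_expandK_unit {w : K} (hw : P.1 w = 1) : Valued.v (expandK hP ht w) = (1 : ℤᵐ⁰) := by
  have hw0 : w ≠ 0 := by
    rintro rfl
    rw [map_zero] at hw
    exact zero_ne_one hw
  have h1 := valued_expandK_le_one hP ht hw.le
  have h2 : Valued.v (expandK hP ht w⁻¹) ≤ (1 : ℤᵐ⁰) :=
    valued_expandK_le_one hP ht (by rw [map_inv₀, hw, inv_one])
  have h3 : Valued.v (expandK hP ht w) * Valued.v (expandK hP ht w⁻¹) = (1 : ℤᵐ⁰) := by
    rw [← map_mul, ← map_mul, mul_inv_cancel₀ hw0, map_one, map_one]
  apply le_antisymm h1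
  by_contra hlt
  rw [not_le] at hlt
  have h0 : Valued.v (expandK hP ht w⁻¹) ≠ 0 := by
    intro h; rw [h, mul_zero] at h3; exact zero_ne_one h3
  have : Valued.v (expandK hP ht w) * Valued.v (expandK hP ht w⁻¹) <
      1 * Valued.v (expandK hP ht w⁻¹) :=
    mul_lt_mul_of_pos_right hlt (zero_lt_iff.2 h0)
  rw [h3, one_mul] at this
  exact absurd h2 (not_le.2 this)

include ht in
lemma valued_expandK_t : Valued.v (expandK hP ht t) = exp (-1 : ℤ) := by
  rw [expandK_of_le hP ht (v_t_le_one ht), expand_t hP ht]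
  have := LaurentSeries.valuation_X_pow k 1
  rw [pow_one] at this
  exact this

/-- The expansion in a local parameter carries the place to the `X`-adic valuation. -/
theorem valued_expandK (f : K) : Valued.v (expandK hP ht f) = P.1 f := by
  rcases eq_or_ne f 0 with rfl | hf
  · rw [map_zero, map_zero, map_zero]
  · have ht0 := t_ne_zero ht
    set m := P.ord f with hm
    set w := f * t ^ (-m) with hw
    have hwv : P.1 w = 1 := by
      rw [hw, map_mul, map_zpow₀, ht, P.v_eq_exp_neg_ord hf, ← exp_zsmul, ← exp_add]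
      rw [← exp_zero]
      congr 1
      rw [smul_eq_mul]
      ring
    have hf' : f = w * t ^ m := by
      rw [hw, mul_assoc, ← zpow_add₀ ht0, neg_add_cancel, zpow_zero, mul_one]
    conv_lhs => rw [hf']
    rw [map_mul, map_mul, map_zpow₀, map_zpow₀, valued_expandK_unit hP ht hwv,
      valued_expandK_t hP ht, one_mul, ← exp_zsmul, P.v_eq_exp_neg_ord hf]
    congr 1
    rw [smul_eq_mul]
    ring

/-- The expansion in a local parameter at a rational place is an expansion datum. -/
theorem isExpansionAt_expandK : IsExpansionAt P.1 (expandK hP ht) := by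
  refine ⟨valued_expandK hP ht, ?_, ⟨t, ht⟩⟩
  intro a
  refine ⟨algebraMap k K a, P.v_algebraMap_le a, ?_⟩
  rw [AlgHom.commutes, LocRes.algebraMap_eq_C, HahnSeries.C_apply, HahnSeries.coeff_single_same]

/-- Over an algebraically closed constant field, every place has an expansion datum. -/
theorem exists_expansion_family [IsAlgClosed k] (hK : IsFunctionField k K) :
    ∃ Φ : Place k K → (K →ₐ[k] LaurentSeries k), ∀ P : Place k K, IsExpansionAt P.1 (Φ P) := by
  have h : ∀ P : Place k K, ∃ φ : K →ₐ[k] LaurentSeries k, IsExpansionAt P.1 φ := by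
    intro P
    obtain ⟨t, ht⟩ := P.exists_uniformizer
    exact ⟨_, isExpansionAt_expandK (Place.deg_eq_one_of_isAlgClosed hK P) ht⟩
  choose Φ hΦ using h
  exact ⟨Φ, hΦ⟩

end SV
end FunFld
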