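import Groth.Agent.Lib.Helper5.SV.FixedPt

/-! Adapted bases with explicit change of basis (helper5). -/

set_option autoImplicit false

namespace FunFld
namespace SV

open WithZero LocRes

variable {k K : Type*} [Field k] [Field K] [Algebra k K]

/-- Two bases of the same subspace differ by an invertible matrix. -/
lemma exists_matrix_of_span_eq {n : ℕ} {φ φ' : Fin n → K} (hφ : LinearIndependent k φ)
    (hspan : Submodule.span k (Set.range φ') = Submodule.span k (Set.range φ)) :
    ∃ A : Matrix (Fin n) (Fin n) k, A.det ≠ 0 ∧ ∀ i, φ' i = ∑ j, A i j • φ j := by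
  classical
  have h1 : ∀ i, ∃ a : Fin n → k, ∑ j, a j • φ j = φ' i := fun i =>
    (Submodule.mem_span_range_iff_exists_fun k).1
      (hspan ▸ Submodule.subset_span ⟨i, rfl⟩)
  have h2 : ∀ i, ∃ b : Fin n → k, ∑ j, b j • φ' j = φ i := fun i =>
    (Submodule.mem_span_range_iff_exists_fun k).1
      (hspan.symm ▸ Submodule.subset_span ⟨i, rfl⟩)
  choose A hA using h1
  choose B hB using h2
  refine ⟨Matrix.of A, ?_, fun i => (hA i).symm⟩
  have hBA : Matrix.of B * Matrix.of A = 1 := by
    ext i l
    have hsum : ∑ l, ((Matrix.of B * Matrix.of A) i l - (1 : Matrix (Fin n) (Fin n) k) i l) • φ l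
        = 0 := by
      simp only [sub_smul, Finset.sum_sub_distrib]
      rw [sub_eq_zero]
      have e1 : ∑ l, (Matrix.of B * Matrix.of A) i l • φ l = φ i := by
        rw [← hB i]
        simp only [Matrix.mul_apply, Matrix.of_apply, Finset.sum_smul]
        rw [Finset.sum_comm]
        refine Finset.sum_congr rfl fun j _ => ?_
        rw [← hA j, Finset.smul_sum]
        refine Finset.sum_congr rfl fun l _ => ?_
        rw [mul_smul]
      have e2 : ∑ l, (1 : Matrix (Fin n) (Fin n) k) i l • φ l = φ i := by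
        simp [Matrix.one_apply, ite_smul]
      rw [e1, e2]
    have := Fintype.linearIndependent_iff.1 hφ _ hsum l
    exact sub_eq_zero.1 this
  intro h0
  have := congrArg Matrix.det hBA
  rw [Matrix.det_mul, h0, mul_zero, Matrix.det_one] at this
  exact zero_ne_one this

section adapted

variable [PerfectField k] (hK : IsFunctionField k K)
variable {P : Place k K} (hP : P.deg = 1) {t : K} (ht : P.1 t = exp (-1 : ℤ))
variable {Ht : K →ₐ[k] PowerSeries K} (hHt : IsHasseFamily t Ht)

include hK hP ht hHt in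
/-- An adapted basis starting with `1`, together with the change of basis matrix. -/
theorem exists_adapted_basis_matrix {n : ℕ} {φ : Fin (n + 1) → K} (hφ : LinearIndependent k φ)
    (heff : (1 : K) ∈ Submodule.span k (Set.range φ)) (hint : ∀ i, P.1 (φ i) ≤ 1)
    {J' : Fin n → ℕ} (hJ' : IsOrders (IsLocalRing.ResidueField P.O) (hcolAt P Ht φ) J') :
    ∃ (φ' : Fin (n + 1) → K) (A : Matrix (Fin (n + 1)) (Fin (n + 1)) k),
      A.det ≠ 0 ∧ (∀ i, φ' i = ∑ j, A i j • φ j) ∧ LinearIndependent k φ' ∧
      Submodule.span k (Set.range φ') = Submodule.span k (Set.range φ) ∧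
      φ' 0 = 1 ∧
      ∀ l : Fin n, P.1 (φ' l.succ) = exp (-(J' l : ℤ)) ∧
        evalP P (φ' l.succ / t ^ J' l) = 1 := by
  classical
  have hA := mem_range_orders_iff hK hP ht hHt hint hJ'
  have hJpos : ∀ l, J' l ≠ 0 := fun l => ((hA (J' l)).1 ⟨l, rfl⟩).1
  have hex : ∀ l : Fin n, ∃ f ∈ Submodule.span k (Set.range φ),
      P.1 f = exp (-(J' l : ℤ)) ∧ evalP P (f / t ^ J' l) = 1 := by
    intro l
    obtain ⟨f, hfW, hvf⟩ := ((hA (J' l)).1 ⟨l, rfl⟩).2
    have hg1 : P.1 (f / t ^ J' l) = 1 := by
      rw [map_div₀, hvf, v_t_pow ht]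
      exact div_self exp_ne_zero
    have hne : evalP P (f / t ^ J' l) ≠ 0 := by
      rw [Ne, evalP_eq_zero_iff P hg1.le, hg1]
      exact lt_irrefl _
    obtain ⟨c, hc⟩ := algebraMap_residue_surjective hP (evalP P (f / t ^ J' l))
    have hc0 : c ≠ 0 := by
      rintro rfl
      rw [map_zero] at hc
      exact hne hc.symm
    refine ⟨c⁻¹ • f, Submodule.smul_mem _ _ hfW, ?_, ?_⟩
    · rw [Algebra.smul_def, map_mul, P.v_algebraMap (inv_ne_zero hc0), one_mul, hvf]
    · rw [smul_div_assoc, evalP_smul P _ hg1.le, ← hc, Algebra.smul_def, ← map_mul,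
        inv_mul_cancel₀ hc0, map_one]
  choose f' hf'W hf'v hf'e using hex
  set φ' : Fin (n + 1) → K := Fin.cons 1 f' with hφ'
  have hφ'0 : φ' 0 = 1 := rfl
  have hφ's : ∀ l : Fin n, φ' l.succ = f' l := fun l => rfl
  set e : Fin (n + 1) → ℕ := Fin.cons 0 J' with he
  have hemono : StrictMono e := by
    intro a b
    refine Fin.cases ?_ (fun l => ?_) a <;> refine Fin.cases ?_ (fun l' => ?_) b
    · intro h; exact absurd h (lt_irrefl _)
    · intro _
      show (0 : ℕ) < J' l'
      exact Nat.pos_of_ne_zero (hJpos l')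
    · intro h; exact absurd h (Fin.not_lt_zero _)
    · intro h
      show J' l < J' l'
      exact hJ'.1 (Fin.succ_lt_succ_iff.1 h)
  have hvφ' : ∀ a, P.1 (φ' a) = exp (-(e a : ℤ)) := by
    intro a
    refine Fin.cases ?_ (fun l => ?_) a
    · rw [hφ'0, map_one]
      show (1 : WithZero (Multiplicative ℤ)) = exp (-((0 : ℕ) : ℤ))
      simp
    · rw [hφ's, hf'v]
      rfl
  have hanti : StrictAnti (fun a => P.1 (φ' a)) := by
    intro a b hab
    show P.1 (φ' b) < P.1 (φ' a)
    rw [hvφ', hvφ', exp_lt_exp]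
    have := hemono hab
    omega
  have hne : ∀ a, φ' a ≠ 0 := by
    intro a h0
    have := hvφ' a
    rw [h0, map_zero] at this
    exact exp_ne_zero this.symm
  have hli' := linearIndependent_of_strictAnti P φ' hanti hne
  have hle : Submodule.span k (Set.range φ') ≤ Submodule.span k (Set.range φ) := by
    rw [Submodule.span_le]
    rintro _ ⟨a, rfl⟩
    refine Fin.cases ?_ (fun l => ?_) a
    · exact heff
    · exact hf'W l
  have hfin : FiniteDimensional k (Submodule.span k (Set.range φ)) :=
    FiniteDimensional.span_of_finite k (Set.finite_range φ)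
  have heq : Submodule.span k (Set.range φ') = Submodule.span k (Set.range φ) := by
    apply Submodule.eq_of_le_of_finrank_eq hle
    rw [finrank_span_eq_card hli', finrank_span_eq_card hφ]
  obtain ⟨A, hAdet, hAφ⟩ := exists_matrix_of_span_eq hφ heq
  refine ⟨φ', A, hAdet, hAφ, hli', heq, hφ'0, fun l => ?_⟩
  rw [hφ's]
  exact ⟨hf'v l, hf'e l⟩

end adapted

end SV
end FunFld
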