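import Groth.Agent.Lib.Helper5.SV.FixedOrder
import Mathlib.LinearAlgebra.Vandermonde

/-! Determinants of matrices of binomial coefficients (helper5). -/

set_option autoImplicit false

namespace FunFld
namespace SV

open Matrix Polynomial Finset

/-- Integer form of the determinant of a matrix of binomial coefficients. -/
theorem det_choose_int {m : ℕ} (v : Fin m → ℕ) :
    (∏ i : Fin m, ((Nat.factorial i : ℕ) : ℤ)) *
        (Matrix.of fun i j : Fin m => ((Nat.choose (v i) j : ℕ) : ℤ)).det =
      ∏ i : Fin m, ∏ j ∈ Ioi i, ((v j : ℤ) - (v i : ℤ)) := by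
  have h := det_eval_matrixOfPolynomials_eq_det_vandermonde (fun i => ((v i : ℕ) : ℤ))
      (fun i : Fin m => descPochhammer ℤ i)
      (fun i => descPochhammer_natDegree ℤ i)
      (fun i => monic_descPochhammer ℤ i)
  rw [det_vandermonde] at h
  rw [h]
  have h2 : (Matrix.of fun i j : Fin m => (descPochhammer ℤ j).eval ((v i : ℕ) : ℤ)) =
      Matrix.of fun i j : Fin m => ((Nat.factorial j : ℕ) : ℤ) * ((Nat.choose (v i) j : ℕ) : ℤ) := by
    ext i j
    rw [of_apply, of_apply, descPochhammer_eval_eq_descFactorial ℤ _ _,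
      Nat.descFactorial_eq_factorial_mul_choose]
    push_cast
    rfl
  rw [h2]
  exact (det_mul_row (fun i : Fin m => ((Nat.factorial (i : ℕ) : ℕ) : ℤ)) _).symm

variable {k : Type*} [Field k]

/-- Field form of the determinant of a matrix of binomial coefficients. -/
theorem det_choose_field {m : ℕ} (v : Fin m → ℕ) :
    (∏ i : Fin m, ((Nat.factorial i : ℕ) : k)) *
        (Matrix.of fun i j : Fin m => ((Nat.choose (v i) j : ℕ) : k)).det =
      ∏ i : Fin m, ∏ j ∈ Ioi i, ((v j : k) - (v i : k)) := by
  have h := congrArg (Int.castRingHom k) (det_choose_int v)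
  rw [map_mul, map_prod, RingHom.map_det, map_prod] at h
  simp only [map_prod, map_sub, eq_intCast, Int.cast_natCast] at h
  convert h using 3
  ext i j
  simp

/-- Natural numbers below the characteristic are nonzero in the field. -/
lemma natCast_ne_zero_of_lt {N : ℕ} (hchar : ringChar k = 0 ∨ N < ringChar k) {a : ℕ}
    (h0 : 0 < a) (ha : a ≤ N) : (a : k) ≠ 0 := by
  intro h
  rw [ringChar.spec] at h
  rcases hchar with hc | hc
  · rw [hc, zero_dvd_iff] at h
    omega
  · have := Nat.le_of_dvd h0 h
    omega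

/-- The matrix `(v_r choose s)` is nonsingular in small characteristic. -/
theorem det_choose_ne_zero {m : ℕ} {v : Fin m → ℕ} (hv : StrictMono v) {N : ℕ}
    (hN : ∀ i, v i ≤ N) (hchar : ringChar k = 0 ∨ N < ringChar k) :
    (Matrix.of fun i j : Fin m => ((Nat.choose (v i) j : ℕ) : k)).det ≠ 0 := by
  intro h0
  have h := det_choose_field (k := k) v
  rw [h0, mul_zero] at h
  have hne : ∏ i : Fin m, ∏ j ∈ Ioi i, ((v j : k) - (v i : k)) ≠ 0 := by
    refine Finset.prod_ne_zero_iff.2 fun i _ => Finset.prod_ne_zero_iff.2 fun j hj => ?_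
    rw [Finset.mem_Ioi] at hj
    have hlt := hv hj
    have : ((v j : k) - (v i : k)) = ((v j - v i : ℕ) : k) := by
      rw [Nat.cast_sub hlt.le]
    rw [this]
    exact natCast_ne_zero_of_lt hchar (by omega) (by have := hN j; omega)
  exact hne h.symm

end SV
end FunFld
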