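import Groth.Agent.Lib.Helper5.SV.Nonsing
import Groth.Agent.Lib.Helper5.FunFld.Gaps
import Groth.Agent.Lib.Helper5.FunFld.Weil2

/-! Canonical orders and gap numbers (helper5, Stöhr–Voloch cluster). -/

set_option autoImplicit false

namespace FunFld
namespace SV

open WithZero LocRes

variable {k K : Type*} [Field k] [Field K] [Algebra k K]

section gap

variable (hK : IsFunctionField k K)

include hK in
/-- In positive genus, `1` is a gap at every place of degree one. -/
theorem isGap_one_of_genus_pos (P : Place k K) (hP : P.deg = 1) (hg : 0 < genus k K) :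
    IsGap P (1 : ℤ) := by
  by_contra h1
  have hall : ∀ m : ℕ, 1 ≤ m → ¬ IsGap P (m : ℤ) := by
    intro m hm
    induction m, hm using Nat.le_induction with
    | base => simpa using h1
    | succ m hm ih =>
      have := not_isGap_add ih h1
      push_cast
      exact this
  have hN : 2 * (genus k K : ℤ) - 1 ≤ ((2 * genus k K : ℕ) : ℤ) := by push_cast; omega
  have hcount := gapCount_eq_genus hK P hP hN
  have h0 : gapCount P 0 = 0 := by simp [gapCount]
  have hlt : gapCount P 0 < gapCount P (2 * genus k K) := by rw [h0, hcount]; exact hg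
  obtain ⟨m, hm1, -, hm3⟩ := exists_gap_of_gapCount_lt P hlt
  exact hall m hm1 hm3

end gap

section canon

variable [IsAlgClosed k] (hK : IsFunctionField k K)

omit [IsAlgClosed k] in
/-- Membership in `L (C - jP)`. -/
lemma mem_L_sub_single_iff' {D : Divisor k K} {f : K} (hf : f ∈ L D) (P : Place k K) (j : ℤ) :
    f ∈ L (D - Finsupp.single P j) ↔ P.1 f ≤ exp (D P - j) := by
  classical
  constructor
  · intro h
    have := h P
    rwa [Finsupp.sub_apply, Finsupp.single_eq_same] at this
  · intro h Q
    rw [Finsupp.sub_apply]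
    by_cases hQ : Q = P
    · subst hQ; rwa [Finsupp.single_eq_same]
    · rw [Finsupp.single_eq_of_ne hQ, sub_zero]; exact hf Q

include hK in
/-- **S12609**: canonical orders and gap numbers. -/
theorem isJump_canonical_iff_gap (C : Divisor k K) (hC : IsCanonical k K C)
    {n : ℕ} (φ : Fin (n + 1) → K) (hφ : LinearIndependent k φ)
    (hspan : Submodule.span k (Set.range φ) = L C)
    (P : Place k K) (y : K) (hy : y ≠ 0)
    (heff : (1 : K) ∈ Submodule.span k (Set.range (y • φ))) (hnorm : ∀ i, P.1 (y * φ i) ≤ 1)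
    (t : K) (ht : P.1 t = exp (-1 : ℤ))
    (Ht : K →ₐ[k] PowerSeries K) (hHt : IsHasseFamily t Ht) (j : ℕ) (hj : 1 ≤ j) :
    IsJump (IsLocalRing.ResidueField P.O) (hcolAt P Ht (y • φ)) (j + 1) ↔
      L (Finsupp.single P ((j : ℤ) + 1) : Divisor k K) = L (Finsupp.single P (j : ℤ)) := by
  classical
  have hP := Place.deg_eq_one_of_isAlgClosed hK P
  have hnorm' : ∀ i, P.1 ((y • φ) i) ≤ 1 := fun i => by
    rw [Pi.smul_apply, smul_eq_mul]; exact hnorm i
  rw [isJump_hcolAt_succ_iff hK hP ht hHt hnorm' j, isJump_ecol_iff hP ht hnorm' j]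
  -- the span of `y • φ` is `y * L(C)`
  have hspan' : ∀ f : K, f ∈ Submodule.span k (Set.range (y • φ)) ↔ ∃ g ∈ L C, f = y * g := by
    intro f
    have : Set.range (y • φ) = (LinearMap.mulLeft k y) '' Set.range φ := by
      ext z
      constructor
      · rintro ⟨i, rfl⟩
        exact ⟨φ i, ⟨i, rfl⟩, rfl⟩
      · rintro ⟨_, ⟨i, rfl⟩, rfl⟩
        exact ⟨i, rfl⟩
    rw [this, ← Submodule.map_span, hspan, Submodule.mem_map]
    constructor
    · rintro ⟨g, hg, rfl⟩; exact ⟨g, hg, rfl⟩
    · rintro ⟨g, hg, rfl⟩; exact ⟨g, hg, rfl⟩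
  -- genus is positive
  have hfinC := finiteDimensional_L hK C
  have hg : 0 < genus k K := by
    rw [← ell_canonical hK hC]
    unfold ell
    rw [← hspan, finrank_span_eq_card hφ]
    simp
  have hdegC := deg_canonical hK hC
  -- `1` is a gap, so `ℓ(P) = 1`
  have hgap1 := isGap_one_of_genus_pos hK P hP hg
  have hellP : ell (Finsupp.single P (1 : ℤ) : Divisor k K) = 1 := by
    unfold ell
    rw [IsGap] at hgap1
    rw [hgap1]
    have : (Finsupp.single P ((1 : ℤ) - 1) : Divisor k K) = 0 := by simp
    rw [this]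
    exact ell_zero hK
  -- `P` is not a base point of the canonical system
  have hCP : ell (C - Finsupp.single P 1) < ell C := by
    have h1 := riemann_roch hK hC (C - Finsupp.single P 1)
    rw [Divisor.deg_sub, Divisor.deg_single, hP, hdegC, sub_sub_cancel, hellP] at h1
    have h2 := ell_canonical hK hC
    have : (ell (C - Finsupp.single P 1) : ℤ) < ell C := by
      rw [h1, h2]; push_cast; omega
    exact_mod_cast this
  obtain ⟨g₀, hg₀C, hg₀⟩ := exists_mem_L_notMem hK hCP
  have hvg₀ : P.1 g₀ = exp (C P) := by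
    rw [mem_L_sub_single_iff hg₀C P] at hg₀
    push Not at hg₀
    refine le_antisymm (hg₀C P) ?_
    by_contra hlt
    push Not at hlt
    exact absurd (P.v_le_exp_pred_of_lt hlt) (not_le.2 hg₀)
  -- the valuation of `y`
  have hyall : ∀ g ∈ L C, P.1 (y * g) ≤ 1 := by
    intro g hg
    have : y * g ∈ Submodule.span k (Set.range (y • φ)) := (hspan' _).2 ⟨g, hg, rfl⟩
    obtain ⟨a, ha⟩ := (Submodule.mem_span_range_iff_exists_fun k).1 this
    rw [← ha]
    exact v_sum_smul_le hnorm' a
  have hvy : P.1 y = exp (-(C P)) := by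
    apply le_antisymm
    · have := hyall g₀ hg₀C
      rw [map_mul, hvg₀] at this
      calc P.1 y = P.1 y * exp (C P) * exp (-(C P)) := by
            rw [mul_assoc, ← exp_add, add_neg_cancel, exp_zero, mul_one]
        _ ≤ 1 * exp (-(C P)) := mul_le_mul_left this _
        _ = exp (-(C P)) := one_mul _
    · obtain ⟨g₁, hg₁C, hg₁⟩ := (hspan' 1).1 heff
      have h1 : P.1 y * P.1 g₁ = 1 := by rw [← map_mul, ← hg₁, map_one]
      have h2 := hg₁C P
      calc exp (-(C P)) = exp (-(C P)) * (P.1 y * P.1 g₁) := by rw [h1, mul_one]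
        _ = P.1 y * (exp (-(C P)) * P.1 g₁) := mul_left_comm _ _ _
        _ ≤ P.1 y * (exp (-(C P)) * exp (C P)) := by gcongr
        _ = P.1 y := by rw [← exp_add, neg_add_cancel, exp_zero, mul_one]
  -- reformulate
  have hj0 : j ≠ 0 := by omega
  have key : (∃ f ∈ Submodule.span k (Set.range (y • φ)), P.1 f = exp (-(j : ℤ))) ↔
      ell (C - Finsupp.single P ((j : ℤ) + 1)) < ell (C - Finsupp.single P (j : ℤ)) := by
    constructor
    · rintro ⟨f, hf, hvf⟩
      obtain ⟨g, hgC, rfl⟩ := (hspan' f).1 hf
      rw [map_mul, hvy] at hvf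
      have hvg : P.1 g = exp (C P - j) := by
        have : P.1 g = (exp (-(C P)))⁻¹ * exp (-(j : ℤ)) := by
          rw [← hvf, ← mul_assoc, inv_mul_cancel₀ exp_ne_zero, one_mul]
        rw [this, ← exp_neg, neg_neg, ← exp_add]
        congr 1
      have hmem : g ∈ L (C - Finsupp.single P (j : ℤ)) :=
        (mem_L_sub_single_iff' hgC P j).2 hvg.le
      have hnmem : g ∉ L (C - Finsupp.single P ((j : ℤ) + 1)) := by
        rw [mem_L_sub_single_iff' hgC P, hvg, exp_le_exp]
        omega
      have hle : L (C - Finsupp.single P ((j : ℤ) + 1)) ≤ L (C - Finsupp.single P (j : ℤ)) := by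
        apply L_mono
        exact sub_le_sub_left (single_mono P (by omega)) C
      have hlt : L (C - Finsupp.single P ((j : ℤ) + 1)) < L (C - Finsupp.single P (j : ℤ)) :=
        lt_of_le_of_ne hle (fun h => hnmem (h ▸ hmem))
      have := finiteDimensional_L hK (C - Finsupp.single P (j : ℤ))
      exact Submodule.finrank_lt_finrank_of_lt hlt
    · intro hlt
      obtain ⟨g, hg1, hg2⟩ := exists_mem_L_notMem hK hlt
      have hgC : g ∈ L C := L_mono (sub_le_self C (single_nonneg P (by omega))) hg1
      rw [mem_L_sub_single_iff' hgC P] at hg1 hg2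
      push Not at hg2
      have hvg : P.1 g = exp (C P - j) := by
        refine le_antisymm hg1 ?_
        by_contra hlt'
        push Not at hlt'
        have := P.v_le_exp_pred_of_lt hlt'
        rw [show C P - (j : ℤ) - 1 = C P - ((j : ℤ) + 1) by ring] at this
        exact absurd this (not_le.2 hg2)
      refine ⟨y * g, (hspan' _).2 ⟨g, hgC, rfl⟩, ?_⟩
      rw [map_mul, hvy, hvg, ← exp_add]
      congr 1
      ring
  rw [key, and_iff_right hj0]
  -- Riemann–Roch
  have hrr1 := riemann_roch hK hC (C - Finsupp.single P ((j : ℤ) + 1))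
  have hrr2 := riemann_roch hK hC (C - Finsupp.single P (j : ℤ))
  rw [Divisor.deg_sub, Divisor.deg_single, hP, sub_sub_cancel] at hrr1 hrr2
  have hmono := ell_mono hK (single_mono (k := k) P (show (j : ℤ) ≤ (j : ℤ) + 1 by omega))
  have hstep := ell_sub_le hK (Finsupp.single P (j : ℤ) : Divisor k K)
      (Finsupp.single P ((j : ℤ) + 1)) (single_mono P (by omega))
  rw [Divisor.deg_single, Divisor.deg_single, hP] at hstep
  have hfin := finiteDimensional_L hK (Finsupp.single P ((j : ℤ) + 1) : Divisor k K)
  constructor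
  · intro hlt
    have hlt' : (ell (C - Finsupp.single P ((j : ℤ) + 1)) : ℤ) <
        ell (C - Finsupp.single P (j : ℤ)) := by exact_mod_cast hlt
    have heq : ell (Finsupp.single P (j : ℤ) : Divisor k K) =
        ell (Finsupp.single P ((j : ℤ) + 1) : Divisor k K) := by
      have : (ell (Finsupp.single P (j : ℤ) : Divisor k K) : ℤ) =
          ell (Finsupp.single P ((j : ℤ) + 1) : Divisor k K) := by
        push_cast at hstep hrr1 hrr2 ⊢
        have : (ell (Finsupp.single P (j : ℤ) : Divisor k K) : ℤ) ≤
          ell (Finsupp.single P ((j : ℤ) + 1) : Divisor k K) := by exact_mod_cast hmono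
        linarith
      exact_mod_cast this
    symm
    exact Submodule.eq_of_le_of_finrank_eq (L_single_mono P (by omega)) heq
  · intro heq
    have heq' : ell (Finsupp.single P ((j : ℤ) + 1) : Divisor k K) =
        ell (Finsupp.single P (j : ℤ) : Divisor k K) := by unfold ell; rw [heq]
    have : (ell (C - Finsupp.single P ((j : ℤ) + 1)) : ℤ) <
        ell (C - Finsupp.single P (j : ℤ)) := by
      rw [hrr1, hrr2, heq']
      push_cast
      linarith
    exact_mod_cast this

end canon

end SV
end FunFld
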