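import Groth.Agent.Lib.Helper5.SV.Linear

/-! Triangular changes of column sequences (helper5, Stöhr–Voloch cluster). -/

set_option autoImplicit false

namespace FunFld
namespace SV

section seq

variable {F V : Type*} [Field F] [AddCommGroup V] [Module F V]

/-- A triangular change of a sequence of vectors does not change the spans of initial segments. -/
theorem span_Iio_eq_of_triangular {c c' : ℕ → V} {u : ℕ → F} (hu : ∀ j, u j ≠ 0)
    (h : ∀ j, c' j - u j • c j ∈ Submodule.span F (c '' Set.Iio j)) (N : ℕ) :
    Submodule.span F (c' '' Set.Iio N) = Submodule.span F (c '' Set.Iio N) := by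
  induction N with
  | zero =>
    have h1 : Set.Iio (0 : ℕ) = ∅ := by ext; simp
    rw [h1, Set.image_empty, Set.image_empty]
  | succ N ih =>
    have h1 : Set.Iio (N + 1) = insert N (Set.Iio N) := by
      ext j; simp only [Set.mem_Iio, Set.mem_insert_iff]; omega
    rw [h1, Set.image_insert_eq, Set.image_insert_eq, Submodule.span_insert, Submodule.span_insert,
      ih]
    apply le_antisymm
    · refine sup_le ?_ le_sup_right
      rw [Submodule.span_singleton_le_iff_mem]
      have : c' N = u N • c N + (c' N - u N • c N) := by abel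
      rw [this]
      exact Submodule.add_mem _
        (Submodule.mem_sup_left (Submodule.smul_mem _ _ (Submodule.mem_span_singleton_self _)))
        (Submodule.mem_sup_right (h N))
    · refine sup_le ?_ le_sup_right
      rw [Submodule.span_singleton_le_iff_mem]
      have : c N = (u N)⁻¹ • (c' N - (c' N - u N • c N)) := by
        rw [sub_sub_cancel, smul_smul, inv_mul_cancel₀ (hu N), one_smul]
      rw [this]
      refine Submodule.smul_mem _ _ (Submodule.sub_mem _ ?_ (Submodule.mem_sup_right (h N)))
      exact Submodule.mem_sup_left (Submodule.mem_span_singleton_self _)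

/-- A triangular change of a sequence of vectors does not change the jumps. -/
theorem isJump_iff_of_triangular {c c' : ℕ → V} {u : ℕ → F} (hu : ∀ j, u j ≠ 0)
    (h : ∀ j, c' j - u j • c j ∈ Submodule.span F (c '' Set.Iio j)) (j : ℕ) :
    IsJump F c' j ↔ IsJump F c j := by
  unfold IsJump
  rw [span_Iio_eq_of_triangular hu h j]
  constructor
  · intro h1 h2
    apply h1
    have : c' j = u j • c j + (c' j - u j • c j) := by abel
    rw [this]
    exact Submodule.add_mem _ (Submodule.smul_mem _ _ h2) (h j)
  · intro h1 h2
    apply h1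
    have : c j = (u j)⁻¹ • (c' j - (c' j - u j • c j)) := by
      rw [sub_sub_cancel, smul_smul, inv_mul_cancel₀ (hu j), one_smul]
    rw [this]
    exact Submodule.smul_mem _ _ (Submodule.sub_mem _ h2 (h j))

theorem isOrders_iff_of_triangular {c c' : ℕ → V} {u : ℕ → F} (hu : ∀ j, u j ≠ 0)
    (h : ∀ j, c' j - u j • c j ∈ Submodule.span F (c '' Set.Iio j)) {n : ℕ} (J : Fin n → ℕ) :
    IsOrders F c' J ↔ IsOrders F c J := by
  unfold IsOrders
  simp only [isJump_iff_of_triangular hu h]

end seq

section det

variable {F : Type*} [Field F]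

/-- Determinant of a triangular change of columns. -/
theorem det_of_triangular_cols {N : ℕ} (G G' : Matrix (Fin N) (Fin N) F) (u : Fin N → F)
    (h : ∀ l, G'.col l - u l • G.col l ∈ Submodule.span F (G.col '' ↑(Finset.Iio l))) :
    G'.det = (∏ l, u l) * G.det := by
  classical
  have hb : ∀ l, ∃ b : Fin N → F, ∑ m ∈ Finset.Iio l, b m • G.col m = G'.col l - u l • G.col l :=
    fun l => (Submodule.mem_span_image_finset_iff_exists_fun' F).1 (h l)
  choose b hb using hb
  set B : Matrix (Fin N) (Fin N) F := Matrix.of fun m l => if m < l then b l m else 0 with hB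
  set U : Matrix (Fin N) (Fin N) F := Matrix.diagonal u + B with hU
  have hBtri : B.BlockTriangular id := by
    intro i j hij
    simp only [id] at hij
    simp only [hB, Matrix.of_apply]
    rw [if_neg (not_lt.2 hij.le)]
  have hUtri : U.BlockTriangular id := (Matrix.blockTriangular_diagonal u).add hBtri
  have hUdet : U.det = ∏ l, u l := by
    rw [Matrix.det_of_isUpperTriangular hUtri]
    refine Finset.prod_congr rfl fun i _ => ?_
    simp [hU, hB]
  have hG' : G' = G * U := by
    ext i l
    rw [hU, Matrix.mul_add, Matrix.add_apply, Matrix.mul_diagonal, Matrix.mul_apply]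
    have h1 := congrFun (hb l) i
    simp only [Finset.sum_apply, Pi.smul_apply, Matrix.col_apply, smul_eq_mul, Pi.sub_apply] at h1
    have h2 : ∑ m, G i m * B m l = ∑ m ∈ Finset.Iio l, b l m * G i m := by
      simp only [hB, Matrix.of_apply, mul_ite, mul_zero]
      rw [← Finset.sum_filter]
      refine Finset.sum_congr ?_ fun m _ => mul_comm _ _
      ext m; simp
    rw [h2, h1]
    ring
  rw [hG', Matrix.det_mul, hUdet, mul_comm]

end det

section wr

variable {F : Type*} [Field F]

/-- Determinant formula for a triangular change of a column sequence, at the order sequence. -/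
theorem det_cols_of_triangular {n : ℕ} {c c' : ℕ → Fin (n + 1) → F} {u : ℕ → F}
    (h : ∀ j, c' j - u j • c j ∈ Submodule.span F (c '' Set.Iio j)) {J : Fin n → ℕ}
    (hJ : IsOrders F c J) (G G' : Matrix (Fin (n + 1)) (Fin (n + 1)) F)
    (hG0 : G.col 0 = c 0) (hGs : ∀ l : Fin n, G.col l.succ = c (J l + 1))
    (hG'0 : G'.col 0 = c' 0) (hG's : ∀ l : Fin n, G'.col l.succ = c' (J l + 1)) :
    G'.det = (u 0 * ∏ l, u (J l + 1)) * G.det := by
  classical
  set uu : Fin (n + 1) → F := Fin.cases (u 0) (fun l => u (J l + 1)) with huu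
  have hprod : ∏ l, uu l = u 0 * ∏ l, u (J l + 1) := by
    rw [Fin.prod_univ_succ]
    simp [huu]
  rw [← hprod]
  apply det_of_triangular_cols
  intro l
  refine Fin.cases ?_ (fun l' => ?_) l
  · rw [hG'0, hG0]
    have := h 0
    have h1 : Set.Iio (0 : ℕ) = ∅ := by ext; simp
    rw [h1, Set.image_empty, Submodule.span_empty, Submodule.mem_bot] at this
    simp only [huu, Fin.cases_zero]
    rw [this]
    exact zero_mem _
  · rw [hG's, hGs]
    simp only [huu, Fin.cases_succ]
    have h1 := h (J l' + 1)
    rw [span_Iio_eq_span_jumps] at h1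
    refine Submodule.span_mono ?_ h1
    rintro _ ⟨j, ⟨hjlt, hj⟩, rfl⟩
    cases j with
    | zero =>
      refine ⟨0, ?_, hG0⟩
      simp only [Finset.coe_Iio, Set.mem_Iio]
      exact Fin.succ_pos l'
    | succ j' =>
      obtain ⟨m, hm⟩ := (hJ.2 j').2 hj
      refine ⟨m.succ, ?_, ?_⟩
      · simp only [Finset.coe_Iio, Set.mem_Iio, Fin.succ_lt_succ_iff]
        rw [← hJ.1.lt_iff_lt]
        omega
      · rw [hGs, hm]

end wr

end SV
end FunFld
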