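import Groth.Agent.Lib.Helper5.SV.Sep
import Groth.Agent.Lib.Helper5.SV.Triangular

/-! Uniqueness of Hasse families and the chain rule (helper5, Stöhr–Voloch cluster). -/

set_option autoImplicit false

namespace FunFld
namespace SV

open LocRes

section powerseries

variable {R : Type*} [CommRing R]

theorem iInf_span_X_pow_eq_bot :
    ⨅ i, (Ideal.span {(PowerSeries.X : PowerSeries R)}) ^ i = ⊥ := by
  rw [eq_bot_iff]
  intro f hf
  rw [Ideal.mem_iInf] at hf
  rw [Ideal.mem_bot]
  ext n
  have h1 := hf (n + 1)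
  rw [Ideal.span_singleton_pow, Ideal.mem_span_singleton, PowerSeries.X_pow_dvd_iff] at h1
  rw [h1 n (Nat.lt_succ_self n), map_zero]

lemma coeff_pow_of_lt {u : PowerSeries R} (hu : PowerSeries.constantCoeff u = 0) {j d : ℕ}
    (h : j < d) : PowerSeries.coeff j (u ^ d) = 0 := by
  obtain ⟨w, rfl⟩ := PowerSeries.X_dvd_iff.2 hu
  rw [mul_pow, PowerSeries.coeff_X_pow_mul', if_neg (not_le.2 h)]

lemma coeff_pow_self {u : PowerSeries R} (hu : PowerSeries.constantCoeff u = 0) (j : ℕ) :
    PowerSeries.coeff j (u ^ j) = (PowerSeries.coeff 1 u) ^ j := by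
  obtain ⟨w, rfl⟩ := PowerSeries.X_dvd_iff.2 hu
  rw [mul_pow, PowerSeries.coeff_X_pow_mul', if_pos le_rfl, Nat.sub_self,
    PowerSeries.coeff_zero_eq_constantCoeff_apply, map_pow,
    show (1 : ℕ) = 0 + 1 from rfl, PowerSeries.coeff_succ_X_mul,
    PowerSeries.coeff_zero_eq_constantCoeff_apply]

theorem coeff_subst_of_constantCoeff_zero {u : PowerSeries R}
    (hu : PowerSeries.constantCoeff u = 0) (f : PowerSeries R) (j : ℕ) :
    PowerSeries.coeff j (f.subst u) =
      ∑ d ∈ Finset.range (j + 1), PowerSeries.coeff d f * PowerSeries.coeff j (u ^ d) := by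
  rw [PowerSeries.coeff_subst' (PowerSeries.HasSubst.of_constantCoeff_zero' hu)]
  rw [finsum_eq_sum_of_support_subset (s := Finset.range (j + 1))]
  · simp only [smul_eq_mul]
  · intro d hd
    rw [Function.mem_support] at hd
    rw [Finset.coe_range, Set.mem_Iio]
    by_contra hlt
    apply hd
    rw [coeff_pow_of_lt hu (by omega), smul_zero]

end powerseries

variable {k K : Type*} [Field k] [Field K] [Algebra k K]

section unique

variable [PerfectField k] (hK : IsFunctionField k K)

include hK in
/-- Two `k`-algebra maps into `K⟦T⟧` lifting the identity and agreeing on an element with a Hasse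
family are equal. -/
theorem algHom_powerSeries_ext {s : K} {H : K →ₐ[k] PowerSeries K} (hH : IsHasseFamily s H)
    (g₁ g₂ : K →ₐ[k] PowerSeries K) (hs : g₁ s = g₂ s)
    (h₁ : ∀ y, PowerSeries.constantCoeff (g₁ y) = y)
    (h₂ : ∀ y, PowerSeries.constantCoeff (g₂ y) = y) : g₁ = g₂ := by
  haveI := formallyUnramified_of_isHasseFamily hK hH
  refine algHom_ext_of_formallyUnramified (s := s) (Ideal.span {(PowerSeries.X : PowerSeries K)})
    iInf_span_X_pow_eq_bot g₁ g₂ hs fun x => ?_
  rw [Ideal.mem_span_singleton, PowerSeries.X_dvd_iff, map_sub, h₁, h₂, sub_self]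

include hK in
theorem hasseFamily_unique {s : K} {H H' : K →ₐ[k] PowerSeries K} (hH : IsHasseFamily s H)
    (hH' : IsHasseFamily s H') : H = H' :=
  algHom_powerSeries_ext hK hH H H' (by rw [hH.1, hH'.1]) hH.2 hH'.2

end unique

section chain

variable [PerfectField k] (hK : IsFunctionField k K)
variable {s t : K} {Hs Ht : K →ₐ[k] PowerSeries K}

/-- The substitution series `H_t(s) - s`. -/
noncomputable def chainU (Ht : K →ₐ[k] PowerSeries K) (s : K) : PowerSeries K :=
  Ht s - PowerSeries.C s

lemma constantCoeff_chainU (hHt : IsHasseFamily t Ht) (s : K) :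
    PowerSeries.constantCoeff (chainU Ht s) = 0 := by
  rw [chainU, map_sub, hHt.2, PowerSeries.constantCoeff_C, sub_self]

lemma coeff_one_chainU (Ht : K →ₐ[k] PowerSeries K) (s : K) :
    PowerSeries.coeff 1 (chainU Ht s) = hasseD Ht 1 s := by
  rw [chainU, map_sub, PowerSeries.coeff_C, if_neg one_ne_zero, sub_zero, hasseD_apply]

include hK in
/-- The chain rule: `H_t` is `H_s` followed by the substitution `T ↦ H_t(s) - s`. -/
theorem chain_rule (hHs : IsHasseFamily s Hs) (hHt : IsHasseFamily t Ht) (y : K) :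
    Ht y = (Hs y).subst (chainU Ht s) := by
  have hu := constantCoeff_chainU hHt s
  have hsub : PowerSeries.HasSubst (chainU Ht s) := PowerSeries.HasSubst.of_constantCoeff_zero' hu
  let G : K →ₐ[k] PowerSeries K :=
    ((PowerSeries.substAlgHom hsub : PowerSeries K →ₐ[K] PowerSeries K).restrictScalars k).comp Hs
  have hG : ∀ y, G y = (Hs y).subst (chainU Ht s) := by
    intro y
    show PowerSeries.substAlgHom hsub (Hs y) = _
    rw [PowerSeries.coe_substAlgHom]
  have hGs : Ht s = G s := by
    rw [hG, hHs.1, ← PowerSeries.coe_substAlgHom hsub, map_add, PowerSeries.substAlgHom_X]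
    have : PowerSeries.substAlgHom hsub (PowerSeries.C s) = PowerSeries.C s := by
      have := (PowerSeries.substAlgHom hsub : PowerSeries K →ₐ[K] PowerSeries K).commutes s
      simpa [PowerSeries.algebraMap_apply] using this
    rw [this, chainU]; ring
  have hGc : ∀ y, PowerSeries.constantCoeff (G y) = y := by
    intro y
    rw [hG, ← PowerSeries.coeff_zero_eq_constantCoeff_apply, coeff_subst_of_constantCoeff_zero hu]
    simp [hHs.2 y]
  have := algHom_powerSeries_ext hK hHs Ht G hGs hHt.2 hGc
  calc Ht y = G y := by rw [← this]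
    _ = _ := hG y

include hK in
theorem hasseD_chain (hHs : IsHasseFamily s Hs) (hHt : IsHasseFamily t Ht) (j : ℕ) (y : K) :
    hasseD Ht j y = ∑ d ∈ Finset.range (j + 1),
      hasseD Hs d y * PowerSeries.coeff j (chainU Ht s ^ d) := by
  rw [hasseD_apply, chain_rule hK hHs hHt y,
    coeff_subst_of_constantCoeff_zero (constantCoeff_chainU hHt s)]
  rfl

include hK in
theorem hasseD_one_ne_zero (hHs : IsHasseFamily s Hs) (hHt : IsHasseFamily t Ht) :
    hasseD Ht 1 s ≠ 0 := by
  intro h0
  have h1 := hasseD_chain hK hHs hHt 1 t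
  rw [hasseD_one_self hHt, Finset.sum_range_succ, Finset.sum_range_one, pow_zero, pow_one,
    PowerSeries.coeff_one, if_neg one_ne_zero, mul_zero, zero_add, coeff_one_chainU, h0,
    mul_zero] at h1
  exact one_ne_zero h1

/-- The scaling factors for a change of the separating variable. -/
noncomputable def chainScale (Ht : K →ₐ[k] PowerSeries K) (s : K) : ℕ → K
  | 0 => 1
  | j + 1 => hasseD Ht 1 s ^ j

include hK in
theorem hcol_chain_triangular {ι : Type*} (τ : K →ₐ[k] K) (hHs : IsHasseFamily s Hs)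
    (hHt : IsHasseFamily t Ht) (φ : ι → K) (j : ℕ) :
    hcol τ Ht φ j - chainScale Ht s j • hcol τ Hs φ j ∈
      Submodule.span K (hcol τ Hs φ '' Set.Iio j) := by
  cases j with
  | zero =>
    have : hcol τ Ht φ 0 - chainScale Ht s 0 • hcol τ Hs φ 0 = 0 := by
      funext i
      simp [chainScale]
    rw [this]; exact zero_mem _
  | succ j =>
    have hu := constantCoeff_chainU hHt s
    have : hcol τ Ht φ (j + 1) - chainScale Ht s (j + 1) • hcol τ Hs φ (j + 1) =
        ∑ d ∈ Finset.range j, PowerSeries.coeff j (chainU Ht s ^ d) • hcol τ Hs φ (d + 1) := by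
      funext i
      simp only [hcol_succ, chainScale, Pi.sub_apply, Pi.smul_apply, smul_eq_mul,
        Finset.sum_apply]
      rw [hasseD_chain hK hHs hHt j (φ i), Finset.sum_range_succ, coeff_pow_self hu,
        coeff_one_chainU]
      rw [add_sub_assoc, mul_comm (hasseD Hs j (φ i)), sub_self, add_zero]
      exact Finset.sum_congr rfl fun d _ => mul_comm _ _
    rw [this]
    refine Submodule.sum_mem _ fun d hd => Submodule.smul_mem _ _ ?_
    refine Submodule.subset_span ⟨d + 1, ?_, rfl⟩
    rw [Finset.mem_range] at hd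
    simp only [Set.mem_Iio]
    omega

include hK in
lemma chainScale_ne_zero (hHs : IsHasseFamily s Hs) (hHt : IsHasseFamily t Ht) (j : ℕ) :
    chainScale Ht s j ≠ 0 := by
  cases j with
  | zero => exact one_ne_zero
  | succ j => exact pow_ne_zero _ (hasseD_one_ne_zero hK hHs hHt)

include hK in
theorem isOrders_chain_iff {n : ℕ} (τ : K →ₐ[k] K) (hHs : IsHasseFamily s Hs)
    (hHt : IsHasseFamily t Ht) (φ : Fin (n + 1) → K) (J : Fin n → ℕ) :
    IsOrders K (hcol τ Ht φ) J ↔ IsOrders K (hcol τ Hs φ) J :=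
  isOrders_iff_of_triangular (chainScale_ne_zero hK hHs hHt)
    (hcol_chain_triangular hK τ hHs hHt φ) J

include hK in
theorem det_wrMat_chain {n : ℕ} (τ : K →ₐ[k] K) (hHs : IsHasseFamily s Hs)
    (hHt : IsHasseFamily t Ht) (φ : Fin (n + 1) → K) {J : Fin n → ℕ}
    (hJ : IsOrders K (hcol τ Hs φ) J) :
    (wrMat τ Ht φ J).det = hasseD Ht 1 s ^ (∑ l, J l) * (wrMat τ Hs φ J).det := by
  have := det_cols_of_triangular (hcol_chain_triangular hK τ hHs hHt φ) hJ (wrMat τ Hs φ J)
    (wrMat τ Ht φ J) (wrMat_col_zero τ Hs φ J) (wrMat_col_succ τ Hs φ J)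
    (wrMat_col_zero τ Ht φ J) (wrMat_col_succ τ Ht φ J)
  rw [this]
  simp only [chainScale, one_mul, Finset.prod_pow_eq_pow_sum]

end chain

end SV
end FunFld
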