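import Groth.Agent.Lib.Helper5.SV.Rank

/-! Existence of the order sequence and nonvanishing of the Wronskian (helper5). -/

set_option autoImplicit false

namespace FunFld
namespace SV

open WithZero LocRes

section general

variable {F : Type*} [Field F]

/-- A sequence of vectors spanning `F^(n+1)` with nonzero leading vector has exactly `n` jumps after
the leading one, and the jump columns are independent. -/
theorem exists_isOrders_of_span_top {n : ℕ} (c : ℕ → Fin (n + 1) → F) (h0 : c 0 ≠ 0)
    (hspan : Submodule.span F (Set.range c) = ⊤) :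
    ∃ J : Fin n → ℕ, IsOrders F c J ∧
      LinearIndependent F (Fin.cons (c 0) (fun l => c (J l + 1)) : Fin (n + 1) → Fin (n + 1) → F) := by
  classical
  set Jc : Set ℕ := {j | IsJump F c j} with hJc
  have hli : LinearIndependent F (fun x : Jc => c x) := linearIndepOn_jumps c
  have hsp : ⊤ ≤ Submodule.span F (Set.range (fun x : Jc => c x)) := by
    have : Set.range (fun x : Jc => c x) = c '' Jc := by
      ext w; simp
    rw [this, ← span_range_eq_span_jumps, hspan]
  let b := Module.Basis.mk hli hsp
  have hfin : Finite Jc := Module.Finite.finite_basis b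
  have hJcfin : Jc.Finite := Set.toFinite Jc
  have hcard : hJcfin.toFinset.card = n + 1 := by
    have h1 := Module.finrank_eq_nat_card_basis b
    rw [Module.finrank_fin_fun] at h1
    rw [← Set.ncard_eq_toFinset_card Jc hJcfin, ← Nat.card_coe_set_eq, ← h1]
  have h0mem : 0 ∈ hJcfin.toFinset := by
    rw [Set.Finite.mem_toFinset]
    show IsJump F c 0
    unfold IsJump
    have h1 : Set.Iio (0 : ℕ) = ∅ := by ext; simp
    rw [h1, Set.image_empty, Submodule.span_empty, Submodule.mem_bot]
    exact h0
  set S : Finset ℕ := (hJcfin.toFinset.erase 0).image (fun m => m - 1) with hS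
  have hSmem : ∀ j, j ∈ S ↔ IsJump F c (j + 1) := by
    intro j
    rw [hS, Finset.mem_image]
    constructor
    · rintro ⟨m, hm, rfl⟩
      rw [Finset.mem_erase, Set.Finite.mem_toFinset] at hm
      have : m - 1 + 1 = m := Nat.succ_pred_eq_of_ne_zero hm.1
      rw [this]
      exact hm.2
    · intro hj
      refine ⟨j + 1, ?_, by simp⟩
      rw [Finset.mem_erase, Set.Finite.mem_toFinset]
      exact ⟨Nat.succ_ne_zero j, hj⟩
  have hScard : S.card = n := by
    rw [hS, Finset.card_image_of_injOn, Finset.card_erase_of_mem h0mem, hcard]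
    · rfl
    · intro a ha b hb hab
      rw [Finset.coe_erase, Set.mem_sdiff, Set.mem_singleton_iff] at ha hb
      simp only at hab
      have ha0 : a ≠ 0 := ha.2
      have hb0 : b ≠ 0 := hb.2
      omega
  set J : Fin n → ℕ := fun l => S.orderEmbOfFin hScard l with hJ
  have hJmono : StrictMono J := (S.orderEmbOfFin hScard).strictMono
  have hJrange : ∀ j, j ∈ Set.range J ↔ j ∈ S := by
    intro j
    have := Finset.range_orderEmbOfFin S hScard
    have h2 : Set.range J = Set.range (S.orderEmbOfFin hScard) := rfl
    rw [h2, this]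
    rfl
  have hord : IsOrders F c J := ⟨hJmono, fun j => (hJrange j).trans (hSmem j)⟩
  refine ⟨J, hord, ?_⟩
  -- independence of the jump columns
  let e' : Fin (n + 1) → ℕ := Fin.cons 0 (fun l => J l + 1)
  have he'inj : Function.Injective e' := by
    rw [Fin.cons_injective_iff]
    refine ⟨?_, fun a b hab => hJmono.injective (Nat.succ_injective hab)⟩
    rintro ⟨l, hl⟩
    exact Nat.succ_ne_zero _ hl
  have he'mem : ∀ a, e' a ∈ Jc := by
    intro a
    refine Fin.cases ?_ (fun l => ?_) a
    · show IsJump F c 0
      have := h0mem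
      rw [Set.Finite.mem_toFinset] at this
      exact this
    · show IsJump F c (J l + 1)
      exact (hord.2 (J l)).1 ⟨l, rfl⟩
  let e : Fin (n + 1) → Jc := fun a => ⟨e' a, he'mem a⟩
  have heinj : Function.Injective e := fun a b hab => he'inj (congrArg Subtype.val hab)
  have := hli.comp e heinj
  convert this using 1
  funext a
  refine Fin.cases ?_ (fun l => ?_) a
  · rfl
  · rfl

end general

variable {k K : Type*} [Field k] [Field K] [Algebra k K]

section main

variable [IsAlgClosed k] (hK : IsFunctionField k K) {s : K} {H : K →ₐ[k] PowerSeries K}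

include hK in
/-- The columns of Hasse derivatives of an independent tuple span everything. -/
theorem span_range_dcol_eq_top (hH : IsHasseFamily s H) {n : ℕ} {φ : Fin (n + 1) → K}
    (hφ : LinearIndependent k φ) : Submodule.span K (Set.range (dcol H φ)) = ⊤ := by
  by_contra hne
  have hlt : Submodule.span K (Set.range (dcol H φ)) < ⊤ := lt_top_iff_ne_top.2 hne
  obtain ⟨f, hf0, hf⟩ := Submodule.exists_dual_map_eq_bot_of_lt_top hlt inferInstance
  apply hf0
  have hfd : ∀ j, f (dcol H φ j) = 0 := by
    intro j
    have : f (dcol H φ j) ∈ (Submodule.span K (Set.range (dcol H φ))).map f :=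
      ⟨_, Submodule.subset_span ⟨j, rfl⟩, rfl⟩
    rw [hf, Submodule.mem_bot] at this
    exact this
  set a : Fin (n + 1) → K := fun i => f (fun j => if i = j then 1 else 0) with ha
  have hfa : ∀ v : Fin (n + 1) → K, f v = ∑ i, v i * a i := by
    intro v
    rw [LinearMap.pi_apply_eq_sum_univ f v]
    refine Finset.sum_congr rfl fun i _ => ?_
    rw [smul_eq_mul]
  have hrel : ∑ i, a i • H (φ i) = 0 := by
    ext j
    rw [map_sum, map_zero]
    have := hfd j
    rw [hfa] at this
    rw [← this]
    refine Finset.sum_congr rfl fun i _ => ?_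
    rw [PowerSeries.coeff_smul, mul_comm]
    rfl
  have hzero := Fintype.linearIndependent_iff.1 (linearIndependent_H hK hH hφ) a hrel
  refine LinearMap.ext fun v => ?_
  rw [hfa v]
  simp [hzero]

include hK in
/-- **S12600**: existence of the `τ`-order sequence and nonvanishing of the Wronskian. -/
theorem exists_isOrders_det_ne_zero (hH : IsHasseFamily s H) {n : ℕ} {φ : Fin (n + 1) → K}
    (hφ : LinearIndependent k φ) (τ : K →ₐ[k] K) :
    ∃ J : Fin n → ℕ, IsOrders K (hcol τ H φ) J ∧ (wrMat τ H φ J).det ≠ 0 := by
  classical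
  have h0 : hcol τ H φ 0 ≠ 0 := by
    intro h
    have := congrFun h 0
    simp only [hcol_zero, Pi.zero_apply] at this
    exact hφ.ne_zero 0 ((map_eq_zero τ).1 this)
  have hspan : Submodule.span K (Set.range (hcol τ H φ)) = ⊤ := by
    rw [eq_top_iff, ← span_range_dcol_eq_top hK hH hφ]
    apply Submodule.span_mono
    rintro _ ⟨j, rfl⟩
    exact ⟨j + 1, rfl⟩
  obtain ⟨J, hJ, hli⟩ := exists_isOrders_of_span_top (hcol τ H φ) h0 hspan
  refine ⟨J, hJ, ?_⟩
  have hcol : (wrMat τ H φ J).col =
      (Fin.cons (hcol τ H φ 0) (fun l => hcol τ H φ (J l + 1)) :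
        Fin (n + 1) → Fin (n + 1) → K) := by
    funext a
    refine Fin.cases ?_ (fun l => ?_) a
    · rw [wrMat_col_zero]; rfl
    · rw [wrMat_col_succ]; rfl
  rw [← hcol] at hli
  have hunit := Matrix.linearIndependent_cols_iff_isUnit.1 hli
  rw [Matrix.isUnit_iff_isUnit_det] at hunit
  exact hunit.ne_zero

end main

end SV
end FunFld
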