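import Groth.Agent.Lib.Helper5.SV.Eval

/-! The rank of the matrix of Hasse derivatives of an independent tuple (helper5). -/

set_option autoImplicit false

namespace FunFld
namespace SV

open WithZero LocRes

variable {k K : Type*} [Field k] [Field K] [Algebra k K]

section exist

variable {s : K} {H : K →ₐ[k] PowerSeries K}

/-- An element with nonzero first Hasse derivative has a total Hasse derivative, obtained from the
given one by a substitution. -/
theorem exists_isHasseFamily_of_hasseD_ne_zero (hH : IsHasseFamily s H) {t : K}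
    (ht : hasseD H 1 t ≠ 0) :
    ∃ (Ht : K →ₐ[k] PowerSeries K) (w : PowerSeries K), IsHasseFamily t Ht ∧
      PowerSeries.constantCoeff w = 0 ∧ ∀ y, Ht y = (H y).subst w := by
  set u : PowerSeries K := H t - PowerSeries.C t with hu
  have hu0 : PowerSeries.constantCoeff u = 0 := by
    rw [hu, map_sub, hH.2, PowerSeries.constantCoeff_C, sub_self]
  have hu1 : IsUnit (PowerSeries.coeff 1 u) := by
    rw [hu, map_sub, PowerSeries.coeff_C, if_neg one_ne_zero, sub_zero]
    exact ht.isUnit
  set w : PowerSeries K := PowerSeries.substInvOfIsUnit u hu1 with hw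
  have hw0 : PowerSeries.constantCoeff w = 0 := PowerSeries.constantCoeff_substInvOfIsUnit u hu1
  have hsub : PowerSeries.HasSubst w := PowerSeries.HasSubst.of_constantCoeff_zero' hw0
  let Ht : K →ₐ[k] PowerSeries K :=
    ((PowerSeries.substAlgHom hsub : PowerSeries K →ₐ[K] PowerSeries K).restrictScalars k).comp H
  have hHt : ∀ y, Ht y = (H y).subst w := by
    intro y
    show PowerSeries.substAlgHom hsub (H y) = _
    rw [PowerSeries.coe_substAlgHom]
  refine ⟨Ht, w, ⟨?_, ?_⟩, hw0, hHt⟩
  · have h1 : H t = PowerSeries.C t + u := by rw [hu]; ring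
    rw [hHt, h1, ← PowerSeries.coe_substAlgHom hsub, map_add]
    have h2 : PowerSeries.substAlgHom hsub (PowerSeries.C t) = PowerSeries.C t := by
      have := (PowerSeries.substAlgHom hsub : PowerSeries K →ₐ[K] PowerSeries K).commutes t
      simpa [PowerSeries.algebraMap_apply] using this
    rw [h2, PowerSeries.coe_substAlgHom, hw, PowerSeries.subst_substInvOfIsUnit_right u hu0 hu1]
  · intro y
    rw [hHt, ← PowerSeries.coeff_zero_eq_constantCoeff_apply, coeff_subst_of_constantCoeff_zero hw0]
    simp [hH.2 y]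

/-- Every place has a local parameter with nonzero first Hasse derivative. -/
theorem exists_uniformizer_hasseD_ne_zero (P : Place k K) (hH : IsHasseFamily s H) :
    ∃ t : K, P.1 t = exp (-1 : ℤ) ∧ hasseD H 1 t ≠ 0 := by
  have hDs : hasseD H 1 s = 1 := hasseD_one_self hH
  -- a unit with nonzero derivative
  have hunit : ∃ u : K, P.1 u = 1 ∧ hasseD H 1 u ≠ 0 := by
    have hs0 : s ≠ 0 := by
      rintro rfl
      have : hasseD H 1 (0 : K) = 0 := by rw [hasseD_apply, map_zero, map_zero]
      rw [this] at hDs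
      exact zero_ne_one hDs
    have hD1 : hasseD H 1 (1 : K) = 0 := (hasseDer hH).map_one_eq_zero
    rcases lt_trichotomy (P.1 s) 1 with hlt | heq | hgt
    · refine ⟨1 + s, ?_, ?_⟩
      · have := Valuation.map_add_eq_of_lt_left P.1 (x := (1 : K)) (y := s) (by rw [map_one]; exact hlt)
        rw [this, map_one]
      · rw [hasseD_add, hD1, zero_add, hDs]; exact one_ne_zero
    · exact ⟨s, heq, by rw [hDs]; exact one_ne_zero⟩
    · have hinv : P.1 s⁻¹ < 1 := by rw [map_inv₀]; exact inv_lt_one_of_one_lt₀ hgt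
      have hDinv : hasseD H 1 s⁻¹ ≠ 0 := by
        intro h0
        have h1 := hasseD_one_mul hH s s⁻¹
        rw [mul_inv_cancel₀ hs0, hD1, h0, mul_zero, zero_add, hDs, mul_one] at h1
        exact inv_ne_zero hs0 h1.symm
      refine ⟨1 + s⁻¹, ?_, ?_⟩
      · have := Valuation.map_add_eq_of_lt_left P.1 (x := (1 : K)) (y := s⁻¹)
          (by rw [map_one]; exact hinv)
        rw [this, map_one]
      · rw [hasseD_add, hD1, zero_add]; exact hDinv
  obtain ⟨t₀, ht₀⟩ := P.exists_uniformizer
  by_cases h0 : hasseD H 1 t₀ = 0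
  · obtain ⟨u, hu1, hDu⟩ := hunit
    refine ⟨t₀ * u, by rw [map_mul, ht₀, hu1, mul_one], ?_⟩
    rw [hasseD_one_mul hH, h0, mul_zero, add_zero]
    refine mul_ne_zero ?_ hDu
    rintro rfl
    rw [map_zero] at ht₀
    exact exp_ne_zero ht₀.symm
  · exact ⟨t₀, ht₀, h0⟩

end exist

section rank

variable [IsAlgClosed k] (hK : IsFunctionField k K) {s : K} {H : K →ₐ[k] PowerSeries K}

include hK in
/-- **Rank theorem**: the total Hasse derivatives of a `k`-independent tuple are `K`-independent. -/
theorem linearIndependent_H (hH : IsHasseFamily s H) {ι : Type*} [Fintype ι] {φ : ι → K}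
    (hφ : LinearIndependent k φ) : LinearIndependent K (fun i => H (φ i)) := by
  classical
  rw [Fintype.linearIndependent_iff]
  intro a ha
  by_contra hne
  push Not at hne
  obtain ⟨i₁, hi₁⟩ := hne
  -- a place and a local parameter
  obtain ⟨⟨x₀, hx₀, -⟩, -⟩ := id hK
  have hx₀r : x₀ ∉ Set.range (algebraMap k K) := by
    rintro ⟨c, rfl⟩
    exact hx₀ (isAlgebraic_algebraMap c)
  obtain ⟨P, -⟩ := exists_place_v_lt_one hK hx₀r
  have hP := Place.deg_eq_one_of_isAlgClosed hK P
  obtain ⟨t, ht, hDt⟩ := exists_uniformizer_hasseD_ne_zero P hH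
  obtain ⟨Ht, w, hHt, hw0, hHtw⟩ := exists_isHasseFamily_of_hasseD_ne_zero hH hDt
  have hsub : PowerSeries.HasSubst w := PowerSeries.HasSubst.of_constantCoeff_zero' hw0
  -- transport the relation to `Ht`
  have ha' : ∑ i, a i • Ht (φ i) = 0 := by
    have := congrArg (PowerSeries.substAlgHom hsub : PowerSeries K →ₐ[K] PowerSeries K) ha
    rw [map_sum, map_zero] at this
    rw [← this]
    refine Finset.sum_congr rfl fun i _ => ?_
    rw [map_smul, PowerSeries.coe_substAlgHom, hHtw]
  -- make the tuple integral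
  have htle := v_t_le_one ht
  have hex : ∀ x : K, ∃ N : ℕ, ∀ M ≥ N, P.1 (t ^ M * x) ≤ 1 := by
    intro x
    rcases eq_or_ne x 0 with rfl | hx
    · exact ⟨0, fun M _ => by simp⟩
    · refine ⟨(-P.ord x).toNat, fun M hM => ?_⟩
      rw [map_mul, v_t_pow ht, P.v_eq_exp_neg_ord hx, ← exp_add, ← exp_zero, exp_le_exp]
      have := Int.self_le_toNat (-P.ord x)
      omega
  choose Nf hNf using hex
  set N := Finset.univ.sup (fun i => Nf (φ i)) with hN
  have hint : ∀ i, P.1 (t ^ N * φ i) ≤ 1 := fun i =>
    hNf (φ i) N (Finset.le_sup (f := fun i => Nf (φ i)) (Finset.mem_univ i))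
  have htN : t ^ N ≠ 0 := pow_ne_zero _ (t_ne_zero ht)
  have hψ : LinearIndependent k (fun i => t ^ N * φ i) := by
    have := hφ.map' (LinearMap.mulLeft k (t ^ N)) (by
      rw [LinearMap.ker_eq_bot]
      intro x y hxy
      exact mul_left_cancel₀ htN hxy)
    exact this
  have hloc := linearIndependent_evalP_hasseD hP ht hK hHt hψ hint
  have ha'' : ∑ i, a i • Ht (t ^ N * φ i) = 0 := by
    have : ∑ i, a i • Ht (t ^ N * φ i) = Ht (t ^ N) * ∑ i, a i • Ht (φ i) := by
      rw [Finset.mul_sum]
      refine Finset.sum_congr rfl fun i _ => ?_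
      rw [map_mul, mul_smul_comm]
    rw [this, ha', mul_zero]
  -- normalize the coefficients
  obtain ⟨i₀, -, hi₀⟩ := Finset.exists_max_image Finset.univ (fun i => P.1 (a i))
    ⟨i₁, Finset.mem_univ _⟩
  have hai₀ : a i₀ ≠ 0 := by
    intro h0
    have := hi₀ i₁ (Finset.mem_univ _)
    rw [h0, map_zero] at this
    exact hi₁ ((map_eq_zero P.1).1 (le_antisymm this zero_le))
  set b : ι → K := fun i => a i / a i₀ with hb
  have hble : ∀ i, P.1 (b i) ≤ 1 := by
    intro i
    rw [hb, map_div₀]
    exact div_le_one_of_le₀ (hi₀ i (Finset.mem_univ _)) zero_le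
  have hbrel : ∀ j, ∑ i, b i * hasseD Ht j (t ^ N * φ i) = 0 := by
    intro j
    have := congrArg (PowerSeries.coeff j) ha''
    rw [map_sum, map_zero] at this
    have h2 : ∑ i, b i * hasseD Ht j (t ^ N * φ i) =
        (a i₀)⁻¹ * ∑ i, PowerSeries.coeff j (a i • Ht (t ^ N * φ i)) := by
      rw [Finset.mul_sum]
      refine Finset.sum_congr rfl fun i _ => ?_
      rw [PowerSeries.coeff_smul, hb, hasseD_apply]
      ring
    rw [h2, this, mul_zero]
  have hgrel : ∑ i, evalP P (b i) • (fun j : ℕ => evalP P (hasseD Ht j (t ^ N * φ i))) = 0 := by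
    funext j
    simp only [Finset.sum_apply, Pi.smul_apply, Pi.zero_apply, smul_eq_mul]
    rw [← evalP_zero P, ← hbrel j, evalP_sum P _ _ (fun i _ => by
      rw [map_mul]
      exact mul_le_one' (hble i) (v_hasseD_le_one hK hP ht hHt (hint i) j))]
    refine Finset.sum_congr rfl fun i _ => ?_
    rw [evalP_mul P (hble i) (v_hasseD_le_one hK hP ht hHt (hint i) j)]
  have h0 := Fintype.linearIndependent_iff.1 hloc _ hgrel i₀
  have hb1 : b i₀ = 1 := by rw [hb]; exact div_self hai₀
  rw [hb1] at h0
  have : evalP P (1 : K) = 1 := by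
    have := evalP_algebraMap P (1 : k)
    rwa [map_one, map_one] at this
  rw [this] at h0
  exact one_ne_zero h0

end rank

end SV
end FunFld
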