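import Groth.Agent.Lib.Helper5.SV.LocalOrders
import Groth.Agent.Lib.Helper5.FunFld.Criterion

/-! First order at a nonsingular point (helper5, Stöhr–Voloch cluster). -/

set_option autoImplicit false

namespace FunFld
namespace SV

open WithZero LocRes

variable {k K : Type*} [Field k] [Field K] [Algebra k K]

section

variable [IsAlgClosed k] (hK : IsFunctionField k K)

include hK in
/-- For a tuple normalized at `P` whose span contains `1`, the divisor of the map vanishes
at `P`. -/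
theorem mapDiv_eq_zero_of_normalized {ι : Type*} [Fintype ι] [Nonempty ι] {φ : ι → K}
    (hφ0 : ∀ i, φ i ≠ 0) (P : Place k K) (heff : (1 : K) ∈ Submodule.span k (Set.range φ))
    (hnorm : ∀ i, P.1 (φ i) ≤ 1) : mapDiv k φ P = 0 := by
  rw [mapDiv_apply hK φ P, neg_eq_zero]
  apply le_antisymm
  · by_contra hlt
    push Not at hlt
    have hall : ∀ i, P.1 (φ i) < 1 := by
      intro i
      rw [P.v_lt_one_iff (hφ0 i)]
      exact lt_of_lt_of_le hlt (minOrd_le φ P i)
    obtain ⟨a, ha⟩ := (Submodule.mem_span_range_iff_exists_fun k).1 heff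
    have : P.1 (1 : K) < 1 := by
      rw [← ha]
      refine Valuation.map_sum_lt _ one_ne_zero fun i _ => ?_
      rw [Algebra.smul_def, map_mul]
      exact lt_of_le_of_lt (mul_le_of_le_one_left zero_le (P.v_algebraMap_le _)) (hall i)
    rw [map_one] at this
    exact lt_irrefl _ this
  · rw [le_minOrd_iff]
    intro i
    exact (P.v_le_one_iff (hφ0 i)).1 (hnorm i)

include hK in
/-- **S12617**: at a nonsingular point the first order is `1`. -/
theorem first_order_eq_one_of_nonsingular {P : Place k K} {n : ℕ} (hn : 0 < n)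
    {φ : Fin (n + 1) → K} (hφ : LinearIndependent k φ)
    (heff : (1 : K) ∈ Submodule.span k (Set.range φ)) (hnorm : ∀ i, P.1 (φ i) ≤ 1)
    (hns : IsNonsingularAt φ P) {t : K} (ht : P.1 t = exp (-1 : ℤ))
    {Ht : K →ₐ[k] PowerSeries K} (hHt : IsHasseFamily t Ht) {J' : Fin n → ℕ}
    (hJ' : IsOrders (IsLocalRing.ResidueField P.O) (hcolAt P Ht φ) J') : J' ⟨0, hn⟩ = 1 := by
  have hP := Place.deg_eq_one_of_isAlgClosed hK P
  have hφ0 : ∀ i, φ i ≠ 0 := fun i => hφ.ne_zero i
  have hA := mem_range_orders_iff hK hP ht hHt hnorm hJ'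
  have hpar : ∃ t' : K, InLocRing φ P t' ∧ P.1 t' = exp (-1 : ℤ) :=
    ⟨t, hns t (v_t_le_one ht), ht⟩
  obtain ⟨f, hfW, hvf⟩ := (exists_param_iff hK hφ0 P).1 hpar
  rw [mapDiv_eq_zero_of_normalized hK hφ0 P heff hnorm, zero_sub] at hvf
  obtain ⟨l, hl⟩ := (hA 1).2 ⟨one_ne_zero, f, hfW, by simpa using hvf⟩
  have h1 : J' ⟨0, hn⟩ ≤ J' l := hJ'.1.monotone (by rw [Fin.le_def]; exact Nat.zero_le _)
  have h2 : J' ⟨0, hn⟩ ≠ 0 := ((hA _).1 ⟨_, rfl⟩).1
  omega

end

end SV
end FunFld
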