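import Groth.Agent.Lib.Helper5.SV.Triangular

/-! Multiplying a projective map by a function (helper5, Stöhr–Voloch cluster). -/

set_option autoImplicit false

namespace FunFld
namespace SV

open LocRes

variable {k K : Type*} [Field k] [Field K] [Algebra k K]

/-- The scaling factors for the columns of `y • φ`. -/
noncomputable def scaleU (τ : K →ₐ[k] K) (y : K) : ℕ → K
  | 0 => τ y
  | _ + 1 => y

theorem hcol_smul_triangular {ι : Type*} (τ : K →ₐ[k] K) {s : K} {H : K →ₐ[k] PowerSeries K}
    (hH : IsHasseFamily s H) (φ : ι → K) (y : K) (j : ℕ) :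
    hcol τ H (y • φ) j - scaleU τ y j • hcol τ H φ j ∈
      Submodule.span K (hcol τ H φ '' Set.Iio j) := by
  classical
  cases j with
  | zero =>
    have : hcol τ H (y • φ) 0 - scaleU τ y 0 • hcol τ H φ 0 = 0 := by
      funext i
      simp only [hcol_zero, scaleU, Pi.sub_apply, Pi.smul_apply, smul_eq_mul, map_mul,
        Pi.zero_apply, sub_self]
    rw [this]; exact zero_mem _
  | succ j =>
    have hmem : ((0, j) : ℕ × ℕ) ∈ Finset.HasAntidiagonal.antidiagonal j := by
      rw [Finset.HasAntidiagonal.mem_antidiagonal]; simp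
    have : hcol τ H (y • φ) (j + 1) - scaleU τ y (j + 1) • hcol τ H φ (j + 1) =
        ∑ p ∈ (Finset.HasAntidiagonal.antidiagonal j).erase (0, j),
          hasseD H p.1 y • hcol τ H φ (p.2 + 1) := by
      funext i
      simp only [hcol_succ, scaleU, Pi.sub_apply, Pi.smul_apply, smul_eq_mul, Finset.sum_apply]
      rw [hasseD_mul, ← Finset.add_sum_erase _ _ hmem, hasseD_zero hH]
      ring
    rw [this]
    refine Submodule.sum_mem _ fun p hp => Submodule.smul_mem _ _ ?_
    refine Submodule.subset_span ⟨p.2 + 1, ?_, rfl⟩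
    rw [Finset.mem_erase, Finset.HasAntidiagonal.mem_antidiagonal] at hp
    simp only [Set.mem_Iio]
    have hp1 : p.1 ≠ 0 := by
      intro h0
      apply hp.1
      ext
      · exact h0
      · simp only; omega
    omega

lemma scaleU_ne_zero (τ : K →ₐ[k] K) {y : K} (hy : y ≠ 0) (j : ℕ) : scaleU τ y j ≠ 0 := by
  cases j with
  | zero => exact (map_ne_zero τ).2 hy
  | succ j => exact hy

theorem isOrders_smul_iff {n : ℕ} (τ : K →ₐ[k] K) {s : K} {H : K →ₐ[k] PowerSeries K}
    (hH : IsHasseFamily s H) (φ : Fin (n + 1) → K) {y : K} (hy : y ≠ 0) (J : Fin n → ℕ) :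
    IsOrders K (hcol τ H (y • φ)) J ↔ IsOrders K (hcol τ H φ) J :=
  isOrders_iff_of_triangular (scaleU_ne_zero τ hy) (hcol_smul_triangular τ hH φ y) J

theorem det_wrMat_smul {n : ℕ} (τ : K →ₐ[k] K) {s : K} {H : K →ₐ[k] PowerSeries K}
    (hH : IsHasseFamily s H) (φ : Fin (n + 1) → K) (y : K) {J : Fin n → ℕ}
    (hJ : IsOrders K (hcol τ H φ) J) :
    (wrMat τ H (y • φ) J).det = τ y * y ^ n * (wrMat τ H φ J).det := by
  have := det_cols_of_triangular (hcol_smul_triangular τ hH φ y) hJ (wrMat τ H φ J)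
    (wrMat τ H (y • φ) J) (wrMat_col_zero τ H φ J) (wrMat_col_succ τ H φ J)
    (wrMat_col_zero τ H (y • φ) J) (wrMat_col_succ τ H (y • φ) J)
  rw [this]
  simp [scaleU]

end SV
end FunFld
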