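import Groth.Agent.Lib.Helper5.SV.FixedOrder
import Groth.Agent.Lib.Helper5.SV.Scale

/-! `τ`-orders versus orders at a strong fixed point (helper5, S12606). -/

set_option autoImplicit false

namespace FunFld
namespace SV

open WithZero LocRes

variable {k K : Type*} [Field k] [Field K] [Algebra k K]

/-- Invariance of the `τ`-orders under an invertible linear change over `k`. -/
theorem isOrders_linear_change {n : ℕ} (τ : K →ₐ[k] K) (H : K →ₐ[k] PowerSeries K)
    (φ φ' : Fin (n + 1) → K) (A : Matrix (Fin (n + 1)) (Fin (n + 1)) k) (hA : A.det ≠ 0)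
    (hφ' : ∀ i, φ' i = ∑ j, A i j • φ j) (J : Fin n → ℕ) :
    IsOrders K (hcol τ H φ') J ↔ IsOrders K (hcol τ H φ) J := by
  have hdetK : (A.map (algebraMap k K)).det = algebraMap k K A.det := by
    rw [RingHom.map_det]; rfl
  have hAK : IsUnit (A.map (algebraMap k K)) := by
    rw [Matrix.isUnit_iff_isUnit_det, hdetK]
    exact ((map_ne_zero (algebraMap k K)).2 hA).isUnit
  have hinj : Function.Injective (Matrix.mulVecLin (A.map (algebraMap k K))) :=
    Matrix.mulVec_injective_iff_isUnit.2 hAK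
  have hjump : ∀ j, IsJump K (hcol τ H φ') j ↔ IsJump K (hcol τ H φ) j := by
    intro j
    have : hcol τ H φ' =
        fun m => Matrix.mulVecLin (A.map (algebraMap k K)) (hcol τ H φ m) :=
      funext fun m => hcol_linear_change τ H φ φ' A hφ' m
    rw [this]
    exact isJump_map_iff _ hinj _ j
  unfold IsOrders
  simp only [hjump]

section pole

variable [PerfectField k] (hK : IsFunctionField k K)
variable {P : Place k K} (hP : P.deg = 1) {t : K} (ht : P.1 t = exp (-1 : ℤ))
variable {Ht : K →ₐ[k] PowerSeries K} (hHt : IsHasseFamily t Ht)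

include hK hP ht hHt in
/-- Hasse derivatives of the inverse of an integral element increase the pole order by at most
their index. -/
theorem v_hasseD_inv_le {f : K} {N : ℕ} (hf : P.1 f = exp (-(N : ℤ))) (i : ℕ) :
    P.1 (hasseD Ht i f⁻¹) ≤ exp ((N : ℤ) + i) := by
  have hf0 : f ≠ 0 := by
    rintro rfl
    rw [map_zero] at hf
    exact exp_ne_zero hf.symm
  induction i using Nat.strong_induction_on with
  | _ i ih =>
    cases i with
    | zero =>
      rw [hasseD_zero hHt, map_inv₀, hf, ← exp_neg]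
      simp
    | succ i =>
      have h1 : hasseD Ht (i + 1) (f * f⁻¹) = 0 := by
        rw [mul_inv_cancel₀ hf0, hasseD_one]
        simp
      rw [hasseD_mul, Finset.Nat.sum_antidiagonal_succ, hasseD_zero hHt] at h1
      have h2 : f * hasseD Ht (i + 1) f⁻¹ =
          -∑ p ∈ Finset.HasAntidiagonal.antidiagonal i,
            hasseD Ht (p.1 + 1) f * hasseD Ht p.2 f⁻¹ := by
        rw [eq_neg_iff_add_eq_zero]
        exact h1
      have h3 : P.1 (f * hasseD Ht (i + 1) f⁻¹) ≤ exp ((i : ℤ) + 1) := by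
        rw [h2, Valuation.map_neg]
        refine Valuation.map_sum_le _ fun p hp => ?_
        rw [Finset.HasAntidiagonal.mem_antidiagonal] at hp
        rw [map_mul]
        have ha := v_hasseD_le_exp hK hP ht hHt hf.le (p.1 + 1)
        have hb := ih p.2 (by omega)
        calc P.1 (hasseD Ht (p.1 + 1) f) * P.1 (hasseD Ht p.2 f⁻¹)
            ≤ exp (-((N : ℤ) - (p.1 + 1 : ℕ))) * exp ((N : ℤ) + p.2) := mul_le_mul' ha hb
          _ = exp ((i : ℤ) + 1) := by
            rw [← exp_add]
            congr 1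
            push_cast
            omega
      rw [map_mul, hf] at h3
      calc P.1 (hasseD Ht (i + 1) f⁻¹)
          = exp (N : ℤ) * (exp (-(N : ℤ)) * P.1 (hasseD Ht (i + 1) f⁻¹)) := by
            rw [← mul_assoc, ← exp_add, add_neg_cancel, exp_zero, one_mul]
        _ ≤ exp (N : ℤ) * exp ((i : ℤ) + 1) := mul_le_mul_right h3 _
        _ = exp ((N : ℤ) + (i + 1 : ℕ)) := by
            rw [← exp_add]
            congr 1

end pole

section main

variable [IsAlgClosed k] (hK : IsFunctionField k K)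

include hK in
/-- **S12606**: at a strong fixed point, `jₗ ≤ j'ₗ - j'₁`. -/
theorem orders_add_le_of_strongFixedPt (τ : K →ₐ[k] K) (P : Place k K)
    (hτ : IsStrongFixedPt τ P) {n : ℕ} (hn : 0 < n) (φ : Fin (n + 1) → K)
    (hφ : LinearIndependent k φ)
    (heff : (1 : K) ∈ Submodule.span k (Set.range φ)) (hnorm : ∀ i, P.1 (φ i) ≤ 1)
    (t : K) (ht : P.1 t = exp (-1 : ℤ))
    (Ht : K →ₐ[k] PowerSeries K) (hHt : IsHasseFamily t Ht)
    (J : Fin n → ℕ) (hJ : IsOrders K (hcol τ Ht φ) J)
    (J' : Fin n → ℕ) (hJ' : IsOrders (IsLocalRing.ResidueField P.O) (hcolAt P Ht φ) J') :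
    ∀ l, J l + J' ⟨0, hn⟩ ≤ J' l := by
  classical
  have hP := Place.deg_eq_one_of_isAlgClosed hK P
  have ht0 := t_ne_zero ht
  obtain ⟨φ', A, hAdet, hAφ, -, -, hφ'0, hφ'⟩ :=
    exists_adapted_basis_matrix hK hP ht hHt hφ heff hnorm hJ'
  have hJφ' : IsOrders K (hcol τ Ht φ') J :=
    (isOrders_linear_change τ Ht φ φ' A hAdet hAφ J).2 hJ
  set l0 : Fin n := ⟨0, hn⟩ with hl0
  set j0 := J' l0 with hj0
  have hj0pos : 0 < j0 := by
    have := ((mem_range_orders_iff hK hP ht hHt hnorm hJ' j0).1 ⟨l0, rfl⟩).1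
    omega
  have hJ'ge : ∀ l, j0 ≤ J' l := fun l => hJ'.1.monotone (Fin.mk_le_of_le_val (Nat.zero_le _))
  set f := φ' l0.succ with hf
  have hvf : P.1 f = exp (-(j0 : ℤ)) := (hφ' l0).1
  have hf0 : f ≠ 0 := by
    intro h0
    rw [h0, map_zero] at hvf
    exact exp_ne_zero hvf.symm
  set ψ : Fin (n + 1) → K := f⁻¹ • φ' with hψ
  have hJψ : IsOrders K (hcol τ Ht ψ) J :=
    (isOrders_smul_iff τ hHt φ' (inv_ne_zero hf0) J).2 hJφ'
  set I : Fin n → ℕ := fun l => J' l - j0 with hI
  have hImono : StrictMono I := by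
    intro l l' hll'
    have := hJ'.1 hll'
    have h1 := hJ'ge l
    show J' l - j0 < J' l' - j0
    omega
  -- it suffices to show that the determinant does not vanish
  suffices hdet : (wrMat τ Ht ψ I).det ≠ 0 by
    have hunit : IsUnit (wrMat τ Ht ψ I) := by
      rw [Matrix.isUnit_iff_isUnit_det]; exact hdet.isUnit
    have hli := Matrix.linearIndependent_cols_iff_isUnit.2 hunit
    intro l
    have := orders_le_of_linearIndependent (hcol τ Ht ψ) J hJψ I hImono
      (wrMat τ Ht ψ I).col hli (wrMat_col_zero τ Ht ψ I)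
      (fun m => wrMat_col_succ τ Ht ψ I m) l
    have h1 := hJ'ge l
    show J l + j0 ≤ J' l
    have h2 : I l = J' l - j0 := rfl
    omega
  -- the entries of `ψ`
  have hψ0 : ψ 0 = f⁻¹ := by
    show f⁻¹ • φ' 0 = f⁻¹
    rw [hφ'0, smul_eq_mul, mul_one]
  have hψs : ∀ l : Fin n, ψ l.succ = f⁻¹ * φ' l.succ := fun l => rfl
  have hvψ : ∀ l : Fin n, P.1 (ψ l.succ) = exp (-(I l : ℤ)) := by
    intro l
    rw [hψs, map_mul, map_inv₀, hvf, (hφ' l).1, ← exp_neg, ← exp_add]
    congr 1
    have h1 := hJ'ge l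
    have h2 : I l = J' l - j0 := rfl
    omega
  have hev1 : ∀ l : Fin n, evalP P (ψ l.succ / t ^ I l) = 1 := by
    intro l
    set x := φ' l.succ / t ^ J' l with hx
    set u := f / t ^ j0 with hu
    have hvx : P.1 x = 1 := by
      rw [hx, map_div₀, (hφ' l).1, v_t_pow ht]; exact div_self exp_ne_zero
    have hvu : P.1 u = 1 := by
      rw [hu, map_div₀, hvf, v_t_pow ht]; exact div_self exp_ne_zero
    have hu0 : u ≠ 0 := by
      intro h0
      rw [h0, map_zero] at hvu
      exact zero_ne_one hvu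
    have e : ψ l.succ / t ^ I l = x / u := by
      rw [hψs, hx, hu]
      have h1 := hJ'ge l
      have h2 : J' l = I l + j0 := by
        have : I l = J' l - j0 := rfl
        omega
      rw [h2, pow_add]
      field_simp
    have hxu : P.1 (x / u) ≤ 1 := by rw [map_div₀, hvx, hvu, _root_.div_one]
    have hmul : evalP P (x / u) * evalP P u = evalP P x := by
      rw [← evalP_mul P hxu hvu.le, div_mul_cancel₀ _ hu0]
    have hex : evalP P x = 1 := (hφ' l).2
    have heu : evalP P u = 1 := (hφ' l0).2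
    rw [e]
    rw [hex, heu, mul_one] at hmul
    exact hmul
  -- the order of `τ f`
  have hτf0 : τ f ≠ 0 := (map_ne_zero τ).2 hf0
  set Aord : ℤ := P.ord (τ f) with hAord
  have hvτf : P.1 (τ f) = exp (-Aord) := P.v_eq_exp_neg_ord hτf0
  have hAge : 2 * (j0 : ℤ) ≤ Aord := by
    have := strongFixedPt_v_le_exp hP ht hτ hvf.le
    rw [hvτf, exp_le_exp] at this
    omega
  have hfix := strongFixedPt_isFixedPt hτ
  set M := wrMat τ Ht ψ I with hMdef
  set a : Fin (n + 1) → ℤ := Fin.cons (-Aord) (fun l => (I l : ℤ)) with ha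
  set b : Fin (n + 1) → ℤ := Fin.cons 0 (fun l => (I l : ℤ)) with hb
  have hM00 : M 0 0 = (τ f)⁻¹ := by
    show τ (ψ 0) = _
    rw [hψ0, map_inv₀]
  have hM0s : ∀ s : Fin n, M 0 s.succ = hasseD Ht (I s) f⁻¹ := by
    intro s
    show hasseD Ht (I s) (ψ 0) = _
    rw [hψ0]
  have hMl0 : ∀ l : Fin n, M l.succ 0 = τ (ψ l.succ) := fun l => rfl
  have hMls : ∀ l s : Fin n, M l.succ s.succ = hasseD Ht (I s) (ψ l.succ) := fun l s => rfl
  have hM : ∀ r c, P.1 (M r c) ≤ exp (-(a r - b c)) := by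
    intro r c
    refine Fin.cases ?_ (fun l => ?_) r <;> refine Fin.cases ?_ (fun s => ?_) c
    · rw [hM00, map_inv₀, hvτf, ← exp_neg]
      simp [ha, hb]
    · rw [hM0s]
      refine (v_hasseD_inv_le hK hP ht hHt hvf (I s)).trans ?_
      rw [exp_le_exp]
      simp only [ha, hb, Fin.cons_zero, Fin.cons_succ]
      omega
    · rw [hMl0]
      simpa [ha, hb] using fixedPt_v_le_exp hP ht hfix (hvψ l).le
    · rw [hMls]
      have := v_hasseD_le_exp hK hP ht hHt (hvψ l).le (I s)
      simpa [ha, hb] using this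
  obtain ⟨-, h2⟩ := det_weights P ht M a b hM
  set Nb : Matrix (Fin (n + 1)) (Fin (n + 1)) (IsLocalRing.ResidueField P.O) :=
    Matrix.of fun r c => evalP P (M r c * t ^ (b c - a r)) with hNb
  have hN00 : Nb 0 0 ≠ 0 := by
    show evalP P (M 0 0 * t ^ (b 0 - a 0)) ≠ 0
    have hv1 : P.1 (M 0 0 * t ^ (b 0 - a 0)) = 1 := by
      rw [hM00, map_mul, map_inv₀, hvτf, v_t_zpow P ht, ← exp_neg, ← exp_add]
      simp [ha, hb]
    rw [Ne, evalP_eq_zero_iff P hv1.le, hv1]
    exact lt_irrefl _
  have hN0s : ∀ s : Fin n, Nb 0 s.succ = 0 := by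
    intro s
    show evalP P (M 0 s.succ * t ^ (b s.succ - a 0)) = 0
    have hlt : P.1 (M 0 s.succ * t ^ (b s.succ - a 0)) < 1 := by
      rw [hM0s, map_mul, v_t_zpow P ht]
      calc P.1 (hasseD Ht (I s) f⁻¹) * exp (-(b s.succ - a 0))
          ≤ exp ((j0 : ℤ) + I s) * exp (-(b s.succ - a 0)) :=
            mul_le_mul_left (v_hasseD_inv_le hK hP ht hHt hvf (I s)) _
        _ = exp ((j0 : ℤ) - Aord) := by
            rw [← exp_add]
            congr 1
            simp only [ha, hb, Fin.cons_zero, Fin.cons_succ]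
            ring
        _ < 1 := exp_lt_one_iff'.2 (by omega)
    exact (evalP_eq_zero_iff P hlt.le).2 hlt
  have hNls : ∀ l s : Fin n, (Nb.submatrix Fin.succ Fin.succ) l s =
      (((I l).choose (I s) : ℕ) : IsLocalRing.ResidueField P.O) := by
    intro l s
    show evalP P (M l.succ s.succ * t ^ (b s.succ - a l.succ)) = _
    rw [hMls]
    have e : b s.succ - a l.succ = (I s : ℤ) - (I l : ℤ) := by simp [ha, hb]
    rw [e, evalP_hasseD_mul_zpow hK hP ht hHt (hvψ l).le (I s), hev1 l, mul_one]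
  have hdetL : (Nb.submatrix Fin.succ Fin.succ).det = 1 := by
    rw [Matrix.det_of_isLowerTriangular]
    · refine Finset.prod_eq_one fun l _ => ?_
      rw [hNls, Nat.choose_self, Nat.cast_one]
    · intro l s hls
      rw [hNls]
      have : l < s := hls
      rw [Nat.choose_eq_zero_of_lt (hImono this), Nat.cast_zero]
  have hdetN : Nb.det ≠ 0 := by
    rw [det_of_row_zero Nb hN0s, hdetL, mul_one]
    exact hN00
  have := h2.2 hdetN
  intro h0
  rw [h0, map_zero] at this
  exact exp_ne_zero this.symm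

end main

end SV
end FunFld
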