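import Groth.Agent.Lib.Helper5.SV.Linear

/-! `τ`-orders versus orders (helper5, Stöhr–Voloch cluster). -/

set_option autoImplicit false

namespace FunFld
namespace SV

open LocRes

variable {k K : Type*} [Field k] [Field K] [Algebra k K]

/-- The jumps of the sequence of columns of Hasse derivatives are `0` and the orders. -/
theorem isJump_dcol_iff {n : ℕ} {φ : Fin (n + 1) → K} (hφ0 : φ ≠ 0) {s : K}
    {H : K →ₐ[k] PowerSeries K} (hH : IsHasseFamily s H) {J : Fin n → ℕ}
    (hJ : IsOrders K (hcol (AlgHom.id k K) H φ) J) (j : ℕ) :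
    IsJump K (dcol H φ) j ↔ (j = 0 ∨ j ∈ Set.range J) := by
  have hd0 : dcol H φ 0 = φ := dcol_zero hH φ
  have hc : hcol (AlgHom.id k K) H φ = prepend φ (dcol H φ) := by
    rw [hcol_eq_prepend]; rfl
  rw [hc] at hJ
  have hmem : φ ∈ Submodule.span K (Set.range (dcol H φ)) :=
    Submodule.subset_span ⟨0, hd0⟩
  obtain ⟨j₀, hj₀, -, hnot, hiff⟩ := exists_isJump_prepend_iff hφ0 hmem
  have hj₀0 : j₀ = 0 := by
    by_contra hne
    apply hnot
    refine Submodule.subset_span ⟨0, ?_, hd0⟩
    simp only [Set.mem_Iio]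
    omega
  subst hj₀0
  constructor
  · intro h
    by_cases hj : j = 0
    · exact Or.inl hj
    · exact Or.inr ((hJ.2 j).2 ((hiff j).2 ⟨h, hj⟩))
  · rintro (rfl | h)
    · exact hj₀
    · exact ((hiff j).1 ((hJ.2 j).1 h)).1

/-- The orders are positive. -/
theorem orders_pos {n : ℕ} {φ : Fin (n + 1) → K} {s : K}
    {H : K →ₐ[k] PowerSeries K} (hH : IsHasseFamily s H) {J : Fin n → ℕ}
    (hJ : IsOrders K (hcol (AlgHom.id k K) H φ) J) (l : Fin n) : J l ≠ 0 := by
  intro h0
  have h1 : IsJump K (hcol (AlgHom.id k K) H φ) (0 + 1) := (hJ.2 0).1 ⟨l, h0⟩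
  apply h1
  refine Submodule.subset_span ⟨0, by simp, ?_⟩
  funext i
  show (AlgHom.id k K) (φ i) = hasseD H 0 (φ i)
  rw [hasseD_zero hH]; rfl

/-- The `τ`-orders are `0` and the orders with one of them removed, provided the first `τ`-order
is `0`. -/
theorem exists_tau_orders {n : ℕ} {φ : Fin (n + 1) → K} (h0 : φ 0 ≠ 0) (τ : K →ₐ[k] K)
    {s : K} {H : K →ₐ[k] PowerSeries K} (hH : IsHasseFamily s H) {J : Fin n → ℕ}
    (hJ : IsOrders K (hcol (AlgHom.id k K) H φ) J)
    (hτ1 : IsJump K (hcol τ H φ) 1) :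
    ∃ m : Fin n, ∀ j : ℕ, IsJump K (hcol τ H φ) (j + 1) ↔ (j = 0 ∨ ∃ l, l ≠ m ∧ J l = j) := by
  classical
  have hφ0 : φ ≠ 0 := fun h => h0 (by rw [h]; rfl)
  have hτφ0 : (fun i => τ (φ i)) ≠ 0 := by
    intro h
    apply h0
    have := congrFun h 0
    exact (map_eq_zero τ).1 this
  have hjd := isJump_dcol_iff hφ0 hH hJ
  have hJpos := orders_pos hH hJ
  have hc : hcol τ H φ = prepend (fun i => τ (φ i)) (dcol H φ) := hcol_eq_prepend τ H φ
  rw [hc] at hτ1 ⊢
  by_cases hmem : (fun i => τ (φ i)) ∈ Submodule.span K (Set.range (dcol H φ))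
  · obtain ⟨j₀, hj₀, -, -, hiff⟩ := exists_isJump_prepend_iff hτφ0 hmem
    have hj₀ne : j₀ ≠ 0 := by
      rintro rfl
      exact ((hiff 0).1 hτ1).2 rfl
    obtain ⟨m, hm⟩ : j₀ ∈ Set.range J := ((hjd j₀).1 hj₀).resolve_left hj₀ne
    refine ⟨m, fun j => ?_⟩
    rw [hiff j, hjd j]
    constructor
    · rintro ⟨h | ⟨l, hl⟩, hne⟩
      · exact Or.inl h
      · refine Or.inr ⟨l, ?_, hl⟩
        rintro rfl
        exact hne (by rw [← hl, hm])
    · rintro (rfl | ⟨l, hlm, rfl⟩)
      · exact ⟨Or.inl rfl, fun h => hj₀ne h.symm⟩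
      · refine ⟨Or.inr ⟨l, rfl⟩, ?_⟩
        rw [← hm]
        exact fun h => hlm (hJ.1.injective h)
  · -- too many independent columns
    exfalso
    set c := prepend (fun i => τ (φ i)) (dcol H φ) with hcdef
    have hjumps : ∀ j, IsJump K c (j + 1) ↔ IsJump K (dcol H φ) j :=
      fun j => isJump_prepend_of_notMem hmem j
    have hj0 : IsJump K c 0 := (isJump_prepend_zero _ _).2 hτφ0
    have hli := linearIndepOn_jumps (F := K) c
    set S : Finset ℕ := insert 0 (insert 1 (Finset.univ.image (fun l : Fin n => J l + 1))) with hS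
    have h1S : (1 : ℕ) ∉ Finset.univ.image (fun l : Fin n => J l + 1) := by
      simp only [Finset.mem_image, Finset.mem_univ, true_and, not_exists]
      intro l hl
      exact hJpos l (by omega)
    have h0S : (0 : ℕ) ∉ insert 1 (Finset.univ.image (fun l : Fin n => J l + 1)) := by
      simp only [Finset.mem_insert, Finset.mem_image, Finset.mem_univ, true_and, not_or,
        not_exists]
      exact ⟨by omega, fun l hl => by omega⟩
    have hScard : S.card = n + 2 := by
      rw [hS, Finset.card_insert_of_notMem h0S, Finset.card_insert_of_notMem h1S,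
        Finset.card_image_of_injective _ (fun a b hab => hJ.1.injective (Nat.succ_injective hab)),
        Finset.card_univ, Fintype.card_fin]
    have hSsub : (S : Set ℕ) ⊆ {j | IsJump K c j} := by
      intro j hj
      rw [hS, Finset.coe_insert, Finset.coe_insert, Finset.coe_image] at hj
      rcases hj with rfl | rfl | ⟨l, -, rfl⟩
      · exact hj0
      · exact (hjumps 0).2 ((hjd 0).2 (Or.inl rfl))
      · exact (hjumps (J l)).2 ((hjd (J l)).2 (Or.inr ⟨l, rfl⟩))
    have hli' : LinearIndependent K (fun x : (S : Set ℕ) => c x) := hli.mono hSsub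
    have := hli'.fintype_card_le_finrank
    rw [Module.finrank_fin_fun] at this
    have hcard : Fintype.card (S : Set ℕ) = n + 2 := by
      rw [← hScard]; simp
    omega

end SV
end FunFld
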