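import Groth.Agent.Lib.Helper5.SV.DiffOrd
import Groth.Agent.Lib.Helper5.SV.StrongFixed
import Groth.Agent.Lib.Helper5.SV.TauOrders
import Groth.Agent.Lib.Helper5.SV.Nonsing

/-! The Weierstrass divisor at a fixed point (helper5, S12608, S12615). -/

set_option autoImplicit false

namespace FunFld
namespace SV

open WithZero LocRes

variable {k K : Type*} [Field k] [Field K] [Algebra k K]

section general

variable {F V : Type*} [Field F] [AddCommGroup V] [Module F V]

/-- The columns at the orders, together with the leading column, are independent. -/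
theorem linearIndependent_of_isOrders (c : ℕ → V) (h0 : c 0 ≠ 0) {n : ℕ} {J : Fin n → ℕ}
    (hJ : IsOrders F c J) :
    LinearIndependent F (Fin.cons (c 0) (fun l => c (J l + 1)) : Fin (n + 1) → V) := by
  classical
  have hli := linearIndepOn_jumps (F := F) c
  have h0j : IsJump F c 0 := by
    unfold IsJump
    have : c '' Set.Iio 0 = ∅ := by ext; simp
    rw [this, Submodule.span_empty]
    exact h0
  let e : Fin (n + 1) → {j | IsJump F c j} :=
    Fin.cons ⟨0, h0j⟩ (fun l => ⟨J l + 1, (hJ.2 (J l)).1 ⟨l, rfl⟩⟩)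
  have he : Function.Injective e := by
    intro a b hab
    have hab' : (e a : ℕ) = (e b : ℕ) := congrArg Subtype.val hab
    revert hab'
    refine Fin.cases ?_ (fun l => ?_) a <;> refine Fin.cases ?_ (fun l' => ?_) b
    · intro _; rfl
    · intro h
      have : (0 : ℕ) = J l' + 1 := h
      omega
    · intro h
      have : J l + 1 = (0 : ℕ) := h
      omega
    · intro h
      have : J l + 1 = J l' + 1 := h
      have h2 : J l = J l' := by omega
      rw [hJ.1.injective h2]
  have := hli.comp e he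
  convert this using 1
  funext a
  refine Fin.cases ?_ (fun l => ?_) a
  · rfl
  · rfl

end general

section det

/-- The Wronskian at the order sequence does not vanish. -/
theorem det_wrMat_ne_zero_of_isOrders {n : ℕ} {φ : Fin (n + 1) → K} (hφ : LinearIndependent k φ)
    (τ : K →ₐ[k] K) (H : K →ₐ[k] PowerSeries K) {J : Fin n → ℕ}
    (hJ : IsOrders K (hcol τ H φ) J) : (wrMat τ H φ J).det ≠ 0 := by
  classical
  have h0 : hcol τ H φ 0 ≠ 0 := by
    intro h
    have := congrFun h 0
    simp only [hcol_zero, Pi.zero_apply] at this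
    exact hφ.ne_zero 0 ((map_eq_zero τ).1 this)
  have hli := linearIndependent_of_isOrders (hcol τ H φ) h0 hJ
  have hcol : (wrMat τ H φ J).col =
      (Fin.cons (hcol τ H φ 0) (fun l => hcol τ H φ (J l + 1)) :
        Fin (n + 1) → Fin (n + 1) → K) := by
    funext a
    refine Fin.cases ?_ (fun l => ?_) a
    · rw [wrMat_col_zero]; rfl
    · rw [wrMat_col_succ]; rfl
  rw [← hcol] at hli
  have hunit := Matrix.linearIndependent_cols_iff_isUnit.1 hli
  rw [Matrix.isUnit_iff_isUnit_det] at hunit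
  exact hunit.ne_zero

end det

section atP

variable [IsAlgClosed k] (hK : IsFunctionField k K)

include hK in
/-- At a fixed point where `φ` is normalized and `t` is a local parameter, the coefficient of the
Weierstrass divisor is the order of the Wronskian. -/
theorem wDiv_apply_of_normalized (τ : K →ₐ[k] K) (P : Place k K) (hτ : IsFixedPt τ P)
    {n : ℕ} (φ : Fin (n + 1) → K) (hφ : LinearIndependent k φ)
    (heff : (1 : K) ∈ Submodule.span k (Set.range φ)) (hnorm : ∀ i, P.1 (φ i) ≤ 1)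
    (t : K) (ht : P.1 t = exp (-1 : ℤ))
    (Ht : K →ₐ[k] PowerSeries K) (hHt : IsHasseFamily t Ht) (J : Fin n → ℕ)
    (Φ : Place k K → (K →ₐ[k] LaurentSeries k))
    (hΦ : ∀ P : Place k K, IsExpansionAt P.1 (Φ P)) :
    wDiv τ Ht Φ t φ J P = P.ord (wrMat τ Ht φ J).det := by
  have hP := Place.deg_eq_one_of_isAlgClosed hK P
  have hφ0 : ∀ i, φ i ≠ 0 := fun i => hφ.ne_zero i
  have h1 : mapDiv k φ P = 0 := mapDiv_eq_zero_of_normalized hK hφ0 P heff hnorm
  have h2 : mapDiv k (τ ∘ φ) P = 0 := by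
    refine mapDiv_eq_zero_of_normalized hK (fun i => (map_ne_zero τ).2 (hφ0 i)) P ?_
      (fun i => fixedPt_v_le_one hP hτ (hnorm i))
    obtain ⟨a, ha⟩ := (Submodule.mem_span_range_iff_exists_fun k).1 heff
    rw [Submodule.mem_span_range_iff_exists_fun]
    refine ⟨a, ?_⟩
    have := congrArg τ ha
    rw [map_sum, map_one] at this
    rw [← this]
    refine Finset.sum_congr rfl fun i _ => ?_
    rw [map_smul]
  have h3 : divDiff Φ 1 t P = 0 := divDiff_one_self_apply hK ht hHt hΦ
  unfold wDiv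
  rw [Finsupp.add_apply, Finsupp.add_apply, Finsupp.add_apply, Finsupp.smul_apply,
    Finsupp.smul_apply, h1, h2, h3, div_apply hK]
  simp

include hK in
/-- **S12615**. -/
theorem le_wDiv_apply_fixedPt (τ : K →ₐ[k] K) (P : Place k K) (hτ : IsFixedPt τ P)
    {n : ℕ} (φ : Fin (n + 1) → K) (hφ : LinearIndependent k φ)
    (heff : (1 : K) ∈ Submodule.span k (Set.range φ)) (hnorm : ∀ i, P.1 (φ i) ≤ 1)
    (t : K) (ht : P.1 t = exp (-1 : ℤ))
    (Ht : K →ₐ[k] PowerSeries K) (hHt : IsHasseFamily t Ht)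
    (J : Fin n → ℕ) (hJ : IsOrders K (hcol τ Ht φ) J)
    (J' : Fin n → ℕ) (hJ' : IsOrders (IsLocalRing.ResidueField P.O) (hcolAt P Ht φ) J')
    (Φ : Place k K → (K →ₐ[k] LaurentSeries k))
    (hΦ : ∀ P : Place k K, IsExpansionAt P.1 (Φ P)) :
    (∑ l, ((J' l : ℤ) - J l)) ≤ wDiv τ Ht Φ t φ J P ∧
    ((τ = AlgHom.id k K ∨ IsStrongFixedPt τ P) →
      (wDiv τ Ht Φ t φ J P = ∑ l, ((J' l : ℤ) - J l) ↔ (binomMat k J' J).det ≠ 0)) := by
  rw [wDiv_apply_of_normalized hK τ P hτ φ hφ heff hnorm t ht Ht hHt J Φ hΦ]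
  have hdet0 := det_wrMat_ne_zero_of_isOrders hφ τ Ht hJ
  obtain ⟨h1, h2⟩ := v_det_wrMat_fixedPt hK τ P hτ φ hφ heff hnorm t ht Ht hHt J' hJ' J
  constructor
  · have := (P.v_le_exp_iff hdet0).1 h1
    simpa using this
  · intro hcase
    have hcase' : (∀ l, 0 < J l) ∨ IsStrongFixedPt τ P := by
      rcases hcase with rfl | h
      · exact Or.inl fun l => Nat.pos_of_ne_zero (orders_pos hHt hJ l)
      · exact Or.inr h
    rw [← h2 hcase', P.v_eq_exp_neg_ord hdet0, exp_inj, neg_inj]

lemma binomMat_self_det (R : Type*) [CommRing R] {n : ℕ} {J : Fin n → ℕ} (hJ : StrictMono J) :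
    (binomMat R J J).det = 1 := by
  rw [Matrix.det_of_isLowerTriangular]
  · refine Finset.prod_eq_one fun l _ => ?_
    show (((J l).choose (J l) : ℕ) : R) = 1
    rw [Nat.choose_self, Nat.cast_one]
  · intro l s hls
    have : l < s := hls
    show (((J l).choose (J s) : ℕ) : R) = 0
    rw [Nat.choose_eq_zero_of_lt (hJ this), Nat.cast_zero]

omit [IsAlgClosed k] in
lemma isFixedPt_id (P : Place k K) : IsFixedPt (AlgHom.id k K) P := fun _ hz => hz

include hK in
/-- **S12608**. -/
theorem orders_le_ordersAt (P : Place k K) {n : ℕ} (φ : Fin (n + 1) → K)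
    (hφ : LinearIndependent k φ)
    (heff : (1 : K) ∈ Submodule.span k (Set.range φ)) (hnorm : ∀ i, P.1 (φ i) ≤ 1)
    (t : K) (ht : P.1 t = exp (-1 : ℤ))
    (Ht : K →ₐ[k] PowerSeries K) (hHt : IsHasseFamily t Ht)
    (J : Fin n → ℕ) (hJ : IsOrders K (hcol (AlgHom.id k K) Ht φ) J)
    (J' : Fin n → ℕ) (hJ' : IsOrders (IsLocalRing.ResidueField P.O) (hcolAt P Ht φ) J')
    (Φ : Place k K → (K →ₐ[k] LaurentSeries k))
    (hΦ : ∀ P : Place k K, IsExpansionAt P.1 (Φ P)) :
    (∀ l, J l ≤ J' l) ∧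
    ((∀ l, J' l = J l) ↔ evalP P (wrMat (AlgHom.id k K) Ht φ J).det ≠ 0) ∧
    ((∀ l, J' l = J l) ↔ wDiv (AlgHom.id k K) Ht Φ t φ J P = 0) := by
  classical
  have hP := Place.deg_eq_one_of_isAlgClosed hK P
  have hid := isFixedPt_id (k := k) P
  have hJ'pos : ∀ l, 0 < J' l := by
    intro l
    have := ((mem_range_orders_iff hK hP ht hHt hnorm hJ' (J' l)).1 ⟨l, rfl⟩).1
    omega
  have hJpos : ∀ l, 0 < J l := fun l => Nat.pos_of_ne_zero (orders_pos hHt hJ l)
  -- (a)
  have ha : ∀ l, J l ≤ J' l := by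
    obtain ⟨-, h2⟩ := v_det_wrMat_fixedPt hK (AlgHom.id k K) P hid φ hφ heff hnorm t ht Ht hHt
      J' hJ' J'
    have h3 := (h2 (Or.inl hJ'pos)).2 (by rw [binomMat_self_det k hJ'.1]; exact one_ne_zero)
    have hdet : (wrMat (AlgHom.id k K) Ht φ J').det ≠ 0 := by
      intro h0
      rw [h0, map_zero] at h3
      exact exp_ne_zero h3.symm
    have hunit : IsUnit (wrMat (AlgHom.id k K) Ht φ J') := by
      rw [Matrix.isUnit_iff_isUnit_det]; exact hdet.isUnit
    have hli := Matrix.linearIndependent_cols_iff_isUnit.2 hunit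
    intro l
    exact orders_le_of_linearIndependent (hcol (AlgHom.id k K) Ht φ) J hJ J' hJ'.1
      (wrMat (AlgHom.id k K) Ht φ J').col hli (wrMat_col_zero _ Ht φ J')
      (fun m => wrMat_col_succ _ Ht φ J' m) l
  have hdet0 := det_wrMat_ne_zero_of_isOrders hφ (AlgHom.id k K) Ht hJ
  obtain ⟨h1, h2⟩ := v_det_wrMat_fixedPt hK (AlgHom.id k K) P hid φ hφ heff hnorm t ht Ht hHt
    J' hJ' J
  have h2' := h2 (Or.inl hJpos)
  -- the key equivalence: equality of orders iff the Wronskian is a unit at `P`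
  have hkey : (∀ l, J' l = J l) ↔ P.1 (wrMat (AlgHom.id k K) Ht φ J).det = 1 := by
    constructor
    · intro heq
      have hJJ : J' = J := funext heq
      rw [hJJ] at h2'
      have := h2'.2 (by rw [binomMat_self_det k hJ.1]; exact one_ne_zero)
      simpa using this
    · intro hv
      rw [hv, ← exp_zero, exp_le_exp] at h1
      have hsum : ∑ l, ((J' l : ℤ) - J l) ≤ 0 := by omega
      have hnn : ∀ l ∈ Finset.univ, (0 : ℤ) ≤ (J' l : ℤ) - J l := by
        intro l _
        have := ha l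
        omega
      have hz : ∑ l, ((J' l : ℤ) - J l) = 0 :=
        le_antisymm hsum (Finset.sum_nonneg hnn)
      intro l
      have := (Finset.sum_eq_zero_iff_of_nonneg hnn).1 hz l (Finset.mem_univ l)
      omega
  refine ⟨ha, ?_, ?_⟩
  · rw [hkey]
    constructor
    · intro hv
      rw [Ne, evalP_eq_zero_iff P hv.le, hv]
      exact lt_irrefl _
    · intro hne
      by_cases hle : P.1 (wrMat (AlgHom.id k K) Ht φ J).det ≤ 1
      · rw [Ne, evalP_eq_zero_iff P hle, not_lt] at hne
        exact le_antisymm hle hne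
      · exfalso
        apply hne
        rw [evalP, dif_neg hle]
  · rw [wDiv_apply_of_normalized hK _ P hid φ hφ heff hnorm t ht Ht hHt J Φ hΦ, hkey,
      P.v_eq_exp_neg_ord hdet0, ← exp_zero, exp_inj, neg_eq_zero]

end atP

end SV
end FunFld
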