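import Groth.Agent.Lib.Helper5.SV.Binom
import Groth.Agent.Lib.Helper5.SV.WDivLocal
import Groth.Agent.Lib.Helper5.SV.Orders
import Groth.Agent.Lib.Helper5.SV.Chain
import Groth.Agent.Lib.Helper5.SV.Rank

/-! Classical orders in large characteristic (helper5, S12611). -/

set_option autoImplicit false

namespace FunFld
namespace SV

open WithZero LocRes

variable {k K : Type*} [Field k] [Field K] [Algebra k K]

section mapdiv

variable (hK : IsFunctionField k K) {ι : Type*} [Fintype ι] [Nonempty ι]

include hK in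
/-- The divisor of a scaled tuple. -/
theorem mapDiv_smul {φ : ι → K} (hφ : ∀ i, φ i ≠ 0) {y : K} (hy : y ≠ 0) :
    mapDiv k (y • φ) = mapDiv k φ - div k y := by
  ext P
  rw [Finsupp.sub_apply, mapDiv_apply hK, mapDiv_apply hK, div_apply hK]
  have : minOrd (y • φ) P = P.ord y + minOrd φ P := by
    apply le_antisymm
    · obtain ⟨i, hi⟩ := exists_minOrd_eq φ P
      rw [hi]
      refine (minOrd_le (y • φ) P i).trans_eq ?_
      show P.ord (y * φ i) = _
      rw [P.ord_mul hy (hφ i)]
    · rw [le_minOrd_iff]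
      intro i
      show _ ≤ P.ord (y * φ i)
      rw [P.ord_mul hy (hφ i)]
      have := minOrd_le φ P i
      omega
  rw [this]
  ring

end mapdiv

section ordersAt

variable [IsAlgClosed k] (hK : IsFunctionField k K)
variable {P : Place k K} {t : K} (ht : P.1 t = exp (-1 : ℤ))
variable {Ht : K →ₐ[k] PowerSeries K} (hHt : IsHasseFamily t Ht)

include hK ht hHt in
/-- Existence of the order sequence at a place. -/
theorem exists_isOrdersAt {n : ℕ} {φ : Fin (n + 1) → K} (hφ : LinearIndependent k φ)
    (heff : (1 : K) ∈ Submodule.span k (Set.range φ)) (hnorm : ∀ i, P.1 (φ i) ≤ 1) :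
    ∃ J' : Fin n → ℕ, IsOrders (IsLocalRing.ResidueField P.O) (hcolAt P Ht φ) J' := by
  classical
  have hP := Place.deg_eq_one_of_isAlgClosed hK P
  set κ := IsLocalRing.ResidueField P.O
  have hrows := linearIndependent_evalP_hasseD hP ht hK hHt hφ hnorm
  have hspan : Submodule.span κ (Set.range (hcolAt P Ht φ)) = ⊤ := by
    by_contra hne
    have hlt : Submodule.span κ (Set.range (hcolAt P Ht φ)) < ⊤ := lt_top_iff_ne_top.2 hne
    obtain ⟨f, hf0, hf⟩ := Submodule.exists_dual_map_eq_bot_of_lt_top hlt inferInstance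
    apply hf0
    have hfd : ∀ j, f (hcolAt P Ht φ j) = 0 := by
      intro j
      have : f (hcolAt P Ht φ j) ∈ (Submodule.span κ (Set.range (hcolAt P Ht φ))).map f :=
        ⟨_, Submodule.subset_span ⟨j, rfl⟩, rfl⟩
      rw [hf, Submodule.mem_bot] at this
      exact this
    set a : Fin (n + 1) → κ := fun i => f (fun j => if i = j then 1 else 0) with ha
    have hfa : ∀ v : Fin (n + 1) → κ, f v = ∑ i, v i * a i := by
      intro v
      rw [LinearMap.pi_apply_eq_sum_univ f v]
      refine Finset.sum_congr rfl fun i _ => ?_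
      rw [smul_eq_mul]
    have hrel : ∑ i, a i • (fun j : ℕ => evalP P (hasseD Ht j (φ i))) = 0 := by
      funext j
      have := hfd (j + 1)
      rw [hfa] at this
      rw [Finset.sum_apply, Pi.zero_apply, ← this]
      refine Finset.sum_congr rfl fun i _ => ?_
      rw [Pi.smul_apply, smul_eq_mul, mul_comm]
      rfl
    have hzero := Fintype.linearIndependent_iff.1 hrows a hrel
    refine LinearMap.ext fun v => ?_
    rw [hfa v]
    simp [hzero]
  have h0 : hcolAt P Ht φ 0 ≠ 0 := by
    intro h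
    have hall : ∀ i, P.1 (φ i) < 1 := by
      intro i
      have := congrFun h i
      exact (evalP_eq_zero_iff P (hnorm i)).1 this
    obtain ⟨a, ha⟩ := (Submodule.mem_span_range_iff_exists_fun k).1 heff
    have : P.1 (1 : K) < 1 := by
      rw [← ha]
      refine Valuation.map_sum_lt _ one_ne_zero fun i _ => ?_
      rw [Algebra.smul_def, map_mul]
      exact lt_of_le_of_lt (mul_le_of_le_one_left zero_le (P.v_algebraMap_le _)) (hall i)
    rw [map_one] at this
    exact lt_irrefl _ this
  obtain ⟨J', hJ', -⟩ := exists_isOrders_of_span_top (hcolAt P Ht φ) h0 hspan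
  exact ⟨J', hJ'⟩

include hK ht hHt in
/-- The orders at a place are bounded by the degree of the map. -/
theorem ordersAt_le_deg {n : ℕ} {φ : Fin (n + 1) → K} (hφ : LinearIndependent k φ)
    (heff : (1 : K) ∈ Submodule.span k (Set.range φ)) (hnorm : ∀ i, P.1 (φ i) ≤ 1)
    {J' : Fin n → ℕ} (hJ' : IsOrders (IsLocalRing.ResidueField P.O) (hcolAt P Ht φ) J')
    (l : Fin n) : (J' l : ℤ) ≤ (mapDiv k φ).deg := by
  classical
  have hP := Place.deg_eq_one_of_isAlgClosed hK P
  have hφ0 : ∀ i, φ i ≠ 0 := fun i => hφ.ne_zero i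
  obtain ⟨-, f, hfW, hvf⟩ := (mem_range_orders_iff hK hP ht hHt hnorm hJ' (J' l)).1 ⟨l, rfl⟩
  have hf0 : f ≠ 0 := by
    rintro rfl
    rw [map_zero] at hvf
    exact exp_ne_zero hvf.symm
  have hfL : f ∈ L (mapDiv k φ) := span_le_L_mapDiv hK φ hfW
  have hE0 : mapDiv k φ P = 0 := mapDiv_eq_zero_of_normalized hK hφ0 P heff hnorm
  have hge : (Finsupp.single P (J' l : ℤ) : Divisor k K) ≤ mapDiv k φ + div k f := by
    intro Q
    by_cases hQ : Q = P
    · rw [hQ, Finsupp.single_eq_same, Finsupp.add_apply, hE0, zero_add, div_apply hK]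
      have := P.ord_eq_of_v_eq hvf
      omega
    · rw [Finsupp.single_eq_of_ne hQ]
      exact (mem_L_iff_div hK hf0).1 hfL Q
  have := Divisor.deg_mono hge
  rw [Divisor.deg_single, hP, Divisor.deg_add, deg_div hK, add_zero] at this
  simpa using this

end ordersAt

section classical

variable [IsAlgClosed k] (hK : IsFunctionField k K)

lemma strictMono_add_le {n : ℕ} {J : Fin n → ℕ} (hJ : StrictMono J) (c : ℕ)
    (h0 : ∀ h : 0 < n, c ≤ J ⟨0, h⟩) (l : Fin n) : c + (l : ℕ) ≤ J l := by
  obtain ⟨m, hm⟩ := l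
  induction m with
  | zero => simpa using h0 hm
  | succ m ih =>
    have h1 := ih (by omega)
    have h2 : J ⟨m, by omega⟩ < J ⟨m + 1, hm⟩ := hJ (by simp [Fin.lt_def])
    show c + (m + 1) ≤ J ⟨m + 1, hm⟩
    have h1' : c + m ≤ J ⟨m, by omega⟩ := h1
    omega

include hK in
/-- Normalization of a tuple at a place, with the orders there. -/
theorem exists_setup_at (P : Place k K) {n : ℕ} (φ : Fin (n + 1) → K)
    (hφ : LinearIndependent k φ) {s : K} {H : K →ₐ[k] PowerSeries K} (hH : IsHasseFamily s H) :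
    ∃ (t : K) (Ht : K →ₐ[k] PowerSeries K) (y : K) (J' : Fin n → ℕ),
      P.1 t = exp (-1 : ℤ) ∧ IsHasseFamily t Ht ∧ y ≠ 0 ∧ LinearIndependent k (y • φ) ∧
      (1 : K) ∈ Submodule.span k (Set.range (y • φ)) ∧ (∀ i, P.1 ((y • φ) i) ≤ 1) ∧
      IsOrders (IsLocalRing.ResidueField P.O) (hcolAt P Ht (y • φ)) J' ∧
      ∀ l, (J' l : ℤ) ≤ (mapDiv k φ).deg := by
  classical
  have hφ0 : ∀ i, φ i ≠ 0 := fun i => hφ.ne_zero i
  obtain ⟨t, ht, hDt⟩ := exists_uniformizer_hasseD_ne_zero P hH
  obtain ⟨Ht, -, hHt, -, -⟩ := exists_isHasseFamily_of_hasseD_ne_zero hH hDt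
  obtain ⟨j, hj⟩ := exists_minOrd_eq φ P
  set y := (φ j)⁻¹ with hy
  have hy0 : y ≠ 0 := inv_ne_zero (hφ0 j)
  have hli : LinearIndependent k (y • φ) := by
    have : (y • φ) = fun i => y • φ i := rfl
    rw [this]
    exact hφ.map' (LinearMap.mulLeft k y) (by
      rw [LinearMap.ker_eq_bot]
      intro a b hab
      exact mul_left_cancel₀ hy0 hab)
  have heff : (1 : K) ∈ Submodule.span k (Set.range (y • φ)) := by
    refine Submodule.subset_span ⟨j, ?_⟩
    show y * φ j = 1
    rw [hy, inv_mul_cancel₀ (hφ0 j)]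
  have hnorm : ∀ i, P.1 ((y • φ) i) ≤ 1 := by
    intro i
    show P.1 (y * φ i) ≤ 1
    rw [P.v_le_one_iff (mul_ne_zero hy0 (hφ0 i)), P.ord_mul hy0 (hφ0 i), hy, P.ord_inv]
    have := minOrd_le φ P i
    omega
  obtain ⟨J', hJ'⟩ := exists_isOrdersAt hK ht hHt hli heff hnorm
  refine ⟨t, Ht, y, J', ht, hHt, hy0, hli, heff, hnorm, hJ', fun l => ?_⟩
  have := ordersAt_le_deg hK ht hHt hli heff hnorm hJ' l
  rwa [mapDiv_smul hK hφ0 hy0, Divisor.deg_sub, deg_div hK, sub_zero] at this

include hK in
/-- If the determinant for a strictly increasing sequence `I` (computed for a scaled tuple and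
another separating variable) does not vanish and `I` is termwise minimal, then `I` is the order
sequence. -/
theorem isOrders_of_det_ne_zero {n : ℕ} (φ : Fin (n + 1) → K)
    (τ : K →ₐ[k] K) {s : K} {H : K →ₐ[k] PowerSeries K} (hH : IsHasseFamily s H)
    {t : K} {Ht : K →ₐ[k] PowerSeries K} (hHt : IsHasseFamily t Ht) {y : K} (hy : y ≠ 0)
    (hli : LinearIndependent k (y • φ))
    {I : Fin n → ℕ} (hI : StrictMono I) (hdet : (wrMat τ Ht (y • φ) I).det ≠ 0)
    (hmin : ∀ J : Fin n → ℕ, IsOrders K (hcol τ Ht (y • φ)) J → ∀ l, I l ≤ J l) :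
    IsOrders K (hcol τ H φ) I := by
  classical
  obtain ⟨J, hJ, -⟩ := exists_isOrders_det_ne_zero hK hHt hli τ
  have hunit : IsUnit (wrMat τ Ht (y • φ) I) := by
    rw [Matrix.isUnit_iff_isUnit_det]; exact hdet.isUnit
  have hlic := Matrix.linearIndependent_cols_iff_isUnit.2 hunit
  have hle : ∀ l, J l ≤ I l := fun l =>
    orders_le_of_linearIndependent (hcol τ Ht (y • φ)) J hJ I hI
      (wrMat τ Ht (y • φ) I).col hlic (wrMat_col_zero τ Ht (y • φ) I)
      (fun m => wrMat_col_succ τ Ht (y • φ) I m) l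
  have hJI : J = I := funext fun l => le_antisymm (hle l) (hmin J hJ l)
  rw [hJI] at hJ
  have h1 : IsOrders K (hcol τ Ht φ) I := (isOrders_smul_iff τ hHt φ hy I).1 hJ
  exact (isOrders_chain_iff hK τ hH hHt φ I).1 h1

include hK in
/-- **S12611**: classical orders in characteristic `0` or larger than the degree. -/
theorem classical_orders {n : ℕ} (φ : Fin (n + 1) → K) (hφ : LinearIndependent k φ)
    (hchar : ringChar k = 0 ∨ (mapDiv k φ).deg < ringChar k)
    (τ : K →ₐ[k] K) (s : K) (H : K →ₐ[k] PowerSeries K) (hH : IsHasseFamily s H) :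
    (τ = AlgHom.id k K → IsOrders K (hcol τ H φ) (fun l : Fin n => (l : ℕ) + 1)) ∧
    (τ ≠ AlgHom.id k K → (∃ P : Place k K, IsStrongFixedPt τ P) →
      IsOrders K (hcol τ H φ) (fun l : Fin n => (l : ℕ))) := by
  classical
  constructor
  · rintro rfl
    obtain ⟨P⟩ := nonempty_place hK
    obtain ⟨t, Ht, y, J', ht, hHt, hy0, hli, heff, hnorm, hJ', hJ'le⟩ :=
      exists_setup_at hK P φ hφ hH
    have hP := Place.deg_eq_one_of_isAlgClosed hK P
    set I : Fin n → ℕ := fun l => (l : ℕ) + 1 with hI
    have hImono : StrictMono I := fun a b hab => by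
      show (a : ℕ) + 1 < (b : ℕ) + 1
      have : (a : ℕ) < (b : ℕ) := hab
      omega
    have hJ'pos : ∀ l, 0 < J' l := by
      intro l
      have := ((mem_range_orders_iff hK hP ht hHt hnorm hJ' (J' l)).1 ⟨l, rfl⟩).1
      omega
    set N := ((mapDiv k φ).deg).toNat with hN
    have hJ'N : ∀ l, J' l ≤ N := fun l => by
      have := hJ'le l
      omega
    have hcharN : ringChar k = 0 ∨ N < ringChar k := by
      rcases hchar with h | h
      · exact Or.inl h
      · by_cases hc0 : ringChar k = 0
        · exact Or.inl hc0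
        · right
          have hcpos : 0 < ringChar k := Nat.pos_of_ne_zero hc0
          omega
    -- the binomial determinant
    have hbin : (binomMat k J' I).det ≠ 0 := by
      set v : Fin (n + 1) → ℕ := Fin.cons 0 J' with hv
      have hvmono : StrictMono v := by
        intro a b
        refine Fin.cases ?_ (fun l => ?_) a <;> refine Fin.cases ?_ (fun l' => ?_) b
        · intro h; exact absurd h (lt_irrefl _)
        · intro _
          show (0 : ℕ) < J' l'
          exact hJ'pos l'
        · intro h; exact absurd h (Fin.not_lt_zero _)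
        · intro h
          show J' l < J' l'
          exact hJ'.1 (Fin.succ_lt_succ_iff.1 h)
      have hvN : ∀ i, v i ≤ N := by
        intro i
        refine Fin.cases ?_ (fun l => ?_) i
        · show (0 : ℕ) ≤ N
          omega
        · exact hJ'N l
      have hE := det_choose_ne_zero (k := k) hvmono hvN hcharN
      rw [det_of_row_zero] at hE
      · have hsub : (Matrix.of fun i j : Fin (n + 1) => ((Nat.choose (v i) j : ℕ) : k)).submatrix
            Fin.succ Fin.succ = binomMat k J' I := by
          ext r c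
          simp [binomMat, hv, hI]
        rw [hsub] at hE
        exact right_ne_zero_of_mul hE
      · intro c
        simp [hv]
    obtain ⟨-, h2⟩ := v_det_wrMat_fixedPt hK (AlgHom.id k K) P (isFixedPt_id P) (y • φ) hli heff
      hnorm t ht Ht hHt J' hJ' I
    have hv := (h2 (Or.inl fun l => Nat.succ_pos _)).2 hbin
    have hdet : (wrMat (AlgHom.id k K) Ht (y • φ) I).det ≠ 0 := by
      intro h0
      rw [h0, map_zero] at hv
      exact exp_ne_zero hv.symm
    refine isOrders_of_det_ne_zero hK φ _ hH hHt hy0 hli hImono hdet ?_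
    intro J hJ l
    have := strictMono_add_le hJ.1 1 (fun h => Nat.one_le_iff_ne_zero.2 (orders_pos hHt hJ _)) l
    show (l : ℕ) + 1 ≤ J l
    omega
  · rintro - ⟨P, hstrong⟩
    obtain ⟨t, Ht, y, J', ht, hHt, hy0, hli, heff, hnorm, hJ', hJ'le⟩ :=
      exists_setup_at hK P φ hφ hH
    have hP := Place.deg_eq_one_of_isAlgClosed hK P
    set I : Fin n → ℕ := fun l => (l : ℕ) with hI
    have hImono : StrictMono I := fun a b hab => hab
    set N := ((mapDiv k φ).deg).toNat with hN
    have hJ'N : ∀ l, J' l ≤ N := fun l => by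
      have := hJ'le l
      omega
    have hcharN : ringChar k = 0 ∨ N < ringChar k := by
      rcases hchar with h | h
      · exact Or.inl h
      · by_cases hc0 : ringChar k = 0
        · exact Or.inl hc0
        · right
          have hcpos : 0 < ringChar k := Nat.pos_of_ne_zero hc0
          omega
    have hbin : (binomMat k J' I).det ≠ 0 := det_choose_ne_zero (k := k) hJ'.1 hJ'N hcharN
    obtain ⟨-, h2⟩ := v_det_wrMat_fixedPt hK τ P (strongFixedPt_isFixedPt hstrong) (y • φ) hli heff
      hnorm t ht Ht hHt J' hJ' I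
    have hv := (h2 (Or.inr hstrong)).2 hbin
    have hdet : (wrMat τ Ht (y • φ) I).det ≠ 0 := by
      intro h0
      rw [h0, map_zero] at hv
      exact exp_ne_zero hv.symm
    refine isOrders_of_det_ne_zero hK φ _ hH hHt hy0 hli hImono hdet ?_
    intro J hJ l
    have := strictMono_add_le hJ.1 0 (fun h => Nat.zero_le _) l
    show (l : ℕ) ≤ J l
    omega

end classical

end SV
end FunFld
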