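import Groth.Agent.Lib.Helper5.SV.Local

/-! Values at a place of Hasse derivatives with respect to a local parameter (helper5). -/

set_option autoImplicit false

namespace FunFld
namespace SV

open WithZero LocRes

variable {k K : Type*} [Field k] [Field K] [Algebra k K]

section evalP

variable (P : Place k K)

lemma evalP_of_le {z : K} (hz : P.1 z ≤ 1) :
    evalP P z = IsLocalRing.residue P.O ⟨z, P.mem_O_iff.2 hz⟩ := by
  rw [evalP, dif_pos hz]

lemma evalP_eq_zero_iff {z : K} (hz : P.1 z ≤ 1) : evalP P z = 0 ↔ P.1 z < 1 := by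
  rw [evalP_of_le P hz, P.residue_eq_zero_iff]

lemma evalP_add {y z : K} (hy : P.1 y ≤ 1) (hz : P.1 z ≤ 1) :
    evalP P (y + z) = evalP P y + evalP P z := by
  rw [evalP_of_le P hy, evalP_of_le P hz,
    evalP_of_le P ((Valuation.map_add _ _ _).trans (max_le hy hz)), ← map_add]
  rfl

lemma evalP_mul {y z : K} (hy : P.1 y ≤ 1) (hz : P.1 z ≤ 1) :
    evalP P (y * z) = evalP P y * evalP P z := by
  have hyz : P.1 (y * z) ≤ 1 := by rw [map_mul]; exact mul_le_one' hy hz
  rw [evalP_of_le P hy, evalP_of_le P hz, evalP_of_le P hyz, ← map_mul]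
  rfl

lemma evalP_algebraMap (c : k) :
    evalP P (algebraMap k K c) = algebraMap k (IsLocalRing.ResidueField P.O) c := by
  rw [evalP_of_le P (P.v_algebraMap_le c)]
  rfl

lemma evalP_zero : evalP P (0 : K) = 0 := by
  rw [evalP_eq_zero_iff P (by simp)]; simp

lemma evalP_sum {ι : Type*} (S : Finset ι) (f : ι → K) (hf : ∀ i ∈ S, P.1 (f i) ≤ 1) :
    evalP P (∑ i ∈ S, f i) = ∑ i ∈ S, evalP P (f i) := by
  classical
  induction S using Finset.induction_on with
  | empty => simp [evalP_zero]
  | insert a S ha ih =>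
    rw [Finset.sum_insert ha, Finset.sum_insert ha, evalP_add P (hf a (Finset.mem_insert_self _ _)),
      ih (fun i hi => hf i (Finset.mem_insert_of_mem hi))]
    exact Valuation.map_sum_le _ (fun i hi => hf i (Finset.mem_insert_of_mem hi))

lemma evalP_smul (c : k) {z : K} (hz : P.1 z ≤ 1) : evalP P (c • z) = c • evalP P z := by
  rw [Algebra.smul_def, evalP_mul P (P.v_algebraMap_le c) hz, evalP_algebraMap, Algebra.smul_def]

lemma evalP_eq_of_v_sub_lt {y z : K} (hy : P.1 y ≤ 1) (hz : P.1 z ≤ 1) (h : P.1 (y - z) < 1) :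
    evalP P y = evalP P z := by
  have h1 : evalP P (y - z) = 0 := (evalP_eq_zero_iff P h.le).2 h
  have h2 : y = (y - z) + z := by ring
  rw [h2, evalP_add P h.le hz, h1, zero_add]

end evalP

section expand

variable {P : Place k K} (hP : P.deg = 1) {t : K} (ht : P.1 t = exp (-1 : ℤ))

include hP ht in
/-- The value at `P` is the constant coefficient of the expansion. -/
theorem evalP_eq_coeff_zero {z : K} (hz : P.1 z ≤ 1) :
    evalP P z = algebraMap k (IsLocalRing.ResidueField P.O) (PowerSeries.coeff 0 (expand P t z)) := by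
  rw [← evalP_algebraMap]
  exact evalP_eq_of_v_sub_lt P hz (P.v_algebraMap_le _) (v_sub_coeff_zero_lt hP ht hz)

lemma algebraMap_residue_injective (P : Place k K) :
    Function.Injective (algebraMap k (IsLocalRing.ResidueField P.O)) :=
  (algebraMap k (IsLocalRing.ResidueField P.O)).injective

include hP in
lemma algebraMap_residue_surjective :
    Function.Surjective (algebraMap k (IsLocalRing.ResidueField P.O)) := by
  intro a
  have h1 : (1 : IsLocalRing.ResidueField P.O) ≠ 0 := one_ne_zero
  obtain ⟨c, hc⟩ := (finrank_eq_one_iff_of_nonzero' (1 : IsLocalRing.ResidueField P.O) h1).1 hP a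
  exact ⟨c, (Algebra.algebraMap_eq_smul_one c).trans hc⟩

variable [PerfectField k] (hK : IsFunctionField k K)
variable {Ht : K →ₐ[k] PowerSeries K} (hHt : IsHasseFamily t Ht)

include hK hP ht hHt in
/-- The value at `P` of the `j`-th Hasse derivative is the `j`-th coefficient of the expansion. -/
theorem evalP_hasseD {y : K} (hy : P.1 y ≤ 1) (j : ℕ) :
    evalP P (hasseD Ht j y) =
      algebraMap k (IsLocalRing.ResidueField P.O) (PowerSeries.coeff j (expand P t y)) := by
  rw [evalP_eq_coeff_zero hP ht (v_hasseD_le_one hK hP ht hHt hy j),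
    coeff_expand_hasseD hK hP ht hHt hy j 0]
  simp

include hK hP ht hHt in
/-- Local independence of Hasse derivatives (S12599). -/
theorem linearIndependent_evalP_hasseD {ι : Type*} [Fintype ι] {φ : ι → K}
    (hφ : LinearIndependent k φ) (hint : ∀ i, P.1 (φ i) ≤ 1) :
    LinearIndependent (IsLocalRing.ResidueField P.O)
      (fun i : ι => fun j : ℕ => evalP P (hasseD Ht j (φ i))) := by
  classical
  rw [Fintype.linearIndependent_iff]
  intro g hg
  choose β hβ using fun i => algebraMap_residue_surjective hP (g i)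
  set f : K := ∑ i, β i • φ i with hf
  have hfle : P.1 f ≤ 1 := by
    refine Valuation.map_sum_le _ fun i _ => ?_
    rw [Algebra.smul_def, map_mul]
    exact mul_le_one' (P.v_algebraMap_le _) (hint i)
  have hcoef : ∀ j, PowerSeries.coeff j (expand P t f) = 0 := by
    intro j
    apply algebraMap_residue_injective P
    rw [map_zero, ← evalP_hasseD hP ht hK hHt hfle j, hf, hasseD_sum]
    rw [evalP_sum P _ _ (fun i _ => by
      rw [hasseD_smul, Algebra.smul_def, map_mul]
      exact mul_le_one' (P.v_algebraMap_le _) (v_hasseD_le_one hK hP ht hHt (hint i) j))]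
    have := congrFun hg j
    simp only [Finset.sum_apply, Pi.smul_apply, Pi.zero_apply] at this
    rw [← this]
    refine Finset.sum_congr rfl fun i _ => ?_
    rw [hasseD_smul, evalP_smul P _ (v_hasseD_le_one hK hP ht hHt (hint i) j), ← hβ i,
      Algebra.smul_def]
    rfl
  have hf0 : f = 0 := (expand_eq_zero_iff hP ht hfle).1 (PowerSeries.ext fun j => by
    rw [hcoef j, map_zero])
  have hβ0 := Fintype.linearIndependent_iff.1 hφ β hf0
  intro i
  rw [← hβ i, hβ0 i, map_zero]

end expand

end SV
end FunFld
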