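import Groth.Agent.Lib.Helper5.FunFld.Genus0
import Groth.Agent.Lib.Helper5.FunFld.AffFinite
import Mathlib

/-! Power series expansion at a place of degree one in a local parameter (helper5). -/

set_option autoImplicit false

namespace FunFld
namespace SV

open WithZero

variable {k K : Type*} [Field k] [Field K] [Algebra k K]

section approx

variable (P : Place k K) (t : K)

/-- The value at `t` of the `N`-th truncation of a power series. -/
noncomputable def tsum (f : PowerSeries k) (N : ℕ) : K :=
  Polynomial.aeval t (PowerSeries.trunc N f)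

/-- `f` is the expansion of `y` at `P` in the parameter `t`. -/
def Approx (y : K) (f : PowerSeries k) : Prop :=
  ∀ N : ℕ, P.1 (y - tsum t f N) ≤ exp (-(N : ℤ))

variable {P t}

lemma tsum_zero (f : PowerSeries k) : tsum t f 0 = 0 := by
  simp [tsum]

lemma tsum_succ (f : PowerSeries k) (N : ℕ) :
    tsum t f (N + 1) = tsum t f N + algebraMap k K (PowerSeries.coeff N f) * t ^ N := by
  rw [tsum, tsum, PowerSeries.trunc_succ, map_add, Polynomial.aeval_monomial]

lemma tsum_add (f g : PowerSeries k) (N : ℕ) : tsum t (f + g) N = tsum t f N + tsum t g N := by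
  rw [tsum, tsum, tsum, map_add, map_add]

lemma tsum_sub (f g : PowerSeries k) (N : ℕ) : tsum t (f - g) N = tsum t f N - tsum t g N := by
  rw [tsum, tsum, tsum, map_sub, map_sub]

lemma exp_neg_one_pow (N : ℕ) : (exp (-1 : ℤ)) ^ N = exp (-(N : ℤ)) := by
  rw [← exp_nsmul, nsmul_eq_mul, mul_neg, mul_one]

variable (ht : P.1 t = exp (-1 : ℤ))

include ht in
lemma v_t_le_one : P.1 t ≤ 1 := by
  rw [ht, ← exp_zero, exp_le_exp]; omega

include ht in
lemma v_t_pow (N : ℕ) : P.1 (t ^ N) = exp (-(N : ℤ)) := by
  rw [map_pow, ht, exp_neg_one_pow]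

include ht in
lemma t_ne_zero : t ≠ 0 := by
  rintro rfl
  rw [map_zero] at ht
  exact exp_ne_zero ht.symm

include ht in
lemma v_tsum_le_one (f : PowerSeries k) (N : ℕ) : P.1 (tsum t f N) ≤ 1 :=
  P.v_aeval_le_one (v_t_le_one ht) _

include ht in
/-- A polynomial divisible by `X ^ N` has small value at `t`. -/
lemma v_aeval_le_of_X_pow_dvd {p : Polynomial k} {N : ℕ} (h : Polynomial.X ^ N ∣ p) :
    P.1 (Polynomial.aeval t p) ≤ exp (-(N : ℤ)) := by
  obtain ⟨q, rfl⟩ := h
  rw [map_mul, map_pow, Polynomial.aeval_X, map_mul, v_t_pow ht]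
  calc exp (-(N : ℤ)) * P.1 (Polynomial.aeval t q) ≤ exp (-(N : ℤ)) * 1 :=
        mul_le_mul_right (P.v_aeval_le_one (v_t_le_one ht) q) _
    _ = exp (-(N : ℤ)) := mul_one _

include ht in
/-- A polynomial and the truncation of its power series have close values at `t`. -/
lemma v_aeval_sub_tsum_le (p : Polynomial k) (N : ℕ) :
    P.1 (Polynomial.aeval t p - tsum t (p : PowerSeries k) N) ≤ exp (-(N : ℤ)) := by
  rw [tsum, ← map_sub]
  apply v_aeval_le_of_X_pow_dvd ht
  rw [Polynomial.X_pow_dvd_iff]
  intro d hd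
  rw [Polynomial.coeff_sub, PowerSeries.coeff_trunc, if_pos hd, Polynomial.coeff_coe, sub_self]

include ht in
lemma Approx.le_one {y : K} {f : PowerSeries k} (h : Approx P t y f) : P.1 y ≤ 1 := by
  have := h 0
  rw [tsum_zero, sub_zero] at this
  simpa using this

include ht in
lemma Approx.add {y₁ y₂ : K} {f₁ f₂ : PowerSeries k} (h₁ : Approx P t y₁ f₁)
    (h₂ : Approx P t y₂ f₂) : Approx P t (y₁ + y₂) (f₁ + f₂) := by
  intro N
  rw [tsum_add]
  have : y₁ + y₂ - (tsum t f₁ N + tsum t f₂ N) = (y₁ - tsum t f₁ N) + (y₂ - tsum t f₂ N) := by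
    ring
  rw [this]
  exact (Valuation.map_add _ _ _).trans (max_le (h₁ N) (h₂ N))

include ht in
lemma Approx.mul {y₁ y₂ : K} {f₁ f₂ : PowerSeries k} (h₁ : Approx P t y₁ f₁)
    (h₂ : Approx P t y₂ f₂) : Approx P t (y₁ * y₂) (f₁ * f₂) := by
  intro N
  set A₁ := tsum t f₁ N with hA₁
  set A₂ := tsum t f₂ N with hA₂
  set p : Polynomial k := PowerSeries.trunc N f₁ * PowerSeries.trunc N f₂ with hp
  have hpA : Polynomial.aeval t p = A₁ * A₂ := by rw [hp, map_mul]; rfl
  have htr : tsum t (f₁ * f₂) N = tsum t (p : PowerSeries k) N := by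
    rw [tsum, tsum, hp, Polynomial.coe_mul, PowerSeries.trunc_trunc_mul_trunc]
  have h3 := v_aeval_sub_tsum_le ht p N
  rw [hpA, ← htr] at h3
  have : y₁ * y₂ - tsum t (f₁ * f₂) N =
      ((y₁ - A₁) * y₂ + A₁ * (y₂ - A₂)) + (A₁ * A₂ - tsum t (f₁ * f₂) N) := by ring
  rw [this]
  refine (Valuation.map_add _ _ _).trans (max_le ?_ h3)
  refine (Valuation.map_add _ _ _).trans (max_le ?_ ?_)
  · rw [map_mul]
    calc P.1 (y₁ - A₁) * P.1 y₂ ≤ exp (-(N : ℤ)) * 1 :=
          mul_le_mul' (h₁ N) (h₂.le_one ht)
      _ = exp (-(N : ℤ)) := mul_one _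
  · rw [map_mul]
    calc P.1 A₁ * P.1 (y₂ - A₂) ≤ 1 * exp (-(N : ℤ)) :=
          mul_le_mul' (v_tsum_le_one ht f₁ N) (h₂ N)
      _ = exp (-(N : ℤ)) := one_mul _

include ht in
lemma approx_algebraMap (c : k) : Approx P t (algebraMap k K c) (PowerSeries.C c) := by
  intro N
  cases N with
  | zero =>
    rw [tsum_zero, sub_zero]
    simpa using P.v_algebraMap_le c
  | succ N =>
    rw [tsum, PowerSeries.trunc_C, Polynomial.aeval_C, sub_self, map_zero]
    exact zero_le

include ht in
lemma approx_t : Approx P t t (PowerSeries.X : PowerSeries k) := by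
  intro N
  rcases Nat.lt_or_ge N 2 with h | h
  · interval_cases N
    · rw [tsum_zero, sub_zero]
      simpa using v_t_le_one ht
    · rw [tsum, PowerSeries.trunc_one_X, map_zero, sub_zero, ht]
      rfl
  · rw [tsum, PowerSeries.trunc_X_of h, Polynomial.aeval_X, sub_self, map_zero]
    exact zero_le

include ht in
/-- Uniqueness of the expansion. -/
lemma Approx.unique {y : K} {f g : PowerSeries k} (hf : Approx P t y f) (hg : Approx P t y g) :
    f = g := by
  by_contra hne
  have hex : ∃ m, PowerSeries.coeff m f ≠ PowerSeries.coeff m g := by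
    by_contra h
    push Not at h
    exact hne (PowerSeries.ext h)
  classical
  set m := Nat.find hex with hm
  have hmne : PowerSeries.coeff m f ≠ PowerSeries.coeff m g := Nat.find_spec hex
  have hmin : ∀ i < m, PowerSeries.coeff i f = PowerSeries.coeff i g := by
    intro i hi
    by_contra h
    exact Nat.find_min hex hi h
  have hsum : ∀ N ≤ m, tsum t f N = tsum t g N := by
    intro N hN
    induction N with
    | zero => rw [tsum_zero, tsum_zero]
    | succ N ih =>
      rw [tsum_succ, tsum_succ, ih (by omega), hmin N (by omega)]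
  have h1 : tsum t f (m + 1) - tsum t g (m + 1) =
      algebraMap k K (PowerSeries.coeff m f - PowerSeries.coeff m g) * t ^ m := by
    rw [tsum_succ, tsum_succ, hsum m le_rfl, map_sub]; ring
  have h2 : P.1 (tsum t f (m + 1) - tsum t g (m + 1)) = exp (-(m : ℤ)) := by
    rw [h1, map_mul, P.v_algebraMap (sub_ne_zero.2 hmne), one_mul, v_t_pow ht]
  have h3 : P.1 (tsum t f (m + 1) - tsum t g (m + 1)) ≤ exp (-((m + 1 : ℕ) : ℤ)) := by
    have : tsum t f (m + 1) - tsum t g (m + 1) =
        (y - tsum t g (m + 1)) - (y - tsum t f (m + 1)) := by ring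
    rw [this]
    exact (Valuation.map_sub _ _ _).trans (max_le (hg _) (hf _))
  rw [h2, exp_le_exp] at h3
  push_cast at h3
  omega

end approx

section construct

open Classical in
/-- A constant congruent to `y` modulo the maximal ideal of `P` (if there is one). -/
noncomputable def cst (P : Place k K) (y : K) : k :=
  if h : ∃ c : k, P.1 (y - algebraMap k K c) < 1 then Classical.choose h else 0

/-- The sequence of successive quotients in the expansion of `y`. -/
noncomputable def yseq (P : Place k K) (t : K) (y : K) : ℕ → K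
  | 0 => y
  | n + 1 => (yseq P t y n - algebraMap k K (cst P (yseq P t y n))) / t

/-- The expansion of `y` at `P` in the parameter `t`. -/
noncomputable def expand (P : Place k K) (t : K) (y : K) : PowerSeries k :=
  PowerSeries.mk fun n => cst P (yseq P t y n)

variable {P : Place k K} (hP : P.deg = 1) {t : K} (ht : P.1 t = exp (-1 : ℤ))

include hP in
lemma cst_spec {y : K} (hy : P.1 y ≤ 1) : P.1 (y - algebraMap k K (cst P y)) < 1 := by
  have h := P.exists_const_sub_lt hP hy
  rw [cst, dif_pos h]
  exact Classical.choose_spec h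

include hP ht in
lemma v_yseq_le {y : K} (hy : P.1 y ≤ 1) (n : ℕ) : P.1 (yseq P t y n) ≤ 1 := by
  induction n with
  | zero => exact hy
  | succ n ih =>
    show P.1 ((yseq P t y n - algebraMap k K (cst P (yseq P t y n))) / t) ≤ 1
    rw [map_div₀, ht]
    have h1 := P.v_le_exp_pred_of_lt (n := 0) (by simpa using cst_spec hP ih)
    rw [div_le_iff₀ (by exact zero_lt_iff.2 exp_ne_zero), one_mul]
    simpa using h1

include ht in
lemma yseq_identity (y : K) (N : ℕ) :
    y = tsum t (expand P t y) N + t ^ N * yseq P t y N := by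
  induction N with
  | zero => rw [tsum_zero, zero_add, pow_zero, one_mul]; rfl
  | succ N ih =>
    have hne := t_ne_zero ht
    rw [tsum_succ]
    have h1 : PowerSeries.coeff N (expand P t y) = cst P (yseq P t y N) := by
      rw [expand, PowerSeries.coeff_mk]
    have h2 : yseq P t y (N + 1) = (yseq P t y N - algebraMap k K (cst P (yseq P t y N))) / t :=
      rfl
    rw [h1, h2, pow_succ]
    have : t ^ N * t * ((yseq P t y N - algebraMap k K (cst P (yseq P t y N))) / t) =
        t ^ N * (yseq P t y N - algebraMap k K (cst P (yseq P t y N))) := by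
      field_simp
    rw [this]
    conv_lhs => rw [ih]
    ring

include hP ht in
lemma approx_expand {y : K} (hy : P.1 y ≤ 1) : Approx P t y (expand P t y) := by
  intro N
  have h := yseq_identity (P := P) ht y N
  have : y - tsum t (expand P t y) N = t ^ N * yseq P t y N := by
    rw [sub_eq_iff_eq_add']
    exact h
  rw [this, map_mul, v_t_pow ht]
  calc exp (-(N : ℤ)) * P.1 (yseq P t y N) ≤ exp (-(N : ℤ)) * 1 :=
        mul_le_mul_right (v_yseq_le hP ht hy N) _
    _ = exp (-(N : ℤ)) := mul_one _

end construct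

end SV
end FunFld
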