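import Groth.Agent.Lib.Helper5.SV.Expand

/-! The expansion homomorphism `O_P → k⟦X⟧` at a place of degree one (helper5). -/

set_option autoImplicit false

namespace FunFld
namespace SV

open WithZero

variable {k K : Type*} [Field k] [Field K] [Algebra k K]

section hom

variable {P : Place k K} (hP : P.deg = 1) {t : K} (ht : P.1 t = exp (-1 : ℤ))

include hP ht in
lemma expand_add {y₁ y₂ : K} (h₁ : P.1 y₁ ≤ 1) (h₂ : P.1 y₂ ≤ 1) :
    expand P t (y₁ + y₂) = expand P t y₁ + expand P t y₂ :=
  (approx_expand hP ht ((Valuation.map_add _ _ _).trans (max_le h₁ h₂))).unique ht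
    ((approx_expand hP ht h₁).add ht (approx_expand hP ht h₂))

include hP ht in
lemma expand_mul {y₁ y₂ : K} (h₁ : P.1 y₁ ≤ 1) (h₂ : P.1 y₂ ≤ 1) :
    expand P t (y₁ * y₂) = expand P t y₁ * expand P t y₂ :=
  (approx_expand hP ht (by rw [map_mul]; exact mul_le_one' h₁ h₂)).unique ht
    ((approx_expand hP ht h₁).mul ht (approx_expand hP ht h₂))

include hP ht in
lemma expand_algebraMap (c : k) : expand P t (algebraMap k K c) = PowerSeries.C c :=
  (approx_expand hP ht (P.v_algebraMap_le c)).unique ht (approx_algebraMap ht c)

include hP ht in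
lemma expand_t : expand P t t = PowerSeries.X :=
  (approx_expand hP ht (v_t_le_one ht)).unique ht (approx_t ht)

/-- The expansion at `P` in the parameter `t` as a homomorphism of `k`-algebras. -/
noncomputable def expandHom : P.O →ₐ[k] PowerSeries k where
  toFun y := expand P t (y : K)
  map_one' := by
    have := expand_algebraMap hP ht (1 : k)
    rw [map_one, map_one] at this
    exact this
  map_mul' a b := expand_mul hP ht (P.mem_O_iff.1 a.2) (P.mem_O_iff.1 b.2)
  map_zero' := by
    have := expand_algebraMap hP ht (0 : k)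
    rw [map_zero, map_zero] at this
    exact this
  map_add' a b := expand_add hP ht (P.mem_O_iff.1 a.2) (P.mem_O_iff.1 b.2)
  commutes' c := by
    have := expand_algebraMap hP ht c
    rw [PowerSeries.algebraMap_apply]
    exact this

@[simp] lemma expandHom_apply (y : P.O) : expandHom hP ht y = expand P t (y : K) := rfl

include hP ht in
/-- Divisibility of the expansion by `X ^ m`. -/
theorem X_pow_dvd_expand_iff {y : K} (hy : P.1 y ≤ 1) (m : ℕ) :
    (PowerSeries.X : PowerSeries k) ^ m ∣ expand P t y ↔ P.1 y ≤ exp (-(m : ℤ)) := by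
  constructor
  · rintro ⟨g, hg⟩
    have h := approx_expand hP ht hy m
    have h0 : tsum t (expand P t y) m = 0 := by
      rw [tsum, hg, PowerSeries.trunc_X_pow_self_mul, map_zero]
    rwa [h0, sub_zero] at h
  · intro h
    have hne := t_ne_zero ht
    have hy' : P.1 (y / t ^ m) ≤ 1 := by
      rw [map_div₀, v_t_pow ht]
      rw [div_le_iff₀ (zero_lt_iff.2 exp_ne_zero), one_mul]
      exact h
    have hprod : y = t ^ m * (y / t ^ m) := by field_simp
    have htm : ∀ m : ℕ, expand P t (t ^ m) = PowerSeries.X ^ m := by
      intro m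
      induction m with
      | zero =>
        have := expand_algebraMap hP ht (1 : k)
        rw [map_one, map_one] at this
        rw [pow_zero, pow_zero]; exact this
      | succ m ih =>
        rw [pow_succ, expand_mul hP ht _ (v_t_le_one ht), ih, expand_t hP ht, pow_succ]
        rw [v_t_pow ht, ← exp_zero, exp_le_exp]; omega
    refine ⟨expand P t (y / t ^ m), ?_⟩
    conv_lhs => rw [hprod]
    rw [expand_mul hP ht _ hy', htm]
    rw [v_t_pow ht, ← exp_zero, exp_le_exp]; omega

include hP ht in
theorem expand_eq_zero_iff {y : K} (hy : P.1 y ≤ 1) : expand P t y = 0 ↔ y = 0 := by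
  constructor
  · intro h
    by_contra hne
    have hlog : P.1 y = exp (-(P.ord y)) := P.v_eq_exp_neg_ord hne
    have hord : 0 ≤ P.ord y := (P.v_le_one_iff hne).1 hy
    have h1 := (X_pow_dvd_expand_iff hP ht hy ((P.ord y).toNat + 1)).1 (by rw [h]; exact dvd_zero _)
    rw [hlog, exp_le_exp] at h1
    have := Int.toNat_of_nonneg hord
    push_cast at h1
    omega
  · rintro rfl
    have := expand_algebraMap hP ht (0 : k)
    rw [map_zero, map_zero] at this
    exact this

theorem expandHom_injective : Function.Injective (expandHom hP ht) := by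
  rw [injective_iff_map_eq_zero]
  intro y hy
  have := (expand_eq_zero_iff hP ht (P.mem_O_iff.1 y.2)).1 hy
  exact Subtype.ext this

include hP ht in
/-- The constant coefficient of the expansion is the value at `P`. -/
theorem v_sub_coeff_zero_lt {y : K} (hy : P.1 y ≤ 1) :
    P.1 (y - algebraMap k K (PowerSeries.coeff 0 (expand P t y))) < 1 := by
  have h := approx_expand hP ht hy 1
  rw [tsum_succ, tsum_zero, zero_add, pow_zero, mul_one] at h
  refine lt_of_le_of_lt h ?_
  rw [← exp_zero, exp_lt_exp]; omega

end hom

end SV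
end FunFld
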