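import Groth.Agent.Lib.Helper5.SV.Hasse

/-! Linear algebra of Wronskian matrices (helper5, Stöhr–Voloch cluster). -/

set_option autoImplicit false

namespace FunFld
namespace SV

open LocRes

variable {k K : Type*} [Field k] [Field K] [Algebra k K]

section change

variable {n : ℕ}

lemma hcol_linear_change (τ : K →ₐ[k] K) (H : K →ₐ[k] PowerSeries K)
    (φ φ' : Fin (n + 1) → K) (A : Matrix (Fin (n + 1)) (Fin (n + 1)) k)
    (hφ' : ∀ i, φ' i = ∑ j, A i j • φ j) (m : ℕ) :
    hcol τ H φ' m = (A.map (algebraMap k K)).mulVec (hcol τ H φ m) := by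
  funext i
  cases m with
  | zero =>
    show τ (φ' i) = _
    rw [hφ' i, map_sum]
    simp only [Matrix.mulVec, dotProduct, Matrix.map_apply, hcol_zero]
    refine Finset.sum_congr rfl fun j _ => ?_
    rw [map_smul, Algebra.smul_def]
  | succ m =>
    show hasseD H m (φ' i) = _
    rw [hφ' i, hasseD_sum]
    simp only [Matrix.mulVec, dotProduct, Matrix.map_apply, hcol_succ]
    refine Finset.sum_congr rfl fun j _ => ?_
    rw [hasseD_smul, Algebra.smul_def]

lemma wrMat_linear_change (τ : K →ₐ[k] K) (H : K →ₐ[k] PowerSeries K)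
    (φ φ' : Fin (n + 1) → K) (A : Matrix (Fin (n + 1)) (Fin (n + 1)) k)
    (hφ' : ∀ i, φ' i = ∑ j, A i j • φ j) (I : Fin n → ℕ) :
    wrMat τ H φ' I = A.map (algebraMap k K) * wrMat τ H φ I := by
  ext i c
  rw [Matrix.mul_apply]
  refine Fin.cases ?_ (fun l => ?_) c
  · have := congrFun (hcol_linear_change τ H φ φ' A hφ' 0) i
    simp only [hcol_zero, Matrix.mulVec, dotProduct] at this
    simpa [wrMat] using this
  · have := congrFun (hcol_linear_change τ H φ φ' A hφ' (I l + 1)) i
    simp only [hcol_succ, Matrix.mulVec, dotProduct] at this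
    simpa [wrMat] using this

lemma wrMat_col_zero (τ : K →ₐ[k] K) (H : K →ₐ[k] PowerSeries K)
    (φ : Fin (n + 1) → K) (I : Fin n → ℕ) :
    (wrMat τ H φ I).col 0 = hcol τ H φ 0 := by
  funext i
  simp [wrMat, Matrix.col]

lemma wrMat_col_succ (τ : K →ₐ[k] K) (H : K →ₐ[k] PowerSeries K)
    (φ : Fin (n + 1) → K) (I : Fin n → ℕ) (l : Fin n) :
    (wrMat τ H φ I).col l.succ = hcol τ H φ (I l + 1) := by
  funext i
  simp [wrMat, Matrix.col]

end change

section orders

variable {F V : Type*} [Field F] [AddCommGroup V] [Module F V]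

/-- If the `l + 2` columns `c 0, c (J' m + 1)` (`m ≤ l`) are independent, the `l`-th order is at
most `J' l`. -/
theorem orders_le_of_linearIndependent {n : ℕ} (c : ℕ → V) (J : Fin n → ℕ) (hJ : IsOrders F c J)
    (J' : Fin n → ℕ) (hJ' : StrictMono J')
    (g : Fin (n + 1) → V) (hg : LinearIndependent F g) (hg0 : g 0 = c 0)
    (hgs : ∀ l : Fin n, g l.succ = c (J' l + 1)) (l : Fin n) : J l ≤ J' l := by
  classical
  by_contra hlt
  push Not at hlt
  set N := J' l + 2 with hN
  -- the jumps below `N`
  set T : Finset ℕ := insert 0 ((Finset.Iio l).image (fun m => J m + 1)) with hT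
  have hTcard : T.card ≤ (l : ℕ) + 1 := by
    refine (Finset.card_insert_le _ _).trans ?_
    refine Nat.succ_le_succ (Finset.card_image_le.trans ?_)
    rw [Fin.card_Iio]
  have hjT : {j | j < N ∧ IsJump F c j} ⊆ (T : Set ℕ) := by
    rintro j ⟨hjN, hj⟩
    rw [hT, Finset.coe_insert, Set.mem_insert_iff]
    cases j with
    | zero => exact Or.inl rfl
    | succ j' =>
      right
      obtain ⟨m, hm⟩ := (hJ.2 j').2 hj
      rw [Finset.mem_coe, Finset.mem_image]
      refine ⟨m, ?_, by rw [hm]⟩
      rw [Finset.mem_Iio]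
      rw [← hJ.1.lt_iff_lt]
      omega
  set W := Submodule.span F (c '' Set.Iio N) with hW
  have hWle : W ≤ Submodule.span F ((T.image c : Finset V) : Set V) := by
    rw [hW, span_Iio_eq_span_jumps, Finset.coe_image]
    exact Submodule.span_mono (Set.image_mono hjT)
  have hfin : FiniteDimensional F (Submodule.span F ((T.image c : Finset V) : Set V)) :=
    FiniteDimensional.span_finset F _
  have h1 : Module.finrank F W ≤ (l : ℕ) + 1 := by
    refine (Submodule.finrank_mono hWle).trans ?_
    refine (finrank_span_finset_le_card (R := F) (T.image c)).trans ?_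
    exact Finset.card_image_le.trans hTcard
  -- the independent vectors
  set S : Finset (Fin (n + 1)) := insert 0 ((Finset.Iic l).map (Fin.succEmb n)) with hS
  have hScard : S.card = (l : ℕ) + 2 := by
    rw [hS, Finset.card_insert_of_notMem, Finset.card_map, Fin.card_Iic]
    simp only [Finset.mem_map, Fin.coe_succEmb, not_exists, not_and]
    intro m _ h
    exact Fin.succ_ne_zero m h
  have hSW : ∀ i ∈ S, g i ∈ W := by
    intro i hi
    rw [hS, Finset.mem_insert, Finset.mem_map] at hi
    rcases hi with rfl | ⟨m, hm, rfl⟩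
    · rw [hg0]
      exact Submodule.subset_span ⟨0, by simp [hN], rfl⟩
    · rw [Fin.coe_succEmb, hgs]
      refine Submodule.subset_span ⟨J' m + 1, ?_, rfl⟩
      rw [Finset.mem_Iic] at hm
      have := hJ'.monotone hm
      simp only [Set.mem_Iio, hN]
      omega
  have hWfin : FiniteDimensional F W :=
    FiniteDimensional.span_of_finite F ((Set.finite_Iio N).image c)
  have hli : LinearIndependent F (fun i : S => (⟨g i, hSW i i.2⟩ : W)) := by
    apply LinearIndependent.of_comp W.subtype
    exact hg.comp (fun i : S => (i : Fin (n + 1))) Subtype.val_injective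
  have h2 := hli.fintype_card_le_finrank
  rw [Fintype.card_coe, hScard] at h2
  omega

end orders

end SV
end FunFld
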