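import Groth.Agent.Lib.Helper5.SV.Adapted
import Groth.Agent.Lib.Helper5.SV.Linear

/-! Order of the Wronskian-type determinant at a fixed point (helper5, S12605). -/

set_option autoImplicit false

namespace FunFld
namespace SV

open WithZero LocRes

variable {k K : Type*} [Field k] [Field K] [Algebra k K]

section det

variable {R : Type*} [CommRing R]

lemma det_of_row_zero {n : ℕ} (A : Matrix (Fin (n + 1)) (Fin (n + 1)) R)
    (h : ∀ s : Fin n, A 0 s.succ = 0) :
    A.det = A 0 0 * (A.submatrix Fin.succ Fin.succ).det := by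
  rw [Matrix.det_succ_row_zero, Fin.sum_univ_succ]
  have : ∑ i : Fin n, (-1 : R) ^ ((i.succ : Fin (n + 1)) : ℕ) * A 0 i.succ *
      (A.submatrix Fin.succ i.succ.succAbove).det = 0 :=
    Finset.sum_eq_zero fun i _ => by rw [h i, mul_zero, zero_mul]
  rw [this, add_zero]
  simp [Fin.succAbove_zero]

lemma det_of_col_zero {n : ℕ} (A : Matrix (Fin (n + 1)) (Fin (n + 1)) R)
    (h : ∀ l : Fin n, A l.succ 0 = 0) :
    A.det = A 0 0 * (A.submatrix Fin.succ Fin.succ).det := by
  rw [Matrix.det_succ_column_zero, Fin.sum_univ_succ]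
  have : ∑ i : Fin n, (-1 : R) ^ ((i.succ : Fin (n + 1)) : ℕ) * A i.succ 0 *
      (A.submatrix i.succ.succAbove Fin.succ).det = 0 :=
    Finset.sum_eq_zero fun i _ => by rw [h i, mul_zero, zero_mul]
  rw [this, add_zero]
  simp [Fin.succAbove_zero]

end det

lemma hasseD_one {H : K →ₐ[k] PowerSeries K} (i : ℕ) :
    hasseD H i (1 : K) = if i = 0 then 1 else 0 := by
  rw [hasseD_apply, map_one, PowerSeries.coeff_one]

lemma binomMat_map (R S : Type*) [Semiring R] [Semiring S] (f : R →+* S) {n : ℕ}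
    (J I : Fin n → ℕ) : (binomMat R J I).map f = binomMat S J I := by
  ext r s
  simp [binomMat]

section main

variable [IsAlgClosed k] (hK : IsFunctionField k K)

include hK in
/-- **S12605**. -/
theorem v_det_wrMat_fixedPt (τ : K →ₐ[k] K) (P : Place k K) (hτ : IsFixedPt τ P)
    {n : ℕ} (φ : Fin (n + 1) → K) (hφ : LinearIndependent k φ)
    (heff : (1 : K) ∈ Submodule.span k (Set.range φ)) (hnorm : ∀ i, P.1 (φ i) ≤ 1)
    (t : K) (ht : P.1 t = exp (-1 : ℤ))
    (Ht : K →ₐ[k] PowerSeries K) (hHt : IsHasseFamily t Ht)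
    (J : Fin n → ℕ) (hJ : IsOrders (IsLocalRing.ResidueField P.O) (hcolAt P Ht φ) J)
    (I : Fin n → ℕ) :
    P.1 (wrMat τ Ht φ I).det ≤ exp (-(∑ l, ((J l : ℤ) - I l))) ∧
    (((∀ l, 0 < I l) ∨ IsStrongFixedPt τ P) →
      (P.1 (wrMat τ Ht φ I).det = exp (-(∑ l, ((J l : ℤ) - I l))) ↔
        (binomMat k J I).det ≠ 0)) := by
  classical
  have hP := Place.deg_eq_one_of_isAlgClosed hK P
  obtain ⟨φ', A, hAdet, hAφ, -, -, hφ'0, hφ'⟩ :=
    exists_adapted_basis_matrix hK hP ht hHt hφ heff hnorm hJ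
  have hJpos : ∀ l, 0 < J l := by
    intro l
    have := ((mem_range_orders_iff hK hP ht hHt hnorm hJ (J l)).1 ⟨l, rfl⟩).1
    omega
  -- reduce to the adapted basis
  have hdet : (wrMat τ Ht φ' I).det = algebraMap k K A.det * (wrMat τ Ht φ I).det := by
    rw [wrMat_linear_change τ Ht φ φ' A hAφ I, Matrix.det_mul]
    congr 1
    rw [RingHom.map_det]; rfl
  have hv : P.1 (wrMat τ Ht φ I).det = P.1 (wrMat τ Ht φ' I).det := by
    rw [hdet, map_mul, P.v_algebraMap hAdet, one_mul]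
  rw [hv]
  set M := wrMat τ Ht φ' I with hMdef
  set a : Fin (n + 1) → ℤ := Fin.cons 0 (fun l => (J l : ℤ)) with ha
  set b : Fin (n + 1) → ℤ := Fin.cons 0 (fun l => (I l : ℤ)) with hb
  have hsum : ∑ r, a r - ∑ c, b c = ∑ l, ((J l : ℤ) - I l) := by
    rw [Fin.sum_univ_succ, Fin.sum_univ_succ, Finset.sum_sub_distrib]
    simp [ha, hb]
  have hM00 : M 0 0 = 1 := by
    show τ (φ' 0) = 1
    rw [hφ'0, map_one]
  have hM0s : ∀ s : Fin n, M 0 s.succ = if I s = 0 then 1 else 0 := by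
    intro s
    show hasseD Ht (I s) (φ' 0) = _
    rw [hφ'0, hasseD_one]
  have hMl0 : ∀ l : Fin n, M l.succ 0 = τ (φ' l.succ) := fun l => rfl
  have hMls : ∀ l s : Fin n, M l.succ s.succ = hasseD Ht (I s) (φ' l.succ) := fun l s => rfl
  have hτle : ∀ l : Fin n, P.1 (τ (φ' l.succ)) ≤ exp (-(J l : ℤ)) := fun l =>
    fixedPt_v_le_exp hP ht hτ (hφ' l).1.le
  have hM : ∀ r c, P.1 (M r c) ≤ exp (-(a r - b c)) := by
    intro r c
    refine Fin.cases ?_ (fun l => ?_) r <;> refine Fin.cases ?_ (fun s => ?_) c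
    · rw [hM00, map_one]; simp [ha, hb]
    · rw [hM0s]
      have h1 : P.1 (if I s = 0 then (1 : K) else 0) ≤ 1 := by split_ifs <;> simp
      refine h1.trans (one_le_exp_iff'.2 ?_)
      simp [ha, hb]
    · rw [hMl0]
      simpa [ha, hb] using hτle l
    · rw [hMls]
      have := v_hasseD_le_exp hK hP ht hHt (hφ' l).1.le (I s)
      simpa [ha, hb] using this
  obtain ⟨h1, h2⟩ := det_weights P ht M a b hM
  rw [hsum] at h1 h2
  refine ⟨h1, fun hcase => ?_⟩
  rw [h2]
  set Nb : Matrix (Fin (n + 1)) (Fin (n + 1)) (IsLocalRing.ResidueField P.O) :=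
    Matrix.of fun r c => evalP P (M r c * t ^ (b c - a r)) with hNb
  have hev1 : evalP P (1 : K) = 1 := by
    have := evalP_algebraMap P (1 : k)
    rwa [map_one, map_one] at this
  have hN00 : Nb 0 0 = 1 := by
    show evalP P (M 0 0 * t ^ (b 0 - a 0)) = 1
    rw [hM00]
    simp [ha, hb, hev1]
  have hNls : Nb.submatrix Fin.succ Fin.succ = binomMat (IsLocalRing.ResidueField P.O) J I := by
    ext l s
    show evalP P (M l.succ s.succ * t ^ (b s.succ - a l.succ)) = _
    rw [hMls]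
    have e : b s.succ - a l.succ = (I s : ℤ) - (J l : ℤ) := by simp [ha, hb]
    rw [e, evalP_hasseD_mul_zpow hK hP ht hHt (hφ' l).1.le (I s), (hφ' l).2, mul_one]
    rfl
  have hdetN : Nb.det = (binomMat (IsLocalRing.ResidueField P.O) J I).det := by
    rcases hcase with hI | hstrong
    · rw [det_of_row_zero Nb ?_, hN00, one_mul, hNls]
      intro s
      show evalP P (M 0 s.succ * t ^ (b s.succ - a 0)) = 0
      rw [hM0s, if_neg (hI s).ne', zero_mul, evalP_zero]
    · rw [det_of_col_zero Nb ?_, hN00, one_mul, hNls]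
      intro l
      show evalP P (M l.succ 0 * t ^ (b 0 - a l.succ)) = 0
      rw [hMl0]
      have e : b 0 - a l.succ = -(J l : ℤ) := by simp [ha, hb]
      rw [e]
      have hlt : P.1 (τ (φ' l.succ) * t ^ (-(J l : ℤ))) < 1 := by
        rw [map_mul, v_t_zpow P ht, neg_neg]
        calc P.1 (τ (φ' l.succ)) * exp (J l : ℤ) ≤ exp (-(2 * J l : ℤ)) * exp (J l : ℤ) :=
              mul_le_mul_left (strongFixedPt_v_le_exp hP ht hstrong (hφ' l).1.le) _
          _ = exp (-(J l : ℤ)) := by rw [← exp_add]; congr 1; ring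
          _ < 1 := exp_lt_one_iff'.2 (by have := hJpos l; omega)
      exact (evalP_eq_zero_iff P hlt.le).2 hlt
  rw [hdetN, ← binomMat_map k (IsLocalRing.ResidueField P.O)
    (algebraMap k (IsLocalRing.ResidueField P.O)) J I, ← RingHom.mapMatrix_apply,
    ← RingHom.map_det]
  exact (map_ne_zero _)

end main

end SV
end FunFld
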