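import Groth.Agent.Lib.Helper5.SV.Weights

/-! Fixed points of an endomorphism and orders of Hasse derivatives (helper5). -/

set_option autoImplicit false

namespace FunFld
namespace SV

open WithZero LocRes

variable {k K : Type*} [Field k] [Field K] [Algebra k K]

lemma exp_le_one_iff' {a : ℤ} : (exp a : WithZero (Multiplicative ℤ)) ≤ 1 ↔ a ≤ 0 := by
  rw [← exp_zero, exp_le_exp]

lemma exp_lt_one_iff' {a : ℤ} : (exp a : WithZero (Multiplicative ℤ)) < 1 ↔ a < 0 := by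
  rw [← exp_zero, exp_lt_exp]

lemma one_le_exp_iff' {a : ℤ} : 1 ≤ (exp a : WithZero (Multiplicative ℤ)) ↔ 0 ≤ a := by
  rw [← exp_zero, exp_le_exp]

section fixed

variable {P : Place k K} (hP : P.deg = 1) {t : K} (ht : P.1 t = exp (-1 : ℤ))

include hP in
/-- A fixed point: `τ` preserves integrality. -/
lemma fixedPt_v_le_one {τ : K →ₐ[k] K} (hτ : IsFixedPt τ P) {z : K} (hz : P.1 z ≤ 1) :
    P.1 (τ z) ≤ 1 := by
  obtain ⟨c, hc⟩ := P.exists_const_sub_lt hP hz
  have h1 := hτ _ hc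
  rw [map_sub, τ.commutes] at h1
  have : τ z = (τ z - algebraMap k K c) + algebraMap k K c := by ring
  rw [this]
  exact (Valuation.map_add _ _ _).trans (max_le h1.le (P.v_algebraMap_le c))

include ht in
/-- Factor out a power of the local parameter. -/
lemma exists_eq_pow_mul {z : K} {N : ℕ} (hz : P.1 z ≤ exp (-(N : ℤ))) :
    ∃ w : K, P.1 w ≤ 1 ∧ z = t ^ N * w := by
  have ht0 := t_ne_zero ht
  refine ⟨z / t ^ N, ?_, ?_⟩
  · rw [map_div₀, v_t_pow ht]
    exact div_le_one_of_le₀ hz zero_le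
  · field_simp

include hP ht in
lemma fixedPt_v_le_exp {τ : K →ₐ[k] K} (hτ : IsFixedPt τ P) {z : K} {N : ℕ}
    (hz : P.1 z ≤ exp (-(N : ℤ))) : P.1 (τ z) ≤ exp (-(N : ℤ)) := by
  obtain ⟨w, hw, rfl⟩ := exists_eq_pow_mul ht hz
  rw [map_mul, map_pow, map_mul, map_pow]
  have h1 : P.1 (τ t) ≤ exp (-1 : ℤ) := by
    have := hτ t (by rw [ht]; exact exp_lt_one_iff'.2 (by norm_num))
    have h2 := P.v_le_exp_pred_of_lt (n := 0) (by simpa using this)
    simpa using h2
  calc P.1 (τ t) ^ N * P.1 (τ w) ≤ exp (-1 : ℤ) ^ N * 1 :=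
        mul_le_mul' (pow_le_pow_left' h1 N) (fixedPt_v_le_one hP hτ hw)
    _ = exp (-(N : ℤ)) := by rw [mul_one, exp_neg_one_pow]

lemma strongFixedPt_isFixedPt {τ : K →ₐ[k] K} (hτ : IsStrongFixedPt τ P) : IsFixedPt τ P := by
  intro z hz
  exact lt_of_le_of_lt (hτ z hz) (exp_lt_one_iff'.2 (by norm_num))

include hP ht in
lemma strongFixedPt_v_le_exp {τ : K →ₐ[k] K} (hτ : IsStrongFixedPt τ P) {z : K} {N : ℕ}
    (hz : P.1 z ≤ exp (-(N : ℤ))) : P.1 (τ z) ≤ exp (-(2 * N : ℤ)) := by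
  obtain ⟨w, hw, rfl⟩ := exists_eq_pow_mul ht hz
  rw [map_mul, map_pow, map_mul, map_pow]
  have h1 : P.1 (τ t) ≤ exp (-2 : ℤ) :=
    hτ t (by rw [ht]; exact exp_lt_one_iff'.2 (by norm_num))
  calc P.1 (τ t) ^ N * P.1 (τ w) ≤ exp (-2 : ℤ) ^ N * 1 :=
        mul_le_mul' (pow_le_pow_left' h1 N) (fixedPt_v_le_one hP (strongFixedPt_isFixedPt hτ) hw)
    _ = exp (-(2 * N : ℤ)) := by
        rw [mul_one, ← exp_nsmul]
        congr 1
        simp
        ring

end fixed

section hasse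

variable [PerfectField k] (hK : IsFunctionField k K)
variable {P : Place k K} (hP : P.deg = 1) {t : K} (ht : P.1 t = exp (-1 : ℤ))
variable {Ht : K →ₐ[k] PowerSeries K} (hHt : IsHasseFamily t Ht)

include hK hP ht hHt in
/-- Hasse derivatives lower the order by at most their index. -/
theorem v_hasseD_le_exp {y : K} {N : ℕ} (hy : P.1 y ≤ exp (-(N : ℤ))) (i : ℕ) :
    P.1 (hasseD Ht i y) ≤ exp (-((N : ℤ) - i)) := by
  have hy1 : P.1 y ≤ 1 := hy.trans (exp_le_one_iff'.2 (by omega))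
  have hD1 := v_hasseD_le_one hK hP ht hHt hy1 i
  rcases le_or_gt i N with hiN | hiN
  · have : ((N : ℤ) - i) = ((N - i : ℕ) : ℤ) := by omega
    rw [this, ← X_pow_dvd_expand_iff hP ht hD1, PowerSeries.X_pow_dvd_iff]
    intro m hm
    rw [coeff_expand_hasseD hK hP ht hHt hy1]
    have hdvd := (X_pow_dvd_expand_iff hP ht hy1 N).2 hy
    rw [PowerSeries.X_pow_dvd_iff] at hdvd
    rw [hdvd (i + m) (by omega), mul_zero]
  · exact hD1.trans (one_le_exp_iff'.2 (by omega))

include hP ht in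
/-- The value at `P` of `z / t ^ m` is the `m`-th coefficient of the expansion. -/
theorem evalP_div_pow {z : K} {m : ℕ} (hz : P.1 z ≤ exp (-(m : ℤ))) :
    evalP P (z / t ^ m) =
      algebraMap k (IsLocalRing.ResidueField P.O) (PowerSeries.coeff m (expand P t z)) := by
  have ht0 := t_ne_zero ht
  have hw : P.1 (z / t ^ m) ≤ 1 := by
    rw [map_div₀, v_t_pow ht]
    exact div_le_one_of_le₀ hz zero_le
  rw [evalP_eq_coeff_zero hP ht hw]
  congr 1
  have hzeq : z = (z / t ^ m) * t ^ m := by field_simp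
  have htm : expand P t (t ^ m) = PowerSeries.X ^ m := by
    have h1 : (t ^ m : K) = ((⟨t, P.mem_O_iff.2 (v_t_le_one ht)⟩ : P.O) ^ m : P.O) := by
      simp
    rw [h1, ← expandHom_apply hP ht, map_pow, expandHom_apply]
    show expand P t t ^ m = _
    rw [expand_t hP ht]
  have htmle : P.1 (t ^ m) ≤ 1 := by
    rw [v_t_pow ht]; exact exp_le_one_iff'.2 (by omega)
  conv_rhs => rw [hzeq, expand_mul hP ht hw htmle, htm]
  rw [PowerSeries.coeff_mul_X_pow']
  simp

include hK hP ht hHt in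
/-- The leading coefficient of a Hasse derivative. -/
theorem evalP_hasseD_mul_zpow {y : K} {N : ℕ} (hy : P.1 y ≤ exp (-(N : ℤ))) (i : ℕ) :
    evalP P (hasseD Ht i y * t ^ ((i : ℤ) - N)) =
      ((N.choose i : ℕ) : IsLocalRing.ResidueField P.O) * evalP P (y / t ^ N) := by
  have ht0 := t_ne_zero ht
  have hy1 : P.1 y ≤ 1 := hy.trans (exp_le_one_iff'.2 (by omega))
  rcases le_or_gt i N with hiN | hiN
  · have hD := v_hasseD_le_exp hK hP ht hHt hy i
    have e1 : ((N : ℤ) - i) = ((N - i : ℕ) : ℤ) := by omega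
    rw [e1] at hD
    have e2 : hasseD Ht i y * t ^ ((i : ℤ) - N) = hasseD Ht i y / t ^ (N - i) := by
      rw [div_eq_mul_inv, ← zpow_natCast, ← zpow_neg]
      congr 2
      omega
    rw [e2, evalP_div_pow hP ht hD, evalP_div_pow hP ht hy,
      coeff_expand_hasseD hK hP ht hHt hy1, map_mul, map_natCast]
    have e3 : i + (N - i) = N := by omega
    rw [e3]
  · rw [Nat.choose_eq_zero_of_lt hiN, Nat.cast_zero, zero_mul]
    have hD1 := v_hasseD_le_one hK hP ht hHt hy1 i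
    have hlt : P.1 (hasseD Ht i y * t ^ ((i : ℤ) - N)) < 1 := by
      rw [map_mul, v_t_zpow P ht]
      calc P.1 (hasseD Ht i y) * exp (-((i : ℤ) - N)) ≤ 1 * exp (-((i : ℤ) - N)) :=
            mul_le_mul_left hD1 _
        _ = exp (-((i : ℤ) - N)) := one_mul _
        _ < 1 := exp_lt_one_iff'.2 (by omega)
    exact (evalP_eq_zero_iff P hlt.le).2 hlt

end hasse

end SV
end FunFld
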