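import Groth.Agent.Lib.Helper5.SV.Invariance

/-! Fixed points are Weierstrass points (helper5, S12610). -/

set_option autoImplicit false

namespace FunFld
namespace SV

open WithZero LocRes

variable {k K : Type*} [Field k] [Field K] [Algebra k K]

/-- Combinatorics of the `τ`-orders against the orders. -/
lemma le_of_range_eq {n : ℕ} {J ε : Fin n → ℕ} (hJ : StrictMono J) (hε : StrictMono ε)
    (hεpos : ∀ l, 0 < ε l) (m : Fin n)
    (h : ∀ j, j ∈ Set.range J ↔ (j = 0 ∨ ∃ l, l ≠ m ∧ ε l = j)) : ∀ l, J l ≤ ε l := by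
  classical
  intro l
  by_contra hlt
  push Not at hlt
  set S : Finset ℕ := insert 0 (((Finset.Iic l).erase m).image ε) with hS
  have hsub : S ⊆ (Finset.Iio l).image J := by
    intro x hx
    rw [hS, Finset.mem_insert, Finset.mem_image] at hx
    have hxJ : x ∈ Set.range J ∧ x ≤ ε l := by
      rcases hx with rfl | ⟨i, hi, rfl⟩
      · exact ⟨(h 0).2 (Or.inl rfl), Nat.zero_le _⟩
      · rw [Finset.mem_erase, Finset.mem_Iic] at hi
        exact ⟨(h _).2 (Or.inr ⟨i, hi.1, rfl⟩), hε.monotone hi.2⟩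
    obtain ⟨⟨a, rfl⟩, hle⟩ := hxJ
    rw [Finset.mem_image]
    refine ⟨a, ?_, rfl⟩
    rw [Finset.mem_Iio]
    exact hJ.lt_iff_lt.1 (lt_of_le_of_lt hle hlt)
  have hcard1 : S.card = 1 + (((Finset.Iic l).erase m).image ε).card := by
    rw [hS, Finset.card_insert_of_notMem, add_comm]
    rw [Finset.mem_image]
    rintro ⟨i, -, hi⟩
    have := hεpos i
    omega
  have hcard2 : (((Finset.Iic l).erase m).image ε).card = ((Finset.Iic l).erase m).card :=
    Finset.card_image_of_injective _ hε.injective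
  have hcard3 : (Finset.Iic l).card - 1 ≤ ((Finset.Iic l).erase m).card :=
    Finset.pred_card_le_card_erase
  have hcard4 : (Finset.Iic l).card = (l : ℕ) + 1 := Fin.card_Iic l
  have hcard5 : ((Finset.Iio l).image J).card ≤ (l : ℕ) := by
    refine Finset.card_image_le.trans ?_
    rw [Fin.card_Iio]
  have := Finset.card_le_card hsub
  omega

section jump

variable {s : K} {H : K →ₐ[k] PowerSeries K}

/-- For a birational map and `τ ≠ 1`, `τ(φ)` is not a multiple of `φ`. -/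
theorem isJump_one_of_ne_id {n : ℕ} (φ : Fin (n + 1) → K) (h0 : φ 0 ≠ 0)
    (hbir : IntermediateField.adjoin k (Set.range fun i => φ i / φ 0) = ⊤)
    (τ : K →ₐ[k] K) (hτ : τ ≠ AlgHom.id k K) (hH : IsHasseFamily s H) :
    IsJump K (hcol τ H φ) 1 := by
  by_contra hnj
  apply hτ
  have h1 : (hcol τ H φ) '' Set.Iio 1 = {fun i => τ (φ i)} := by
    ext w
    simp only [Set.mem_image, Set.mem_Iio, Nat.lt_one_iff, Set.mem_singleton_iff]
    constructor
    · rintro ⟨j, rfl, rfl⟩; rfl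
    · rintro rfl; exact ⟨0, rfl, rfl⟩
  have hc1 : hcol τ H φ 1 = φ := funext fun i => hasseD_zero hH (φ i)
  unfold IsJump at hnj
  rw [h1, hc1, not_not, Submodule.mem_span_singleton] at hnj
  obtain ⟨a, ha⟩ := hnj
  have hi : ∀ i, a * τ (φ i) = φ i := fun i => congrFun ha i
  have ha0 : a ≠ 0 := by
    rintro rfl
    exact h0 (by rw [← hi 0, zero_mul])
  apply algHom_eq_id_of_adjoin hbir
  rintro _ ⟨i, rfl⟩
  show τ (φ i / φ 0) = φ i / φ 0
  rw [map_div₀]
  conv_rhs => rw [← hi i, ← hi 0, mul_div_mul_left _ _ ha0]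

end jump

section main

variable [IsAlgClosed k] (hK : IsFunctionField k K)

include hK in
/-- **S12610**: a fixed point of `τ ≠ 1` is a Weierstrass point with respect to `τ`. -/
theorem wDiv_pos_of_fixedPt {n : ℕ} (φ : Fin (n + 1) → K) (hφ : LinearIndependent k φ)
    (h0 : φ 0 ≠ 0) (hbir : IntermediateField.adjoin k (Set.range fun i => φ i / φ 0) = ⊤)
    (τ : K →ₐ[k] K) (hτ : τ ≠ AlgHom.id k K) (P : Place k K) (hP : IsFixedPt τ P)
    (s : K) (H : K →ₐ[k] PowerSeries K) (hH : IsHasseFamily s H)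
    (J : Fin n → ℕ) (hJ : IsOrders K (hcol τ H φ) J)
    (Φ : Place k K → (K →ₐ[k] LaurentSeries k))
    (hΦ : ∀ P : Place k K, IsExpansionAt P.1 (Φ P)) :
    0 < wDiv τ H Φ s φ J P := by
  classical
  -- `n` is positive
  have hn : 0 < n := by
    by_contra hn0
    have hn0' : n = 0 := by omega
    subst hn0'
    obtain ⟨⟨x, hx, -⟩, -⟩ := id hK
    have hxtop : x ∈ (⊤ : IntermediateField k K) := IntermediateField.mem_top
    rw [← hbir] at hxtop
    have hle : IntermediateField.adjoin k (Set.range fun i : Fin 1 => φ i / φ 0) ≤ ⊥ := by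
      apply IntermediateField.adjoin_le_iff.2
      rintro _ ⟨i, rfl⟩
      have hi : i = 0 := Subsingleton.elim _ _
      show φ i / φ 0 ∈ (⊥ : IntermediateField k K)
      rw [hi, div_self h0]
      exact one_mem _
    have := hle hxtop
    rw [IntermediateField.mem_bot] at this
    obtain ⟨c, rfl⟩ := this
    exact hx (isAlgebraic_algebraMap c)
  have hPdeg := Place.deg_eq_one_of_isAlgClosed hK P
  obtain ⟨t, Ht, y, J', ht, hHt, hy0, hli, heff, hnorm, hJ', -⟩ :=
    exists_setup_at hK P φ hφ hH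
  set ψ : Fin (n + 1) → K := y • φ with hψ
  -- invariance
  have hinv : wDiv τ Ht Φ t ψ J = wDiv τ H Φ s φ J := by
    refine wDiv_invariant hK φ hφ τ s H hH t Ht hHt J hJ 1 (by simp) y hy0 ψ (fun i => ?_) Φ hΦ
    show y * φ i = _
    simp [Matrix.one_apply, ite_smul]
  rw [← hinv]
  have hJψ : IsOrders K (hcol τ Ht ψ) J :=
    (isOrders_smul_iff τ hHt φ hy0 J).2 ((isOrders_chain_iff hK τ hH hHt φ J).2 hJ)
  have hge := (le_wDiv_apply_fixedPt hK τ P hP ψ hli heff hnorm t ht Ht hHt J hJψ J' hJ' Φ hΦ).1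
  refine lt_of_lt_of_le ?_ hge
  -- the orders for `τ = 1`
  obtain ⟨ε, hε, -⟩ := exists_isOrders_det_ne_zero hK hHt hli (AlgHom.id k K)
  have hεJ' : ∀ l, ε l ≤ J' l :=
    (orders_le_ordersAt hK P ψ hli heff hnorm t ht Ht hHt ε hε J' hJ' Φ hΦ).1
  have hψ0 : ψ 0 ≠ 0 := hli.ne_zero 0
  have hbirψ : IntermediateField.adjoin k (Set.range fun i => ψ i / ψ 0) = ⊤ := by
    have : (fun i => ψ i / ψ 0) = fun i => φ i / φ 0 := by
      funext i
      show (y * φ i) / (y * φ 0) = _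
      rw [mul_div_mul_left _ _ hy0]
    rw [this]; exact hbir
  have hτ1 := isJump_one_of_ne_id ψ hψ0 hbirψ τ hτ hHt
  obtain ⟨m, hm⟩ := exists_tau_orders hψ0 τ hHt hε hτ1
  have hεpos : ∀ l, 0 < ε l := fun l => Nat.pos_of_ne_zero (orders_pos hHt hε l)
  have hJε : ∀ l, J l ≤ ε l := by
    refine le_of_range_eq hJψ.1 hε.1 hεpos m fun j => ?_
    rw [hJψ.2 j, hm j]
  have hJ0 : J ⟨0, hn⟩ = 0 := by
    have h0mem : (0 : ℕ) ∈ Set.range J := by
      rw [hJψ.2 0, hm 0]; exact Or.inl rfl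
    obtain ⟨l, hl⟩ := h0mem
    have := hJψ.1.monotone (Fin.mk_le_of_le_val (Nat.zero_le l) : (⟨0, hn⟩ : Fin n) ≤ l)
    omega
  have hJ'0 : 0 < J' ⟨0, hn⟩ := by
    have := ((mem_range_orders_iff hK hPdeg ht hHt hnorm hJ' (J' ⟨0, hn⟩)).1 ⟨_, rfl⟩).1
    omega
  have hnn : ∀ l ∈ Finset.univ, (0 : ℤ) ≤ (J' l : ℤ) - J l := by
    intro l _
    have h1 := hJε l
    have h2 := hεJ' l
    omega
  have hsingle := Finset.single_le_sum hnn (Finset.mem_univ (⟨0, hn⟩ : Fin n))
  have : (0 : ℤ) < (J' ⟨0, hn⟩ : ℤ) - J ⟨0, hn⟩ := by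
    rw [hJ0]; push_cast; omega
  exact lt_of_lt_of_le this hsingle

end main

end SV
end FunFld
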