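import Groth.Agent.Lib.Helper5.SV.Jump

/-! Basic algebra of total Hasse derivatives (helper5, Stöhr–Voloch cluster). -/

set_option autoImplicit false

namespace FunFld
namespace SV

open LocRes

variable {k K : Type*} [Field k] [Field K] [Algebra k K]

section basic

variable {s : K} {H : K →ₐ[k] PowerSeries K}

lemma hasseD_zero (hH : IsHasseFamily s H) (y : K) : hasseD H 0 y = y := by
  rw [hasseD_apply, PowerSeries.coeff_zero_eq_constantCoeff_apply]
  exact hH.2 y

lemma hasseD_add (H : K →ₐ[k] PowerSeries K) (j : ℕ) (a b : K) :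
    hasseD H j (a + b) = hasseD H j a + hasseD H j b := by
  simp only [hasseD_apply, map_add]

lemma hasseD_smul (H : K →ₐ[k] PowerSeries K) (j : ℕ) (c : k) (a : K) :
    hasseD H j (c • a) = c • hasseD H j a := by
  simp only [hasseD_apply, map_smul]
  rw [Algebra.smul_def c (H a), Algebra.smul_def c, PowerSeries.algebraMap_apply,
    PowerSeries.coeff_C_mul]

lemma hasseD_sum (H : K →ₐ[k] PowerSeries K) (j : ℕ) {ι : Type*} (S : Finset ι) (f : ι → K) :
    hasseD H j (∑ i ∈ S, f i) = ∑ i ∈ S, hasseD H j (f i) := by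
  simp only [hasseD_apply, map_sum]

lemma hasseD_mul (H : K →ₐ[k] PowerSeries K) (j : ℕ) (a b : K) :
    hasseD H j (a * b) =
      ∑ p ∈ Finset.HasAntidiagonal.antidiagonal j, hasseD H p.1 a * hasseD H p.2 b := by
  simp only [hasseD_apply, map_mul, PowerSeries.coeff_mul]

lemma H_algebraMap (H : K →ₐ[k] PowerSeries K) (c : k) :
    H (algebraMap k K c) = PowerSeries.C (algebraMap k K c) := by
  rw [H.commutes, PowerSeries.algebraMap_apply]

/-- The `K`-linear map `hasseD H j`, as a `k`-linear map. -/
noncomputable def hasseDₗ (H : K →ₐ[k] PowerSeries K) (j : ℕ) : K →ₗ[k] K where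
  toFun := hasseD H j
  map_add' := hasseD_add H j
  map_smul' := hasseD_smul H j

end basic

section hcol

variable {ι : Type*}

@[simp] lemma hcol_zero (τ : K →ₐ[k] K) (H : K →ₐ[k] PowerSeries K) (φ : ι → K) :
    hcol τ H φ 0 = fun i => τ (φ i) := rfl

@[simp] lemma hcol_succ (τ : K →ₐ[k] K) (H : K →ₐ[k] PowerSeries K) (φ : ι → K) (j : ℕ) :
    hcol τ H φ (j + 1) = fun i => hasseD H j (φ i) := rfl

/-- The sequence of columns of Hasse derivatives (without the leading column). -/
noncomputable def dcol (H : K →ₐ[k] PowerSeries K) (φ : ι → K) : ℕ → ι → K :=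
  fun j i => hasseD H j (φ i)

lemma hcol_eq_prepend (τ : K →ₐ[k] K) (H : K →ₐ[k] PowerSeries K) (φ : ι → K) :
    hcol τ H φ = prepend (fun i => τ (φ i)) (dcol H φ) := by
  funext j
  cases j with
  | zero => rfl
  | succ j => rfl

lemma dcol_zero {s : K} {H : K →ₐ[k] PowerSeries K} (hH : IsHasseFamily s H) (φ : ι → K) :
    dcol H φ 0 = φ := by
  funext i
  exact hasseD_zero hH (φ i)

end hcol

section fixed

/-- An endomorphism fixing generators of the field is the identity. -/
lemma algHom_eq_id_of_adjoin {S : Set K} (hS : IntermediateField.adjoin k S = ⊤)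
    (τ : K →ₐ[k] K) (hτ : ∀ x ∈ S, τ x = x) : τ = AlgHom.id k K := by
  let E : IntermediateField k K :=
    { carrier := {x | τ x = x}
      mul_mem' := fun {a b} ha hb => by
        simp only [Set.mem_ofPred_eq] at ha hb ⊢
        rw [map_mul, ha, hb]
      one_mem' := map_one τ
      add_mem' := fun {a b} ha hb => by
        simp only [Set.mem_ofPred_eq] at ha hb ⊢
        rw [map_add, ha, hb]
      zero_mem' := map_zero τ
      algebraMap_mem' := fun c => τ.commutes c
      inv_mem' := fun a ha => by
        simp only [Set.mem_ofPred_eq] at ha ⊢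
        rw [map_inv₀, ha] }
  have hle : IntermediateField.adjoin k S ≤ E := by
    rw [IntermediateField.adjoin_le_iff]
    intro x hx
    exact hτ x hx
  rw [hS] at hle
  ext x
  exact hle (IntermediateField.mem_top (x := x))

end fixed

end SV
end FunFld
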