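import Groth.Prelude.Def_W4bk4goldsch45p2
import Mathlib

/-! Jump indices of a sequence of vectors (helper5, Stöhr–Voloch cluster). -/

set_option autoImplicit false

namespace FunFld
namespace SV

variable {F V : Type*} [Field F] [AddCommGroup V] [Module F V]

lemma isJump_iff (c : ℕ → V) (j : ℕ) :
    IsJump F c j ↔ c j ∉ Submodule.span F (c '' Set.Iio j) := Iff.rfl

/-- The span of an initial segment is the span of the jumps in it. -/
theorem span_Iio_eq_span_jumps (c : ℕ → V) (N : ℕ) :
    Submodule.span F (c '' Set.Iio N) =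
      Submodule.span F (c '' {j | j < N ∧ IsJump F c j}) := by
  induction N with
  | zero =>
    have h1 : Set.Iio (0 : ℕ) = ∅ := by ext; simp
    have h2 : {j | j < 0 ∧ IsJump F c j} = (∅ : Set ℕ) := by ext; simp
    rw [h1, h2]
  | succ N ih =>
    have h1 : Set.Iio (N + 1) = insert N (Set.Iio N) := by
      ext j; simp only [Set.mem_Iio, Set.mem_insert_iff]; omega
    rw [h1, Set.image_insert_eq, Submodule.span_insert, ih]
    by_cases hN : IsJump F c N
    · have h2 : {j | j < N + 1 ∧ IsJump F c j} = insert N {j | j < N ∧ IsJump F c j} := by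
        ext j
        simp only [Set.mem_ofPred_eq, Set.mem_insert_iff]
        constructor
        · rintro ⟨h, hj⟩
          rcases Nat.lt_succ_iff_lt_or_eq.1 h with h | h
          · exact Or.inr ⟨h, hj⟩
          · exact Or.inl h
        · rintro (rfl | ⟨h, hj⟩)
          · exact ⟨Nat.lt_succ_self _, hN⟩
          · exact ⟨Nat.lt_succ_of_lt h, hj⟩
      rw [h2, Set.image_insert_eq, Submodule.span_insert]
    · have h2 : {j | j < N + 1 ∧ IsJump F c j} = {j | j < N ∧ IsJump F c j} := by
        ext j
        simp only [Set.mem_ofPred_eq]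
        constructor
        · rintro ⟨h, hj⟩
          rcases Nat.lt_succ_iff_lt_or_eq.1 h with h | h
          · exact ⟨h, hj⟩
          · subst h; exact absurd hj hN
        · rintro ⟨h, hj⟩
          exact ⟨Nat.lt_succ_of_lt h, hj⟩
      rw [h2]
      have : c N ∈ Submodule.span F (c '' Set.Iio N) := by
        by_contra h; exact hN h
      rw [ih] at this
      rw [sup_eq_right, Submodule.span_singleton_le_iff_mem]
      exact this

/-- The jump columns below `N` are linearly independent. -/
theorem linearIndepOn_jumps_lt (c : ℕ → V) (N : ℕ) :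
    LinearIndepOn F c {j | j < N ∧ IsJump F c j} := by
  induction N with
  | zero =>
    have h2 : {j | j < 0 ∧ IsJump F c j} = (∅ : Set ℕ) := by ext; simp
    rw [h2]
    exact linearIndepOn_empty F c
  | succ N ih =>
    by_cases hN : IsJump F c N
    · have h2 : {j | j < N + 1 ∧ IsJump F c j} = insert N {j | j < N ∧ IsJump F c j} := by
        ext j
        simp only [Set.mem_ofPred_eq, Set.mem_insert_iff]
        constructor
        · rintro ⟨h, hj⟩
          rcases Nat.lt_succ_iff_lt_or_eq.1 h with h | h
          · exact Or.inr ⟨h, hj⟩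
          · exact Or.inl h
        · rintro (rfl | ⟨h, hj⟩)
          · exact ⟨Nat.lt_succ_self _, hN⟩
          · exact ⟨Nat.lt_succ_of_lt h, hj⟩
      rw [h2]
      refine ih.insert ?_
      rw [← span_Iio_eq_span_jumps]
      exact hN
    · have h2 : {j | j < N + 1 ∧ IsJump F c j} = {j | j < N ∧ IsJump F c j} := by
        ext j
        simp only [Set.mem_ofPred_eq]
        constructor
        · rintro ⟨h, hj⟩
          rcases Nat.lt_succ_iff_lt_or_eq.1 h with h | h
          · exact ⟨h, hj⟩
          · subst h; exact absurd hj hN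
        · rintro ⟨h, hj⟩
          exact ⟨Nat.lt_succ_of_lt h, hj⟩
      rw [h2]; exact ih

/-- The jump columns are linearly independent. -/
theorem linearIndepOn_jumps (c : ℕ → V) : LinearIndepOn F c {j | IsJump F c j} := by
  refine linearIndepOn_of_finite _ fun t ht htfin => ?_
  obtain ⟨N, hN⟩ := htfin.bddAbove
  refine (linearIndepOn_jumps_lt c (N + 1)).mono ?_
  intro j hj
  exact ⟨Nat.lt_succ_of_le (hN hj), ht hj⟩

/-- An element of the span of the whole sequence lies in the span of an initial segment. -/
theorem exists_mem_span_Iio {c : ℕ → V} {v : V} (hv : v ∈ Submodule.span F (Set.range c)) :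
    ∃ N, v ∈ Submodule.span F (c '' Set.Iio N) := by
  obtain ⟨T, hT, hvT⟩ := Submodule.mem_span_finite_of_mem_span hv
  have : ∀ w ∈ T, ∃ j, c j = w := fun w hw => hT hw
  choose! f hf using this
  refine ⟨(T.image f).sup id + 1, ?_⟩
  refine Submodule.span_mono ?_ hvT
  intro w hw
  refine ⟨f w, ?_, hf w hw⟩
  simp only [Set.mem_Iio]
  have : f w ≤ (T.image f).sup id := Finset.le_sup (f := id) (Finset.mem_image_of_mem f hw)
  omega

theorem span_range_eq_span_jumps (c : ℕ → V) :
    Submodule.span F (Set.range c) = Submodule.span F (c '' {j | IsJump F c j}) := by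
  apply le_antisymm
  · rw [Submodule.span_le]
    rintro _ ⟨j, rfl⟩
    have : c j ∈ Submodule.span F (c '' Set.Iio (j + 1)) :=
      Submodule.subset_span ⟨j, Nat.lt_succ_self j, rfl⟩
    rw [span_Iio_eq_span_jumps] at this
    refine Submodule.span_mono ?_ this
    rintro _ ⟨i, ⟨-, hi⟩, rfl⟩
    exact ⟨i, hi, rfl⟩
  · exact Submodule.span_mono (Set.image_subset_range _ _)

/-- Jumps are preserved by injective linear maps. -/
theorem isJump_map_iff {W : Type*} [AddCommGroup W] [Module F W] (A : V →ₗ[F] W)
    (hA : Function.Injective A) (c : ℕ → V) (j : ℕ) :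
    IsJump F (fun m => A (c m)) j ↔ IsJump F c j := by
  unfold IsJump
  have : (fun m => A (c m)) '' Set.Iio j = A '' (c '' Set.Iio j) := by
    rw [Set.image_image]
  rw [this, ← Submodule.map_span]
  constructor
  · intro h hc; exact h ⟨c j, hc, rfl⟩
  · rintro h ⟨w, hw, hwe⟩
    rw [hA hwe] at hw
    exact h hw

/-- The shifted sequence with a prepended vector. -/
def prepend (v : V) (d : ℕ → V) : ℕ → V
  | 0 => v
  | j + 1 => d j

@[simp] lemma prepend_zero (v : V) (d : ℕ → V) : prepend v d 0 = v := rfl
@[simp] lemma prepend_succ (v : V) (d : ℕ → V) (j : ℕ) : prepend v d (j + 1) = d j := rfl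

lemma prepend_image_Iio_succ (v : V) (d : ℕ → V) (j : ℕ) :
    prepend v d '' Set.Iio (j + 1) = insert v (d '' Set.Iio j) := by
  ext w
  simp only [Set.mem_image, Set.mem_Iio, Set.mem_insert_iff]
  constructor
  · rintro ⟨m, hm, rfl⟩
    cases m with
    | zero => exact Or.inl rfl
    | succ m => exact Or.inr ⟨m, by omega, rfl⟩
  · rintro (rfl | ⟨m, hm, rfl⟩)
    · exact ⟨0, by omega, rfl⟩
    · exact ⟨m + 1, by omega, rfl⟩

lemma isJump_prepend_zero (v : V) (d : ℕ → V) : IsJump F (prepend v d) 0 ↔ v ≠ 0 := by
  unfold IsJump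
  have h1 : Set.Iio (0 : ℕ) = ∅ := by ext; simp
  rw [h1, Set.image_empty, Submodule.span_empty, Submodule.mem_bot]
  rfl

lemma isJump_prepend_succ (v : V) (d : ℕ → V) (j : ℕ) :
    IsJump F (prepend v d) (j + 1) ↔
      d j ∉ Submodule.span F {v} ⊔ Submodule.span F (d '' Set.Iio j) := by
  unfold IsJump
  rw [prepend_image_Iio_succ, Submodule.span_insert]
  rfl

/-- Prepending a vector that does not lie in the span of the sequence keeps all jumps. -/
theorem isJump_prepend_of_notMem {v : V} {d : ℕ → V}
    (hv : v ∉ Submodule.span F (Set.range d)) (j : ℕ) :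
    IsJump F (prepend v d) (j + 1) ↔ IsJump F d j := by
  rw [isJump_prepend_succ]
  constructor
  · intro h hd
    exact h (Submodule.mem_sup_right hd)
  · intro h hd
    obtain ⟨y, hy, w, hw, hyw⟩ := Submodule.mem_sup.1 hd
    obtain ⟨a, rfl⟩ := Submodule.mem_span_singleton.1 hy
    by_cases ha : a = 0
    · rw [ha, zero_smul, zero_add] at hyw
      exact h (hyw ▸ hw)
    · apply hv
      have : v = a⁻¹ • (d j - w) := by
        rw [← hyw, add_sub_cancel_right, smul_smul, inv_mul_cancel₀ ha, one_smul]
      rw [this]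
      refine Submodule.smul_mem _ _ (Submodule.sub_mem _ (Submodule.subset_span ⟨j, rfl⟩) ?_)
      exact Submodule.span_mono (Set.image_subset_range _ _) hw

/-- Prepending a nonzero vector of the span of the sequence removes exactly one jump. -/
theorem exists_isJump_prepend_iff {v : V} {d : ℕ → V} (hv0 : v ≠ 0)
    (hv : v ∈ Submodule.span F (Set.range d)) :
    ∃ j₀, IsJump F d j₀ ∧ v ∈ Submodule.span F (d '' Set.Iio (j₀ + 1)) ∧
      v ∉ Submodule.span F (d '' Set.Iio j₀) ∧
      ∀ j, IsJump F (prepend v d) (j + 1) ↔ (IsJump F d j ∧ j ≠ j₀) := by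
  classical
  have hex := exists_mem_span_Iio hv
  set N₀ := Nat.find hex with hN₀
  have hN₀mem : v ∈ Submodule.span F (d '' Set.Iio N₀) := Nat.find_spec hex
  have hN₀pos : N₀ ≠ 0 := by
    intro h0
    rw [h0] at hN₀mem
    have h1 : Set.Iio (0 : ℕ) = ∅ := by ext; simp
    rw [h1, Set.image_empty, Submodule.span_empty, Submodule.mem_bot] at hN₀mem
    exact hv0 hN₀mem
  obtain ⟨j₀, hj₀⟩ := Nat.exists_eq_succ_of_ne_zero hN₀pos
  have hmin : v ∉ Submodule.span F (d '' Set.Iio j₀) := by
    have := Nat.find_min hex (m := j₀) (by rw [← hN₀, hj₀]; exact Nat.lt_succ_self _)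
    exact this
  have hmem : v ∈ Submodule.span F (d '' Set.Iio (j₀ + 1)) := by
    rw [← Nat.succ_eq_add_one, ← hj₀]; exact hN₀mem
  -- decompose `v = a • d j₀ + w`
  have hIio : Set.Iio (j₀ + 1) = insert j₀ (Set.Iio j₀) := by
    ext j; simp only [Set.mem_Iio, Set.mem_insert_iff]; omega
  have hdec : ∃ a : F, ∃ w ∈ Submodule.span F (d '' Set.Iio j₀), v = a • d j₀ + w := by
    rw [hIio, Set.image_insert_eq, Submodule.mem_span_insert] at hmem
    exact hmem
  obtain ⟨a, w, hw, hvw⟩ := hdec
  have ha : a ≠ 0 := by
    rintro rfl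
    rw [zero_smul, zero_add] at hvw
    rw [hvw] at hmin; exact hmin hw
  have hdj₀ : d j₀ = a⁻¹ • (v - w) := by
    rw [hvw, add_sub_cancel_right, smul_smul, inv_mul_cancel₀ ha, one_smul]
  have hjump₀ : IsJump F d j₀ := by
    intro hd
    apply hmin
    rw [hvw]
    exact Submodule.add_mem _ (Submodule.smul_mem _ _ hd) hw
  refine ⟨j₀, hjump₀, hmem, hmin, fun j => ?_⟩
  rw [isJump_prepend_succ]
  rcases lt_trichotomy j j₀ with hlt | heq | hgt
  · -- `j < j₀`
    have hvj : v ∉ Submodule.span F (d '' Set.Iio (j + 1)) := by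
      intro h
      apply hmin
      refine Submodule.span_mono (Set.image_mono ?_) h
      intro i hi
      simp only [Set.mem_Iio] at hi ⊢
      omega
    constructor
    · intro h
      refine ⟨fun hd => h (Submodule.mem_sup_right hd), by omega⟩
    · rintro ⟨h, -⟩ hd
      obtain ⟨y, hy, w', hw', hyw⟩ := Submodule.mem_sup.1 hd
      obtain ⟨b, rfl⟩ := Submodule.mem_span_singleton.1 hy
      by_cases hb : b = 0
      · rw [hb, zero_smul, zero_add] at hyw
        exact h (hyw ▸ hw')
      · apply hvj
        have : v = b⁻¹ • (d j - w') := by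
          rw [← hyw, add_sub_cancel_right, smul_smul, inv_mul_cancel₀ hb, one_smul]
        rw [this]
        refine Submodule.smul_mem _ _ (Submodule.sub_mem _
          (Submodule.subset_span ⟨j, Nat.lt_succ_self j, rfl⟩) ?_)
        refine Submodule.span_mono (Set.image_mono ?_) hw'
        intro i hi
        simp only [Set.mem_Iio] at hi ⊢
        omega
  · -- `j = j₀`
    subst heq
    constructor
    · intro h
      exfalso
      apply h
      rw [hdj₀]
      refine Submodule.smul_mem _ _ (Submodule.sub_mem _ ?_ (Submodule.mem_sup_right hw))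
      exact Submodule.mem_sup_left (Submodule.mem_span_singleton_self v)
    · rintro ⟨-, h⟩; exact absurd rfl h
  · -- `j₀ < j`
    have hvj : v ∈ Submodule.span F (d '' Set.Iio j) := by
      refine Submodule.span_mono (Set.image_mono ?_) hmem
      intro i hi
      simp only [Set.mem_Iio] at hi ⊢
      omega
    have hsup : Submodule.span F {v} ⊔ Submodule.span F (d '' Set.Iio j) =
        Submodule.span F (d '' Set.Iio j) := by
      rw [sup_eq_right, Submodule.span_singleton_le_iff_mem]; exact hvj
    rw [hsup]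
    constructor
    · intro h; exact ⟨h, by omega⟩
    · rintro ⟨h, -⟩; exact h

end SV
end FunFld
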