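import Mathlib

/-! The Taylor expansion `f(X) ↦ f(X + T)` of formal power series (helper5). -/

set_option autoImplicit false

namespace FunFld
namespace SV

open PowerSeries

variable {R : Type*} [CommRing R]

/-- `X + T` in two variables: `none` is the new variable `T`, `some ()` the old variable `X`. -/
noncomputable def tayA (R : Type*) [CommRing R] : MvPowerSeries (Option Unit) R :=
  MvPowerSeries.X none + MvPowerSeries.X (some ())

lemma hasSubst_tayA : PowerSeries.HasSubst (tayA R) := by
  apply PowerSeries.HasSubst.of_constantCoeff_zero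
  simp [tayA]

lemma coeff_tayA_pow (e : Option Unit →₀ ℕ) (d : ℕ) :
    MvPowerSeries.coeff e (tayA R ^ d) =
      if e none + e (some ()) = d then ((d.choose (e none) : ℕ) : R) else 0 := by
  classical
  rw [tayA, add_pow, map_sum]
  have hterm : ∀ i ∈ Finset.range (d + 1),
      MvPowerSeries.coeff e ((MvPowerSeries.X none : MvPowerSeries (Option Unit) R) ^ i *
        MvPowerSeries.X (some ()) ^ (d - i) * ((d.choose i : ℕ) : MvPowerSeries (Option Unit) R)) =
      if e none = i ∧ e (some ()) = d - i then ((d.choose i : ℕ) : R) else 0 := by
    intro i _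
    rw [MvPowerSeries.X_pow_eq, MvPowerSeries.X_pow_eq, MvPowerSeries.monomial_mul_monomial,
      mul_one, mul_comm, ← map_natCast (MvPowerSeries.C (σ := Option Unit) (R := R)),
      MvPowerSeries.coeff_C_mul, MvPowerSeries.coeff_monomial]
    have hiff : e = Finsupp.single none i + Finsupp.single (some ()) (d - i) ↔
        (e none = i ∧ e (some ()) = d - i) := by
      constructor
      · intro h
        rw [h]
        simp
      · rintro ⟨h1, h2⟩
        ext x
        cases x with
        | none => simp [h1]
        | some u => cases u; simp [h2]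
    by_cases h : e none = i ∧ e (some ()) = d - i
    · rw [if_pos (hiff.2 h), if_pos h, mul_one]
    · rw [if_neg (fun h' => h (hiff.1 h')), if_neg h, mul_zero]
  rw [Finset.sum_congr rfl hterm]
  by_cases hd : e none + e (some ()) = d
  · rw [if_pos hd, Finset.sum_eq_single (e none)]
    · rw [if_pos ⟨rfl, by omega⟩]
    · intro i _ hi
      rw [if_neg (fun h => hi h.1.symm)]
    · intro h
      exfalso; apply h
      rw [Finset.mem_range]; omega
  · rw [if_neg hd]
    apply Finset.sum_eq_zero
    intro i hi
    rw [Finset.mem_range] at hi
    rw [if_neg]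
    rintro ⟨h1, h2⟩
    apply hd; omega

/-- The Taylor expansion `f(X) ↦ f(X + T)`, with values in power series in `T` over power series
in `X`. -/
noncomputable def taylor (R : Type*) [CommRing R] :
    PowerSeries R →ₐ[R] PowerSeries (PowerSeries R) :=
  ((MvPowerSeries.optionEquivLeft Unit R).toAlgHom).comp
    (PowerSeries.substAlgHom (hasSubst_tayA (R := R)))

theorem coeff_coeff_taylor (f : PowerSeries R) (j m : ℕ) :
    PowerSeries.coeff m (PowerSeries.coeff j (taylor R f)) =
      (((j + m).choose j : ℕ) : R) * PowerSeries.coeff (j + m) f := by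
  classical
  have h1 : PowerSeries.coeff m (PowerSeries.coeff j (taylor R f)) =
      MvPowerSeries.coeff ((Finsupp.single () m).optionElim j)
        (PowerSeries.subst (tayA R) f) := by
    rw [← MvPowerSeries.coeff_coeff_optionEquivLeft]
    have h2 : taylor R f = (MvPowerSeries.optionEquivLeft Unit R) (PowerSeries.subst (tayA R) f) := by
      show (MvPowerSeries.optionEquivLeft Unit R)
        (PowerSeries.substAlgHom (hasSubst_tayA (R := R)) f) = _
      rw [PowerSeries.coe_substAlgHom]
    rw [h2]
    rfl
  rw [h1, PowerSeries.coeff_subst hasSubst_tayA]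
  rw [finsum_eq_single _ (j + m)]
  · rw [coeff_tayA_pow]
    simp only [Finsupp.optionElim_apply_none, Finsupp.optionElim_apply_some,
      Finsupp.single_eq_same, if_true, smul_eq_mul]
    ring
  · intro d hd
    rw [coeff_tayA_pow]
    simp only [Finsupp.optionElim_apply_none, Finsupp.optionElim_apply_some,
      Finsupp.single_eq_same]
    rw [if_neg (fun h => hd h.symm), smul_zero]

theorem taylor_X : taylor R (PowerSeries.X : PowerSeries R) =
    PowerSeries.C (PowerSeries.X : PowerSeries R) + PowerSeries.X := by
  show (MvPowerSeries.optionEquivLeft Unit R)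
    (PowerSeries.substAlgHom (hasSubst_tayA (R := R)) PowerSeries.X) = _
  rw [PowerSeries.substAlgHom_X, tayA, map_add, MvPowerSeries.optionEquivLeft_X_none,
    MvPowerSeries.optionEquivLeft_X_some, add_comm]
  rfl

theorem constantCoeff_taylor (f : PowerSeries R) :
    PowerSeries.constantCoeff (taylor R f) = f := by
  ext m
  rw [← PowerSeries.coeff_zero_eq_constantCoeff_apply, coeff_coeff_taylor]
  simp

end SV
end FunFld
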