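import Groth.Agent.Lib.Helper5.SV.Expand2
import Groth.Agent.Lib.Helper5.SV.Taylor
import Groth.Agent.Lib.Helper5.SV.Chain

/-! Hasse derivatives with respect to a local parameter and expansions (helper5). -/

set_option autoImplicit false

namespace FunFld
namespace SV

open WithZero LocRes

variable {k K : Type*} [Field k] [Field K] [Algebra k K]

instance isScalarTower_O (P : Place k K) : IsScalarTower k P.O K :=
  IsScalarTower.of_algebraMap_eq (fun _ => rfl)

/-- The embedding of power series into Laurent series, as a `k`-algebra map (for the default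
algebra structure on Laurent series). -/
noncomputable def coeAlg (k : Type*) [Field k] : PowerSeries k →ₐ[k] LaurentSeries k :=
  { HahnSeries.ofPowerSeries ℤ k with
    commutes' := fun c => (HahnSeries.algebraMap_apply' ℤ c).symm }

@[simp] lemma coeAlg_apply (f : PowerSeries k) : coeAlg k f = HahnSeries.ofPowerSeries ℤ k f := rfl

section laurent

variable {P : Place k K} (hP : P.deg = 1) {t : K} (ht : P.1 t = exp (-1 : ℤ))

/-- The expansion of integral elements, as Laurent series. -/
noncomputable def expandL : P.O →ₐ[k] LaurentSeries k :=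
  (coeAlg k).comp (expandHom hP ht)

lemma expandL_apply (y : P.O) :
    expandL hP ht y = HahnSeries.ofPowerSeries ℤ k (expand P t (y : K)) := rfl

lemma expandL_injective : Function.Injective (expandL hP ht) := by
  intro a b hab
  rw [expandL_apply, expandL_apply] at hab
  exact expandHom_injective hP ht (HahnSeries.ofPowerSeries_injective hab)

/-- The expansion at `P` in the parameter `t`, on the whole field. -/
noncomputable def expandK : K →ₐ[k] LaurentSeries k :=
  IsFractionRing.liftAlgHom (expandL_injective hP ht)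

lemma expandK_of_le {y : K} (hy : P.1 y ≤ 1) :
    expandK hP ht y = HahnSeries.ofPowerSeries ℤ k (expand P t y) := by
  have : y = algebraMap P.O K ⟨y, P.mem_O_iff.2 hy⟩ := rfl
  rw [this, expandK, IsFractionRing.liftAlgHom_apply, IsFractionRing.lift_algebraMap]
  rfl

include hP ht in
/-- An element whose expansion is a power series is integral. -/
lemma v_le_one_of_expandK_eq {z : K} {h : PowerSeries k}
    (hz : expandK hP ht z = HahnSeries.ofPowerSeries ℤ k h) : P.1 z ≤ 1 := by
  by_contra hlt
  push Not at hlt
  have hz0 : z ≠ 0 := by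
    rintro rfl
    rw [map_zero] at hlt
    exact not_lt.2 zero_le hlt
  have hw : P.1 z⁻¹ < 1 := by
    rw [map_inv₀]
    exact inv_lt_one_of_one_lt₀ hlt
  have hw1 : P.1 z⁻¹ ≤ exp (-((1 : ℕ) : ℤ)) := by
    have := P.v_le_exp_pred_of_lt (n := 0) (by rw [exp_zero]; exact hw)
    simpa using this
  obtain ⟨g, hg⟩ := (X_pow_dvd_expand_iff hP ht hw.le 1).2 hw1
  have h1 : expandK hP ht z * expandK hP ht z⁻¹ = 1 := by
    rw [← map_mul, mul_inv_cancel₀ hz0, map_one]
  rw [hz, expandK_of_le hP ht hw.le, hg, ← map_mul, ← map_one (HahnSeries.ofPowerSeries ℤ k)] at h1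
  have h2 := HahnSeries.ofPowerSeries_injective h1
  have h3 := congrArg PowerSeries.constantCoeff h2
  rw [pow_one, map_mul, map_mul, PowerSeries.constantCoeff_X, zero_mul, mul_zero, map_one] at h3
  exact zero_ne_one h3

end laurent

section compare

variable [PerfectField k] (hK : IsFunctionField k K)
variable {P : Place k K} (hP : P.deg = 1) {t : K} (ht : P.1 t = exp (-1 : ℤ))
variable {Ht : K →ₐ[k] PowerSeries K} (hHt : IsHasseFamily t Ht)

/-- The Taylor expansion of the expansion of an integral element. -/
noncomputable def tayO : P.O →ₐ[k] PowerSeries (LaurentSeries k) :=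
  (PowerSeries.mapAlgHom (coeAlg k)).comp
    ((taylor k).comp (expandHom hP ht))

lemma tayO_apply (y : P.O) :
    tayO hP ht y = (taylor k (expand P t (y : K))).map (HahnSeries.ofPowerSeries ℤ k) := rfl

lemma constantCoeff_tayO (y : P.O) :
    PowerSeries.constantCoeff (tayO hP ht y) =
      HahnSeries.ofPowerSeries ℤ k (expand P t (y : K)) := by
  rw [tayO_apply, ← PowerSeries.coeff_zero_eq_constantCoeff_apply, PowerSeries.coeff_map,
    PowerSeries.coeff_zero_eq_constantCoeff_apply, constantCoeff_taylor]

lemma isUnit_tayO (y : nonZeroDivisors P.O) : IsUnit (tayO hP ht (y : P.O)) := by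
  rw [PowerSeries.isUnit_iff_constantCoeff, constantCoeff_tayO]
  have hy0 : (y : P.O) ≠ 0 := nonZeroDivisors.coe_ne_zero y
  have : HahnSeries.ofPowerSeries ℤ k (expand P t ((y : P.O) : K)) ≠ 0 := by
    intro h0
    rw [← map_zero (HahnSeries.ofPowerSeries ℤ k)] at h0
    have h1 := HahnSeries.ofPowerSeries_injective h0
    have h2 := (expand_eq_zero_iff hP ht (P.mem_O_iff.1 (y : P.O).2)).1 h1
    exact hy0 (Subtype.ext h2)
  exact this.isUnit

/-- The Taylor expansion of the expansion, on the whole field. -/
noncomputable def tayK : K →ₐ[k] PowerSeries (LaurentSeries k) :=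
  IsLocalization.liftAlgHom (M := nonZeroDivisors P.O) (f := tayO hP ht) (isUnit_tayO hP ht)

lemma tayK_of_le {y : K} (hy : P.1 y ≤ 1) :
    tayK hP ht y = (taylor k (expand P t y)).map (HahnSeries.ofPowerSeries ℤ k) := by
  have : y = algebraMap P.O K ⟨y, P.mem_O_iff.2 hy⟩ := rfl
  rw [this, tayK, IsLocalization.liftAlgHom_apply, IsLocalization.lift_eq]
  rfl

lemma constantCoeff_tayK (y : K) :
    PowerSeries.constantCoeff (tayK hP ht y) = expandK hP ht y := by
  have h : (PowerSeries.constantCoeff.comp (tayK hP ht).toRingHom) =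
      (expandK hP ht).toRingHom := by
    apply IsLocalization.ringHom_ext (nonZeroDivisors P.O)
    refine RingHom.ext fun a => ?_
    show PowerSeries.constantCoeff (tayK hP ht (algebraMap P.O K a)) =
      expandK hP ht (algebraMap P.O K a)
    have ha : P.1 (algebraMap P.O K a) ≤ 1 := P.mem_O_iff.1 a.2
    rw [tayK_of_le hP ht ha, expandK_of_le hP ht ha,
      ← PowerSeries.coeff_zero_eq_constantCoeff_apply, PowerSeries.coeff_map,
      PowerSeries.coeff_zero_eq_constantCoeff_apply, constantCoeff_taylor]
  exact congrArg (fun f : K →+* LaurentSeries k => f y) h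

include hK hHt in
/-- **Comparison theorem**: expanding the total Hasse derivative is Taylor-expanding the
expansion. -/
theorem map_expandK_H (y : K) :
    (Ht y).map (expandK hP ht : K →+* LaurentSeries k) = tayK hP ht y := by
  haveI := formallyUnramified_of_isHasseFamily hK hHt
  let g₁ : K →ₐ[k] PowerSeries (LaurentSeries k) :=
    (PowerSeries.mapAlgHom (expandK hP ht)).comp Ht
  have hg₁ : ∀ y, g₁ y = (Ht y).map (expandK hP ht : K →+* LaurentSeries k) := fun y => rfl
  have htle := v_t_le_one ht
  have hs : g₁ t = tayK hP ht t := by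
    rw [hg₁, hHt.1, tayK_of_le hP ht htle, expand_t hP ht, taylor_X, map_add, map_add,
      PowerSeries.map_C, PowerSeries.map_C, PowerSeries.map_X, PowerSeries.map_X]
    congr 2
    show expandK hP ht t = _
    rw [expandK_of_le hP ht htle, expand_t hP ht]
  have hmod : ∀ x, g₁ x - tayK hP ht x ∈
      Ideal.span {(PowerSeries.X : PowerSeries (LaurentSeries k))} := by
    intro x
    rw [Ideal.mem_span_singleton, PowerSeries.X_dvd_iff, map_sub, constantCoeff_tayK, hg₁,
      ← PowerSeries.coeff_zero_eq_constantCoeff_apply, PowerSeries.coeff_map,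
      PowerSeries.coeff_zero_eq_constantCoeff_apply, hHt.2]
    exact sub_eq_zero.2 rfl
  have := algHom_ext_of_formallyUnramified (s := t)
    (Ideal.span {(PowerSeries.X : PowerSeries (LaurentSeries k))}) iInf_span_X_pow_eq_bot
    g₁ (tayK hP ht) hs hmod
  rw [← this, hg₁]

include hK hHt in
theorem expandK_hasseD {y : K} (hy : P.1 y ≤ 1) (j : ℕ) :
    expandK hP ht (hasseD Ht j y) =
      HahnSeries.ofPowerSeries ℤ k (PowerSeries.coeff j (taylor k (expand P t y))) := by
  have h := congrArg (PowerSeries.coeff j) (map_expandK_H hK hP ht hHt y)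
  rw [PowerSeries.coeff_map, tayK_of_le hP ht hy, PowerSeries.coeff_map] at h
  exact h

include hK hHt hP ht in
/-- Hasse derivatives with respect to a local parameter preserve the valuation ring. -/
theorem v_hasseD_le_one {y : K} (hy : P.1 y ≤ 1) (j : ℕ) : P.1 (hasseD Ht j y) ≤ 1 :=
  v_le_one_of_expandK_eq hP ht (expandK_hasseD hK hP ht hHt hy j)

include hK hHt hP ht in
theorem expand_hasseD {y : K} (hy : P.1 y ≤ 1) (j : ℕ) :
    expand P t (hasseD Ht j y) = PowerSeries.coeff j (taylor k (expand P t y)) := by
  have h := expandK_hasseD hK hP ht hHt hy j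
  rw [expandK_of_le hP ht (v_hasseD_le_one hK hP ht hHt hy j)] at h
  exact HahnSeries.ofPowerSeries_injective h

include hK hHt hP ht in
/-- The expansion of a Hasse derivative. -/
theorem coeff_expand_hasseD {y : K} (hy : P.1 y ≤ 1) (j m : ℕ) :
    PowerSeries.coeff m (expand P t (hasseD Ht j y)) =
      (((j + m).choose j : ℕ) : k) * PowerSeries.coeff (j + m) (expand P t y) := by
  rw [expand_hasseD hK hP ht hHt hy j, coeff_coeff_taylor]

end compare

end SV
end FunFld
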