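import Groth.Agent.Lib.Helper5.SV.Orders

/-! Orders of a projective map at a place (helper5, Stöhr–Voloch cluster). -/

set_option autoImplicit false

namespace FunFld
namespace SV

open WithZero LocRes

variable {k K : Type*} [Field k] [Field K] [Algebra k K]

section semilinear

variable {F F' V V' : Type*} [Field F] [Field F'] [AddCommGroup V] [Module F V]
  [AddCommGroup V'] [Module F' V'] {σ : F →+* F'} [RingHomSurjective σ]

/-- Jumps are preserved by injective semilinear maps (over a surjective ring map). -/
theorem isJump_semilinear_iff (A : V →ₛₗ[σ] V') (hA : Function.Injective A) (c : ℕ → V) (j : ℕ) :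
    IsJump F' (fun m => A (c m)) j ↔ IsJump F c j := by
  unfold IsJump
  have : (fun m => A (c m)) '' Set.Iio j = A '' (c '' Set.Iio j) := by
    rw [Set.image_image]
  rw [this, ← Submodule.map_span]
  constructor
  · intro h hc; exact h ⟨c j, hc, rfl⟩
  · rintro h ⟨w, hw, hwe⟩
    rw [hA hwe] at hw
    exact h hw

end semilinear

section valuation

variable (P : Place k K)

/-- Elements with strictly decreasing nonzero values are linearly independent. -/
theorem linearIndependent_of_strictAnti {m : ℕ} (f : Fin m → K)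
    (hanti : StrictAnti (fun i => P.1 (f i))) (hne : ∀ i, f i ≠ 0) : LinearIndependent k f := by
  classical
  rw [Fintype.linearIndependent_iff]
  intro a ha
  by_contra hcon
  push Not at hcon
  have hS : (Finset.univ.filter fun i => a i ≠ 0).Nonempty := by
    obtain ⟨i, hi⟩ := hcon
    exact ⟨i, by simp [hi]⟩
  set j := (Finset.univ.filter fun i => a i ≠ 0).min' hS with hj
  have hjmem : j ∈ (Finset.univ.filter fun i => a i ≠ 0) := Finset.min'_mem _ hS
  have haj : a j ≠ 0 := by simpa using hjmem
  have hvj : P.1 (a j • f j) = P.1 (f j) := by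
    rw [Algebra.smul_def, map_mul, P.v_algebraMap haj, one_mul]
  have hpos : P.1 (f j) ≠ 0 := P.v_ne_zero (hne j)
  have hrest : P.1 (∑ i ∈ Finset.univ.erase j, a i • f i) < P.1 (f j) := by
    refine Valuation.map_sum_lt P.1 hpos (fun i hi => ?_)
    have hij : i ≠ j := Finset.ne_of_mem_erase hi
    by_cases hai : a i = 0
    · rw [hai, zero_smul, map_zero]; exact zero_lt_iff.2 hpos
    · have hile : j ≤ i := Finset.min'_le _ _ (by simp [hai])
      have hlt : j < i := lt_of_le_of_ne hile (Ne.symm hij)
      rw [Algebra.smul_def, map_mul, P.v_algebraMap hai, one_mul]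
      exact hanti hlt
  have hsum : ∑ i, a i • f i = a j • f j + ∑ i ∈ Finset.univ.erase j, a i • f i :=
    (Finset.add_sum_erase _ _ (Finset.mem_univ j)).symm
  have h1 : P.1 (∑ i, a i • f i) = P.1 (f j) := by
    rw [hsum, Valuation.map_add_eq_of_lt_left P.1 (by rwa [hvj]), hvj]
  rw [ha, map_zero] at h1
  exact hpos h1.symm

end valuation

section ecol

variable {P : Place k K} (hP : P.deg = 1) {t : K} (ht : P.1 t = exp (-1 : ℤ))

/-- The columns of the matrix of expansion coefficients of a tuple. -/
noncomputable def ecol (P : Place k K) (t : K) {ι : Type*} (φ : ι → K) : ℕ → ι → k :=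
  fun j i => PowerSeries.coeff j (expand P t (φ i))

include hP ht in
/-- The expansion of a `k`-combination of integral elements. -/
lemma coeff_expand_sum {ι : Type*} [Fintype ι] {φ : ι → K} (hint : ∀ i, P.1 (φ i) ≤ 1)
    (a : ι → k) (j : ℕ) :
    PowerSeries.coeff j (expand P t (∑ i, a i • φ i)) = ∑ i, a i * ecol P t φ j i := by
  have h1 : (∑ i, a i • φ i) =
      ((∑ i, a i • (⟨φ i, P.mem_O_iff.2 (hint i)⟩ : P.O) : P.O) : K) := by
    rw [AddSubmonoidClass.coe_finsetSum]
    refine Finset.sum_congr rfl fun i _ => ?_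
    rw [P.coe_smul_O]
  rw [h1, ← expandHom_apply hP ht, map_sum, map_sum]
  refine Finset.sum_congr rfl fun i _ => ?_
  rw [map_smul, PowerSeries.coeff_smul, expandHom_apply, smul_eq_mul]
  rfl

lemma v_sum_smul_le {ι : Type*} [Fintype ι] {φ : ι → K} (hint : ∀ i, P.1 (φ i) ≤ 1)
    (a : ι → k) : P.1 (∑ i, a i • φ i) ≤ 1 := by
  refine Valuation.map_sum_le _ fun i _ => ?_
  rw [Algebra.smul_def, map_mul]
  exact mul_le_one' (P.v_algebraMap_le _) (hint i)

include hP ht in
/-- The order of an integral element is the index of the first nonzero coefficient. -/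
lemma v_eq_exp_neg_iff {y : K} (hy : P.1 y ≤ 1) (j : ℕ) :
    P.1 y = exp (-(j : ℤ)) ↔
      (∀ i < j, PowerSeries.coeff i (expand P t y) = 0) ∧
        PowerSeries.coeff j (expand P t y) ≠ 0 := by
  have hdvd := X_pow_dvd_expand_iff hP ht hy
  constructor
  · intro h
    constructor
    · have := (hdvd j).2 h.le
      rw [PowerSeries.X_pow_dvd_iff] at this
      exact this
    · intro h0
      have h1 : (PowerSeries.X : PowerSeries k) ^ (j + 1) ∣ expand P t y := by
        rw [PowerSeries.X_pow_dvd_iff]
        intro i hi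
        rcases Nat.lt_succ_iff_lt_or_eq.1 hi with hi | rfl
        · have := (hdvd j).2 h.le
          rw [PowerSeries.X_pow_dvd_iff] at this
          exact this i hi
        · exact h0
      have := (hdvd (j + 1)).1 h1
      rw [h, exp_le_exp] at this
      push_cast at this
      omega
  · rintro ⟨h1, h2⟩
    have hle : P.1 y ≤ exp (-(j : ℤ)) := by
      apply (hdvd j).1
      rw [PowerSeries.X_pow_dvd_iff]
      exact h1
    refine le_antisymm hle ?_
    by_contra hlt
    push Not at hlt
    have := P.v_le_exp_pred_of_lt hlt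
    have h3 : P.1 y ≤ exp (-((j + 1 : ℕ) : ℤ)) := by
      refine this.trans_eq ?_
      congr 1
      push_cast; ring
    have h4 := (hdvd (j + 1)).2 h3
    rw [PowerSeries.X_pow_dvd_iff] at h4
    exact h2 (h4 j (Nat.lt_succ_self j))

include hP ht in
/-- `j` is a jump of the coefficient columns iff some combination of the tuple has order `j`. -/
theorem isJump_ecol_iff {n : ℕ} {φ : Fin (n + 1) → K} (hint : ∀ i, P.1 (φ i) ≤ 1) (j : ℕ) :
    IsJump k (ecol P t φ) j ↔
      ∃ f ∈ Submodule.span k (Set.range φ), P.1 f = exp (-(j : ℤ)) := by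
  classical
  constructor
  · intro hj
    -- a functional vanishing on the earlier columns but not on column `j`
    obtain ⟨g, hg1, hg2⟩ := Submodule.exists_le_ker_of_notMem hj
    set a : Fin (n + 1) → k := fun i => g (fun l => if i = l then 1 else 0) with ha
    have hga : ∀ v : Fin (n + 1) → k, g v = ∑ i, a i * v i := by
      intro v
      rw [LinearMap.pi_apply_eq_sum_univ g v]
      refine Finset.sum_congr rfl fun i _ => ?_
      rw [smul_eq_mul, mul_comm]
    refine ⟨∑ i, a i • φ i, ?_, ?_⟩
    · exact Submodule.sum_mem _ fun i _ => Submodule.smul_mem _ _ (Submodule.subset_span ⟨i, rfl⟩)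
    · rw [v_eq_exp_neg_iff hP ht (v_sum_smul_le hint a)]
      constructor
      · intro i hi
        rw [coeff_expand_sum hP ht hint, ← hga]
        have : ecol P t φ i ∈ Submodule.span k (ecol P t φ '' Set.Iio j) :=
          Submodule.subset_span ⟨i, hi, rfl⟩
        exact hg2 this
      · rw [coeff_expand_sum hP ht hint, ← hga]
        exact hg1
  · rintro ⟨f, hf, hvf⟩
    obtain ⟨a, rfl⟩ := (Submodule.mem_span_range_iff_exists_fun k).1 hf
    rw [v_eq_exp_neg_iff hP ht (v_sum_smul_le hint a)] at hvf
    obtain ⟨h1, h2⟩ := hvf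
    intro hmem
    apply h2
    rw [coeff_expand_sum hP ht hint]
    -- the functional `v ↦ ∑ a i * v i` vanishes on the span of the earlier columns
    let g : (Fin (n + 1) → k) →ₗ[k] k :=
      { toFun := fun v => ∑ i, a i * v i
        map_add' := fun v w => by simp [mul_add, Finset.sum_add_distrib]
        map_smul' := fun c v => by simp [Finset.mul_sum, mul_left_comm] }
    have hker : Submodule.span k (ecol P t φ '' Set.Iio j) ≤ LinearMap.ker g := by
      rw [Submodule.span_le]
      rintro _ ⟨i, hi, rfl⟩
      show g (ecol P t φ i) = 0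
      have := h1 i hi
      rw [coeff_expand_sum hP ht hint] at this
      exact this
    exact hker hmem

end ecol

section hcolAt

variable [PerfectField k] (hK : IsFunctionField k K)
variable {P : Place k K} (hP : P.deg = 1) {t : K} (ht : P.1 t = exp (-1 : ℤ))
variable {Ht : K →ₐ[k] PowerSeries K} (hHt : IsHasseFamily t Ht)

include hK hP ht hHt in
lemma hcolAt_succ_eq {ι : Type*} {φ : ι → K} (hint : ∀ i, P.1 (φ i) ≤ 1) (j : ℕ) :
    hcolAt P Ht φ (j + 1) =
      fun i => algebraMap k (IsLocalRing.ResidueField P.O) (ecol P t φ j i) := by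
  funext i
  show evalP P (hasseD Ht j (φ i)) = _
  rw [evalP_hasseD hP ht hK hHt (hint i) j]
  rfl

include hHt in
lemma hcolAt_zero_eq_one {ι : Type*} (φ : ι → K) : hcolAt P Ht φ 0 = hcolAt P Ht φ 1 := by
  funext i
  show evalP P (φ i) = evalP P (hasseD Ht 0 (φ i))
  rw [hasseD_zero hHt]

/-- The semilinear map induced on tuples by `k → κ(P)`. -/
noncomputable def resMap (P : Place k K) (ι : Type*) :
    (ι → k) →ₛₗ[algebraMap k (IsLocalRing.ResidueField P.O)] (ι → IsLocalRing.ResidueField P.O) where
  toFun v := fun i => algebraMap k (IsLocalRing.ResidueField P.O) (v i)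
  map_add' v w := by funext i; simp
  map_smul' c v := by funext i; simp

lemma resMap_injective (P : Place k K) (ι : Type*) : Function.Injective (resMap P ι) := by
  intro v w h
  funext i
  exact (algebraMap k (IsLocalRing.ResidueField P.O)).injective (congrFun h i)

include hK hP ht hHt in
/-- The jumps of the columns of values at `P` are the positive jumps of the coefficient columns. -/
theorem isJump_hcolAt_succ_iff {ι : Type*} {φ : ι → K} (hint : ∀ i, P.1 (φ i) ≤ 1) (j : ℕ) :
    IsJump (IsLocalRing.ResidueField P.O) (hcolAt P Ht φ) (j + 1) ↔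
      (j ≠ 0 ∧ IsJump k (ecol P t φ) j) := by
  haveI : RingHomSurjective (algebraMap k (IsLocalRing.ResidueField P.O)) :=
    ⟨algebraMap_residue_surjective hP⟩
  have hsucc := hcolAt_succ_eq hK hP ht hHt hint
  rcases Nat.eq_zero_or_pos j with rfl | hjpos
  · constructor
    · intro h
      exfalso
      apply h
      refine Submodule.subset_span ⟨0, by simp, ?_⟩
      exact hcolAt_zero_eq_one hHt φ
    · rintro ⟨h, -⟩; exact absurd rfl h
  · have himg : hcolAt P Ht φ '' Set.Iio (j + 1) =
        (fun m => resMap P ι (ecol P t φ m)) '' Set.Iio j := by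
      ext w
      constructor
      · rintro ⟨m, hm, rfl⟩
        cases m with
        | zero =>
          refine ⟨0, hjpos, ?_⟩
          rw [hcolAt_zero_eq_one hHt φ]
          exact (hsucc 0).symm
        | succ m =>
          refine ⟨m, by simpa using hm, ?_⟩
          exact (hsucc m).symm
      · rintro ⟨m, hm, rfl⟩
        refine ⟨m + 1, by simpa using hm, ?_⟩
        exact hsucc m
    have h1 : IsJump (IsLocalRing.ResidueField P.O) (hcolAt P Ht φ) (j + 1) ↔
        IsJump (IsLocalRing.ResidueField P.O) (fun m => resMap P ι (ecol P t φ m)) j := by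
      unfold IsJump
      rw [himg, hsucc j]
      rfl
    rw [h1, isJump_semilinear_iff (resMap P ι) (resMap_injective P ι)]
    exact ⟨fun h => ⟨hjpos.ne', h⟩, fun h => h.2⟩

end hcolAt

end SV
end FunFld

namespace FunFld
namespace SV

open WithZero LocRes

variable {k K : Type*} [Field k] [Field K] [Algebra k K]

section adapted

variable [PerfectField k] (hK : IsFunctionField k K)
variable {P : Place k K} (hP : P.deg = 1) {t : K} (ht : P.1 t = exp (-1 : ℤ))
variable {Ht : K →ₐ[k] PowerSeries K} (hHt : IsHasseFamily t Ht)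

include hK hP ht hHt in
/-- The orders at `P` are the positive orders of elements of the span. -/
theorem mem_range_orders_iff {n : ℕ} {φ : Fin (n + 1) → K} (hint : ∀ i, P.1 (φ i) ≤ 1)
    {J' : Fin n → ℕ} (hJ' : IsOrders (IsLocalRing.ResidueField P.O) (hcolAt P Ht φ) J') (j : ℕ) :
    j ∈ Set.range J' ↔
      (j ≠ 0 ∧ ∃ f ∈ Submodule.span k (Set.range φ), P.1 f = exp (-(j : ℤ))) := by
  rw [hJ'.2 j, isJump_hcolAt_succ_iff hK hP ht hHt hint, isJump_ecol_iff hP ht hint]

include hK hP ht hHt in
/-- **S12607**: a basis of the span adapted to the orders at `P`. -/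
theorem exists_adapted_basis {n : ℕ} {φ : Fin (n + 1) → K} (hφ : LinearIndependent k φ)
    (heff : (1 : K) ∈ Submodule.span k (Set.range φ)) (hint : ∀ i, P.1 (φ i) ≤ 1)
    {J' : Fin n → ℕ} (hJ' : IsOrders (IsLocalRing.ResidueField P.O) (hcolAt P Ht φ) J') :
    (∃ φ' : Fin (n + 1) → K,
      Submodule.span k (Set.range φ') = Submodule.span k (Set.range φ) ∧
      P.1 (φ' 0) = 1 ∧ evalP P (φ' 0) = 1 ∧
      ∀ l : Fin n, P.1 (φ' l.succ) = exp (-(J' l : ℤ)) ∧
        evalP P (φ' l.succ / t ^ J' l) = 1) ∧
    ∀ j : ℕ, (j = 0 ∨ j ∈ Set.range J') ↔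
      ∃ f ∈ Submodule.span k (Set.range φ), P.1 f = exp (-(j : ℤ)) := by
  classical
  have hA := mem_range_orders_iff hK hP ht hHt hint hJ'
  have hJpos : ∀ l, J' l ≠ 0 := fun l => ((hA (J' l)).1 ⟨l, rfl⟩).1
  have hev1 : evalP P (1 : K) = 1 := by
    have := evalP_algebraMap P (1 : k)
    rwa [map_one, map_one] at this
  constructor
  · -- choose normalized elements of the prescribed orders
    have hex : ∀ l : Fin n, ∃ f ∈ Submodule.span k (Set.range φ),
        P.1 f = exp (-(J' l : ℤ)) ∧ evalP P (f / t ^ J' l) = 1 := by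
      intro l
      obtain ⟨f, hfW, hvf⟩ := ((hA (J' l)).1 ⟨l, rfl⟩).2
      have hg1 : P.1 (f / t ^ J' l) = 1 := by
        rw [map_div₀, hvf, v_t_pow ht]
        exact div_self exp_ne_zero
      have hne : evalP P (f / t ^ J' l) ≠ 0 := by
        rw [Ne, evalP_eq_zero_iff P hg1.le, hg1]
        exact lt_irrefl _
      obtain ⟨c, hc⟩ := algebraMap_residue_surjective hP (evalP P (f / t ^ J' l))
      have hc0 : c ≠ 0 := by
        rintro rfl
        rw [map_zero] at hc
        exact hne hc.symm
      refine ⟨c⁻¹ • f, Submodule.smul_mem _ _ hfW, ?_, ?_⟩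
      · rw [Algebra.smul_def, map_mul, P.v_algebraMap (inv_ne_zero hc0), one_mul, hvf]
      · rw [smul_div_assoc, evalP_smul P _ hg1.le, ← hc, Algebra.smul_def, ← map_mul,
          inv_mul_cancel₀ hc0, map_one]
    choose f' hf'W hf'v hf'e using hex
    set φ' : Fin (n + 1) → K := Fin.cons 1 f' with hφ'
    have hφ'0 : φ' 0 = 1 := rfl
    have hφ's : ∀ l : Fin n, φ' l.succ = f' l := fun l => rfl
    set e : Fin (n + 1) → ℕ := Fin.cons 0 J' with he
    have hemono : StrictMono e := by
      intro a b
      refine Fin.cases ?_ (fun l => ?_) a <;> refine Fin.cases ?_ (fun l' => ?_) b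
      · intro h; exact absurd h (lt_irrefl _)
      · intro _
        show (0 : ℕ) < J' l'
        exact Nat.pos_of_ne_zero (hJpos l')
      · intro h; exact absurd h (Fin.not_lt_zero _)
      · intro h
        show J' l < J' l'
        exact hJ'.1 (Fin.succ_lt_succ_iff.1 h)
    have hvφ' : ∀ a, P.1 (φ' a) = exp (-(e a : ℤ)) := by
      intro a
      refine Fin.cases ?_ (fun l => ?_) a
      · rw [hφ'0, map_one]
        show (1 : WithZero (Multiplicative ℤ)) = exp (-((0 : ℕ) : ℤ))
        simp
      · rw [hφ's, hf'v]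
        rfl
    have hanti : StrictAnti (fun a => P.1 (φ' a)) := by
      intro a b hab
      show P.1 (φ' b) < P.1 (φ' a)
      rw [hvφ', hvφ', exp_lt_exp]
      have := hemono hab
      omega
    have hne : ∀ a, φ' a ≠ 0 := by
      intro a h0
      have := hvφ' a
      rw [h0, map_zero] at this
      exact exp_ne_zero this.symm
    have hli' := linearIndependent_of_strictAnti P φ' hanti hne
    have hle : Submodule.span k (Set.range φ') ≤ Submodule.span k (Set.range φ) := by
      rw [Submodule.span_le]
      rintro _ ⟨a, rfl⟩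
      refine Fin.cases ?_ (fun l => ?_) a
      · exact heff
      · exact hf'W l
    have hfin : FiniteDimensional k (Submodule.span k (Set.range φ)) :=
      FiniteDimensional.span_of_finite k (Set.finite_range φ)
    have heq : Submodule.span k (Set.range φ') = Submodule.span k (Set.range φ) := by
      apply Submodule.eq_of_le_of_finrank_eq hle
      rw [finrank_span_eq_card hli', finrank_span_eq_card hφ]
    refine ⟨φ', heq, by rw [hφ'0, map_one], by rw [hφ'0]; exact hev1, fun l => ?_⟩
    rw [hφ's]
    exact ⟨hf'v l, hf'e l⟩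
  · intro j
    constructor
    · rintro (rfl | hj)
      · exact ⟨1, heff, by simp⟩
      · exact ((hA j).1 hj).2
    · rintro ⟨f, hfW, hvf⟩
      by_cases hj0 : j = 0
      · exact Or.inl hj0
      · exact Or.inr ((hA j).2 ⟨hj0, f, hfW, hvf⟩)

end adapted

end SV
end FunFld
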