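import Groth.Agent.Lib.Helper5.SV.Hasse

/-! Separating variables, formal unramifiedness and uniqueness of Hasse families (helper5). -/

set_option autoImplicit false

namespace FunFld
namespace SV

open LocRes

variable {k K : Type*} [Field k] [Field K] [Algebra k K]

section derivation

variable {s : K} {H : K →ₐ[k] PowerSeries K}

lemma hasseD_one_mul (hH : IsHasseFamily s H) (a b : K) :
    hasseD H 1 (a * b) = a * hasseD H 1 b + b * hasseD H 1 a := by
  rw [hasseD_mul]
  have : Finset.HasAntidiagonal.antidiagonal (1 : ℕ) = {(0, 1), (1, 0)} := by decide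
  rw [this, Finset.sum_insert (by decide), Finset.sum_singleton, hasseD_zero hH, hasseD_zero hH]
  ring

/-- The first Hasse derivative as a derivation. -/
noncomputable def hasseDer (hH : IsHasseFamily s H) : Derivation k K K where
  toLinearMap := hasseDₗ H 1
  map_one_eq_zero' := by
    show hasseD H 1 1 = 0
    rw [hasseD_apply, map_one, PowerSeries.coeff_one]
    simp
  leibniz' a b := by
    show hasseD H 1 (a * b) = a • hasseD H 1 b + b • hasseD H 1 a
    rw [hasseD_one_mul hH, smul_eq_mul, smul_eq_mul]

@[simp] lemma hasseDer_apply (hH : IsHasseFamily s H) (a : K) :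
    hasseDer hH a = hasseD H 1 a := rfl

lemma hasseD_one_self (hH : IsHasseFamily s H) : hasseD H 1 s = 1 := by
  rw [hasseD_apply, hH.1, map_add, PowerSeries.coeff_one_X, PowerSeries.coeff_C]
  simp

end derivation

section separating

open scoped IntermediateField.algebraAdjoinAdjoin

theorem essFiniteType (hK : IsFunctionField k K) : Algebra.EssFiniteType k K := by
  obtain ⟨⟨t, -, hfin⟩, -⟩ := hK
  have h1 : Algebra.FiniteType k (Algebra.adjoin k ({t} : Set K)) :=
    .adjoin_of_finite (Set.finite_singleton t)
  have h2 : Algebra.EssFiniteType (Algebra.adjoin k ({t} : Set K))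
      (IntermediateField.adjoin k ({t} : Set K)) :=
    .of_isLocalization _ (nonZeroDivisors _)
  have h3 : Algebra.EssFiniteType k (IntermediateField.adjoin k ({t} : Set K)) :=
    .comp _ (Algebra.adjoin k ({t} : Set K)) _
  exact .comp k (IntermediateField.adjoin k ({t} : Set K)) K

/-- Over a perfect constant field there is a separating element. -/
theorem exists_formallyUnramified_adjoin [PerfectField k] (hK : IsFunctionField k K) :
    ∃ x : K, Algebra.FormallyUnramified (Algebra.adjoin k ({x} : Set K)) K := by
  classical
  haveI := essFiniteType hK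
  obtain ⟨S, hS, hsep⟩ := exists_isTranscendenceBasis_and_isSeparable_of_perfectField k K
  obtain ⟨⟨t, ht, hfin⟩, -⟩ := hK
  -- the transcendence degree is one
  have halg : Algebra.IsAlgebraic (Algebra.adjoin k ({t} : Set K)) K := by
    have h1 : Algebra.IsAlgebraic (IntermediateField.adjoin k ({t} : Set K)) K :=
      Algebra.IsAlgebraic.of_finite _ _
    exact Algebra.IsAlgebraic.trans (Algebra.adjoin k ({t} : Set K))
      (IntermediateField.adjoin k ({t} : Set K)) K
  have hle : Algebra.trdeg k K ≤ 1 := by
    have := Algebra.IsAlgebraic.trdeg_le_cardinalMk k ({t} : Set K)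
    simpa using this
  have hge : 1 ≤ Algebra.trdeg k K := by
    have hai : AlgebraicIndependent k (fun _ : PUnit => t) :=
      algebraicIndependent_unique_type_iff.2 ht
    have := hai.cardinalMk_le_trdeg
    simpa using this
  have hcard : S.card = 1 := by
    have h1 := hS.cardinalMk_eq_trdeg
    rw [Cardinal.mk_coe_finset] at h1
    have h2 : (S.card : Cardinal) = 1 := by rw [h1]; exact le_antisymm hle hge
    exact_mod_cast h2
  obtain ⟨x, rfl⟩ := Finset.card_eq_one.1 hcard
  refine ⟨x, ?_⟩
  rw [Finset.coe_singleton] at hsep
  have h1 : Algebra.FormallyUnramified (IntermediateField.adjoin k ({x} : Set K)) K :=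
    .of_isSeparable _ _
  have h2 : Algebra.FormallyUnramified (Algebra.adjoin k ({x} : Set K))
      (IntermediateField.adjoin k ({x} : Set K)) :=
    .of_isLocalization (nonZeroDivisors _)
  exact .comp _ (IntermediateField.adjoin k ({x} : Set K)) _

end separating

section derivations

variable {M : Type*} [AddCommGroup M] [Module K M] [Module k M] [IsScalarTower k K M]

/-- A `k`-derivation killing a separating element vanishes. -/
theorem derivation_eq_zero_of_formallyUnramified {x : K}
    [Algebra.FormallyUnramified (Algebra.adjoin k ({x} : Set K)) K]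
    (δ : Derivation k K M) (hx : δ x = 0) : δ = 0 := by
  set A := Algebra.adjoin k ({x} : Set K) with hA
  have hvan : ∀ a ∈ A, δ a = 0 := by
    intro a ha
    have := Derivation.eqOn_adjoin (D1 := δ) (D2 := 0) (s := ({x} : Set K))
      (by intro y hy; rw [Set.mem_singleton_iff] at hy; rw [hy, hx]; rfl) ha
    simpa using this
  let δ' : Derivation A K M :=
    { toFun := δ
      map_add' := map_add δ
      map_smul' := fun a b => by
        show δ (a • b) = (algebraMap A K a) • δ b
        rw [Algebra.smul_def, Derivation.leibniz]
        have : δ (algebraMap A K a) = 0 := hvan _ a.2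
        rw [this, smul_zero, add_zero]
      map_one_eq_zero' := δ.map_one_eq_zero
      leibniz' := δ.leibniz }
  ext a
  have h1 : δ'.liftKaehlerDifferential (KaehlerDifferential.D A K a) = δ' a :=
    Derivation.liftKaehlerDifferential_comp_D δ' a
  have h2 : KaehlerDifferential.D A K a = 0 := Subsingleton.elim _ _
  rw [h2, map_zero] at h1
  exact h1.symm

/-- If `s` admits a total Hasse derivative, a `k`-derivation killing `s` vanishes. -/
theorem derivation_eq_zero_of_isHasseFamily [PerfectField k] (hK : IsFunctionField k K)
    {s : K} {H : K →ₐ[k] PowerSeries K} (hH : IsHasseFamily s H)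
    (δ : Derivation k K M) (hs : δ s = 0) : δ = 0 := by
  obtain ⟨x, hx⟩ := exists_formallyUnramified_adjoin hK
  have hDx : hasseDer hH x ≠ 0 := by
    intro h0
    have h1 := derivation_eq_zero_of_formallyUnramified (hasseDer hH) h0
    have h2 : hasseDer hH s = 1 := hasseD_one_self hH
    rw [h1] at h2
    exact zero_ne_one h2
  set m₀ : M := (hasseDer hH x)⁻¹ • δ x with hm₀
  set δ' : Derivation k K M := δ - (LinearMap.toSpanSingleton K M m₀).compDer (hasseDer hH)
    with hδ'
  have hδ'x : δ' x = 0 := by
    rw [hδ', Derivation.sub_apply]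
    show δ x - (hasseDer hH x) • m₀ = 0
    rw [hm₀, smul_smul, mul_inv_cancel₀ hDx, one_smul, sub_self]
  have hδ'0 := derivation_eq_zero_of_formallyUnramified δ' hδ'x
  have hδ : ∀ a, δ a = (hasseDer hH a) • m₀ := by
    intro a
    have := congrArg (fun D : Derivation k K M => D a) hδ'0
    simp only [hδ', Derivation.sub_apply, Derivation.zero_apply] at this
    rw [sub_eq_zero] at this
    exact this
  have hm0 : m₀ = 0 := by
    have := hδ s
    rw [hs, hasseDer_apply, hasseD_one_self hH, one_smul] at this
    exact this.symm
  ext a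
  rw [hδ a, hm0, smul_zero]
  rfl

end derivations

section main

/-- **Theorem S**: an element with a total Hasse derivative is separating. -/
theorem formallyUnramified_of_isHasseFamily [PerfectField k] (hK : IsFunctionField k K)
    {s : K} {H : K →ₐ[k] PowerSeries K} (hH : IsHasseFamily s H) :
    Algebra.FormallyUnramified (Algebra.adjoin k ({s} : Set K)) K := by
  set A := Algebra.adjoin k ({s} : Set K) with hA
  constructor
  let D' : Derivation k K (Ω[K⁄A]) := (KaehlerDifferential.D A K).restrictScalars k
  have hs : D' s = 0 := by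
    show KaehlerDifferential.D A K s = 0
    exact Derivation.map_algebraMap (KaehlerDifferential.D A K)
      (⟨s, Algebra.self_mem_adjoin_singleton k s⟩ : A)
  have h0 := derivation_eq_zero_of_isHasseFamily hK hH D' hs
  have hD : ∀ a, KaehlerDifferential.D A K a = 0 := by
    intro a
    have := congrArg (fun D : Derivation k K (Ω[K⁄A]) => D a) h0
    exact this
  have htop := KaehlerDifferential.span_range_derivation A K
  have hbot : Submodule.span K (Set.range (KaehlerDifferential.D A K)) = ⊥ := by
    rw [Submodule.span_eq_bot]
    rintro _ ⟨a, rfl⟩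
    exact hD a
  rw [hbot] at htop
  refine ⟨fun a b => ?_⟩
  have ha : a ∈ (⊤ : Submodule K (Ω[K⁄A])) := trivial
  have hb : b ∈ (⊤ : Submodule K (Ω[K⁄A])) := trivial
  rw [← htop, Submodule.mem_bot] at ha hb
  rw [ha, hb]

/-- **Theorem U**: uniqueness of liftings along a separating element. -/
theorem algHom_ext_of_formallyUnramified {s : K}
    [Algebra.FormallyUnramified (Algebra.adjoin k ({s} : Set K)) K]
    {B : Type*} [CommRing B] [Algebra k B] (I : Ideal B) (hI : ⨅ i, I ^ i = ⊥)
    (g₁ g₂ : K →ₐ[k] B) (hs : g₁ s = g₂ s) (hmod : ∀ x, g₁ x - g₂ x ∈ I) : g₁ = g₂ := by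
  set A := Algebra.adjoin k ({s} : Set K) with hA
  have heq : ∀ a ∈ A, g₁ a = g₂ a := by
    intro a ha
    have hle : A ≤ AlgHom.equalizer g₁ g₂ := by
      apply AlgHom.adjoin_le_equalizer
      intro y hy
      rw [Set.mem_singleton_iff] at hy
      rw [hy]; exact hs
    exact hle ha
  letI : Algebra A B := (g₁.toRingHom.comp (algebraMap A K)).toAlgebra
  let g₁' : K →ₐ[A] B := { g₁.toRingHom with commutes' := fun a => rfl }
  let g₂' : K →ₐ[A] B := { g₂.toRingHom with commutes' := fun a => (heq a a.2).symm }
  have h := Algebra.FormallyUnramified.ext_of_iInf (R := A) (A := K) I hI (g₁ := g₁') (g₂ := g₂')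
    (fun x => by
      rw [Ideal.Quotient.eq]
      exact hmod x)
  ext x
  exact congrArg (fun g : K →ₐ[A] B => g x) h

end main

end SV
end FunFld
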