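import Groth.Agent.Lib.Helper5.SV.WDivNonneg
import Groth.Agent.Lib.Helper5.SV.ExpandIso
import Groth.Agent.Lib.Helper5.SV.StrongFixed

/-! Counting strong fixed points by the Weierstrass divisor (helper5). -/

set_option autoImplicit false

namespace FunFld
namespace SV

open WithZero LocRes

variable {k K : Type*} [Field k] [Field K] [Algebra k K]
variable [IsAlgClosed k] (hK : IsFunctionField k K)

include hK in
/-- At a strong fixed point the Weierstrass divisor has coefficient at least `n`. -/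
theorem le_wDiv_of_strongFixedPt (τ : K →ₐ[k] K) {n : ℕ} (hn : 0 < n) (φ : Fin (n + 1) → K)
    (hφ : LinearIndependent k φ) (s : K) (H : K →ₐ[k] PowerSeries K) (hH : IsHasseFamily s H)
    (J : Fin n → ℕ) (hJ : IsOrders K (hcol τ H φ) J)
    (Φ : Place k K → (K →ₐ[k] LaurentSeries k))
    (hΦ : ∀ P : Place k K, IsExpansionAt P.1 (Φ P)) (P : Place k K)
    (hτ : IsStrongFixedPt τ P) : (n : ℤ) ≤ wDiv τ H Φ s φ J P := by
  classical
  obtain ⟨t, Ht, y, J', ht, hHt, hy0, hli, heff, hnorm, hJ', -⟩ := exists_setup_at hK P φ hφ hH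
  set φ' : Fin (n + 1) → K := y • φ with hφ'
  have hinv : wDiv τ Ht Φ t φ' J = wDiv τ H Φ s φ J :=
    wDiv_invariant hK φ hφ τ s H hH t Ht hHt J hJ 1 (by rw [Matrix.det_one]; exact one_ne_zero)
      y hy0 φ' (fun i => by
        simp only [hφ', Pi.smul_apply, smul_eq_mul, Matrix.one_apply]
        congr 1
        rw [Finset.sum_eq_single i]
        · rw [if_pos rfl, one_smul]
        · intro j _ hj
          rw [if_neg (Ne.symm hj), zero_smul]
        · intro h; exact absurd (Finset.mem_univ i) h) Φ hΦ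
  rw [← hinv]
  have hP := Place.deg_eq_one_of_isAlgClosed hK P
  have hJt : IsOrders K (hcol τ Ht φ') J := by
    have h1 : IsOrders K (hcol τ Ht φ) J := (isOrders_chain_iff hK τ hH hHt φ J).2 hJ
    exact (isOrders_smul_iff τ hHt φ hy0 J).2 h1
  have hfix : IsFixedPt τ P := strongFixedPt_isFixedPt hτ
  have h1 := (le_wDiv_apply_fixedPt hK τ P hfix φ' hli heff hnorm t ht Ht hHt J hJt J' hJ' Φ hΦ).1
  have h2 := orders_add_le_of_strongFixedPt hK τ P hτ hn φ' hli heff hnorm t ht Ht hHt J hJt J' hJ'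
  have h3 : 0 < J' ⟨0, hn⟩ := by
    have := ((mem_range_orders_iff hK hP ht hHt hnorm hJ' (J' ⟨0, hn⟩)).1 ⟨_, rfl⟩).1
    omega
  refine le_trans ?_ h1
  have : ∀ l : Fin n, (1 : ℤ) ≤ (J' l : ℤ) - J l := by
    intro l
    have := h2 l
    omega
  calc (n : ℤ) = ∑ _l : Fin n, (1 : ℤ) := by simp
    _ ≤ ∑ l, ((J' l : ℤ) - J l) := Finset.sum_le_sum fun l _ => this l

end SV
end FunFld
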