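import Groth.Agent.Lib.Helper5.SV.Canonical
import Groth.Agent.Lib.Helper5.SV.Invariance
import Groth.Agent.Lib.Helper5.SV.Classical
import Groth.Agent.Lib.Helper5.SV.WDivLocal
import Groth.Agent.Lib.Helper5.FunFld.Twist

/-! Nonnegativity and degree of the Weierstrass divisor (helper5). -/

set_option autoImplicit false

namespace FunFld
namespace SV

open WithZero LocRes

variable {k K : Type*} [Field k] [Field K] [Algebra k K]

/-- The determinant of a matrix with integral entries is integral. -/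
lemma v_det_le_one (P : Place k K) {m : ℕ} (M : Matrix (Fin m) (Fin m) K)
    (h : ∀ i j, P.1 (M i j) ≤ 1) : P.1 M.det ≤ 1 := by
  let M' : Matrix (Fin m) (Fin m) P.O := Matrix.of fun i j => ⟨M i j, P.mem_O_iff.2 (h i j)⟩
  have hM : M = M'.map (algebraMap P.O K) := by
    ext i j; rfl
  rw [hM, ← RingHom.mapMatrix_apply, ← RingHom.map_det]
  exact P.mem_O_iff.1 (Subtype.mem _)

/-- A determinant whose first column is bounded by `c` and whose other entries are integral is
bounded by `c`. -/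
lemma v_det_le_of_col_zero (P : Place k K) {m : ℕ} (M : Matrix (Fin (m + 1)) (Fin (m + 1)) K)
    (c : ℤᵐ⁰) (h0 : ∀ i, P.1 (M i 0) ≤ c) (h : ∀ i (j : Fin m), P.1 (M i j.succ) ≤ 1) :
    P.1 M.det ≤ c := by
  rw [Matrix.det_succ_column_zero]
  apply Valuation.map_sum_le
  intro i _
  rw [map_mul, map_mul, map_pow, Valuation.map_neg, map_one, one_pow, one_mul]
  calc P.1 (M i 0) * P.1 (M.submatrix i.succAbove Fin.succ).det ≤ c * 1 :=
        mul_le_mul' (h0 i) (v_det_le_one P _ (fun a b => h _ _))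
    _ = c := mul_one c

variable [IsAlgClosed k] (hK : IsFunctionField k K)

include hK in
/-- **S12603** (nonnegativity): the Weierstrass divisor is effective. -/
theorem wDiv_nonneg {n : ℕ} (φ : Fin (n + 1) → K) (hφ : LinearIndependent k φ)
    (τ : K →ₐ[k] K) (s : K) (H : K →ₐ[k] PowerSeries K) (hH : IsHasseFamily s H)
    (J : Fin n → ℕ) (hJ : IsOrders K (hcol τ H φ) J)
    (Φ : Place k K → (K →ₐ[k] LaurentSeries k))
    (hΦ : ∀ P : Place k K, IsExpansionAt P.1 (Φ P)) :
    0 ≤ wDiv τ H Φ s φ J := by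
  classical
  intro P
  obtain ⟨t, Ht, y, J', ht, hHt, hy0, hli, heff, hnorm, -, -⟩ := exists_setup_at hK P φ hφ hH
  set φ' : Fin (n + 1) → K := y • φ with hφ'
  have hinv : wDiv τ Ht Φ t φ' J = wDiv τ H Φ s φ J :=
    wDiv_invariant hK φ hφ τ s H hH t Ht hHt J hJ 1 (by rw [Matrix.det_one]; exact one_ne_zero)
      y hy0 φ' (fun i => by
        simp only [hφ', Pi.smul_apply, smul_eq_mul, Matrix.one_apply]
        congr 1
        rw [Finset.sum_eq_single i]
        · rw [if_pos rfl, one_smul]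
        · intro j _ hj
          rw [if_neg (Ne.symm hj), zero_smul]
        · intro h; exact absurd (Finset.mem_univ i) h) Φ hΦ
  rw [← hinv]
  have hP := Place.deg_eq_one_of_isAlgClosed hK P
  have hφ'0 : ∀ i, φ' i ≠ 0 := fun i => hli.ne_zero i
  have hJt : IsOrders K (hcol τ Ht φ') J := by
    have h1 : IsOrders K (hcol τ Ht φ) J := (isOrders_chain_iff hK τ hH hHt φ J).2 hJ
    exact (isOrders_smul_iff τ hHt φ hy0 J).2 h1
  have hdet0 : (wrMat τ Ht φ' J).det ≠ 0 := det_wrMat_ne_zero_of_isOrders hli τ Ht hJt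
  have h1 : mapDiv k φ' P = 0 := mapDiv_eq_zero_of_normalized hK hφ'0 P heff hnorm
  have h3 : divDiff Φ 1 t P = 0 := divDiff_one_self_apply hK ht hHt hΦ
  have h2 : mapDiv k (τ ∘ φ') P = -minOrd (τ ∘ φ') P := mapDiv_apply hK _ P
  show (0 : ℤ) ≤ (wDiv τ Ht Φ t φ' J) P
  unfold wDiv
  simp only [Finsupp.coe_add, Pi.add_apply, Finsupp.coe_smul, Pi.smul_apply, h1, h3, smul_zero,
    add_zero, div_apply hK, h2]
  -- bound the determinant
  have hτφ0 : ∀ i, τ (φ' i) ≠ 0 := fun i => (map_ne_zero τ).2 (hφ'0 i)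
  have hcol : ∀ i, P.1 ((wrMat τ Ht φ' J) i 0) ≤ exp (-(minOrd (τ ∘ φ') P)) := by
    intro i
    show P.1 (τ (φ' i)) ≤ _
    rw [P.v_le_exp_iff (hτφ0 i), neg_neg]
    exact minOrd_le (τ ∘ φ') P i
  have hrest : ∀ i (l : Fin n), P.1 ((wrMat τ Ht φ' J) i l.succ) ≤ 1 := by
    intro i l
    show P.1 (hasseD Ht (J l) (φ' i)) ≤ 1
    exact v_hasseD_le_one hK hP ht hHt (hnorm i) (J l)
  have := v_det_le_of_col_zero P _ _ hcol hrest
  rw [P.v_le_exp_iff hdet0, neg_neg] at this
  omega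

end SV
end FunFld
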