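import Groth.Agent.Lib.Helper5.SV.LocalOrders

/-! Determinants of matrices of functions with weighted order bounds at a place (helper5). -/

set_option autoImplicit false

namespace FunFld
namespace SV

open WithZero LocRes

variable {k K : Type*} [Field k] [Field K] [Algebra k K]

lemma exp_sum {ι : Type*} (s : Finset ι) (f : ι → ℤ) :
    (exp (∑ i ∈ s, f i) : WithZero (Multiplicative ℤ)) = ∏ i ∈ s, exp (f i) := by
  classical
  induction s using Finset.induction_on with
  | empty => simp
  | insert a s ha ih => rw [Finset.sum_insert ha, Finset.prod_insert ha, exp_add, ih]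

section weights

variable (P : Place k K) {t : K} (ht : P.1 t = exp (-1 : ℤ))

include ht in
lemma v_t_zpow (m : ℤ) : P.1 (t ^ m) = exp (-m) := by
  rw [map_zpow₀, ht, ← exp_zsmul]
  congr 1
  simp

include ht in
/-- **Weights lemma**: if the entries of `M` satisfy `ord (M r c) ≥ a r - b c`, then
`ord (det M) ≥ ∑ a - ∑ b`, with equality iff the matrix of leading coefficients is
nonsingular. -/
theorem det_weights {m : Type*} [Fintype m] [DecidableEq m] (M : Matrix m m K) (a b : m → ℤ)
    (hM : ∀ r c, P.1 (M r c) ≤ exp (-(a r - b c))) :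
    P.1 M.det ≤ exp (-(∑ r, a r - ∑ c, b c)) ∧
    (P.1 M.det = exp (-(∑ r, a r - ∑ c, b c)) ↔
      (Matrix.of fun r c => evalP P (M r c * t ^ (b c - a r))).det ≠ 0) := by
  have ht0 : t ≠ 0 := t_ne_zero ht
  set N : Matrix m m K := Matrix.of fun r c => M r c * t ^ (b c - a r) with hN
  have hNle : ∀ r c, P.1 (N r c) ≤ 1 := by
    intro r c
    show P.1 (M r c * t ^ (b c - a r)) ≤ 1
    rw [map_mul, v_t_zpow P ht]
    calc P.1 (M r c) * exp (-(b c - a r)) ≤ exp (-(a r - b c)) * exp (-(b c - a r)) :=
          mul_le_mul_left (hM r c) _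
      _ = 1 := by rw [← exp_add]; simp
  set N' : Matrix m m P.O := Matrix.of fun r c => ⟨N r c, P.mem_O_iff.2 (hNle r c)⟩ with hN'
  have hNN' : N = N'.map (algebraMap P.O K) := by ext r c; rfl
  have hdetN : N.det = algebraMap P.O K N'.det := by
    rw [hNN', RingHom.map_det]; rfl
  have hM_eq : M = Matrix.diagonal (fun r => t ^ (a r)) * N *
      Matrix.diagonal (fun c => t ^ (-(b c))) := by
    ext r c
    rw [Matrix.mul_diagonal, Matrix.diagonal_mul]
    show M r c = t ^ a r * (M r c * t ^ (b c - a r)) * t ^ (-(b c))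
    rw [zpow_sub₀ ht0, zpow_neg]
    field_simp
  have hvdetM : P.1 M.det = exp (-(∑ r, a r - ∑ c, b c)) * P.1 N.det := by
    rw [hM_eq, Matrix.det_mul, Matrix.det_mul, Matrix.det_diagonal, Matrix.det_diagonal,
      map_mul, map_mul, map_prod, map_prod]
    simp only [v_t_zpow P ht]
    rw [← exp_sum, ← exp_sum, mul_comm (exp _) (P.1 N.det), mul_assoc, ← exp_add,
      mul_comm]
    congr 2
    simp only [neg_neg, Finset.sum_neg_distrib]
    ring
  have hdetNle : P.1 N.det ≤ 1 := by
    rw [hdetN]; exact P.mem_O_iff.1 N'.det.2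
  have hres : (Matrix.of fun r c => evalP P (M r c * t ^ (b c - a r))) =
      N'.map (IsLocalRing.residue P.O) := by
    ext r c
    show evalP P (N r c) = _
    rw [evalP_of_le P (hNle r c)]
    rfl
  have hdetres : (Matrix.of fun r c => evalP P (M r c * t ^ (b c - a r))).det =
      IsLocalRing.residue P.O N'.det := by
    rw [hres, RingHom.map_det]; rfl
  constructor
  · rw [hvdetM]
    calc exp (-(∑ r, a r - ∑ c, b c)) * P.1 N.det ≤ exp (-(∑ r, a r - ∑ c, b c)) * 1 :=
          mul_le_mul_right hdetNle _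
      _ = _ := mul_one _
  · rw [hvdetM, hdetres, Ne, P.residue_eq_zero_iff, not_lt]
    have hN1 : P.1 (N'.det : K) = P.1 N.det := by rw [hdetN]; rfl
    rw [hN1]
    constructor
    · intro h
      have : P.1 N.det = 1 := by
        have h2 : exp (-(∑ r, a r - ∑ c, b c)) * P.1 N.det =
            exp (-(∑ r, a r - ∑ c, b c)) * 1 := by rw [h, mul_one]
        exact mul_left_cancel₀ exp_ne_zero h2
      exact this.ge
    · intro h
      rw [le_antisymm hdetNle h, mul_one]

end weights

end SV
end FunFld
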